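import Cfsg.Agent.Lib.Invol.CentRank.Fusion
import Cfsg.Agent.Lib.Transfer.UnitaryFour.Local
import Cfsg.Agent.Lib.Grp.BalanceReduction
import Cfsg.Agent.Lib.Grp.FpfThree.Signalizer

/-!
# Sylow 2-subgroup of `PSU(3,4)` shape with `FourUnique`: the centralisers of involutions

`A = Z(S)` is a four-group, `C(A)` normalises `S`, and `C(t) = O(C t) C(A)` for every involution `t` of `A`.  An odd
subgroup normalised by `S` meets `C(t)` inside the core.
-/

set_option autoImplicit false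
set_option linter.unusedSectionVars false
set_option linter.style.haveILetI false

open Subgroup

namespace Cfsg.Agent.Invol.G1Local

open Transfer.UnitaryFour CentRank

universe u

variable {G : Type u} [Group G] [Finite G]

/-- The hypotheses. -/
structure Ctx (S : Sylow 2 G) : Prop where
  shape : Shape ↥(S : Subgroup G)
  four : FourUnique G

/-- The odd core of the centraliser of `A`. -/
def dcore (S : Sylow 2 G) : Subgroup G :=
  (Cfsg.pPrimeCore 2 ↥(centralizer (cen S : Set G))).map (centralizer (cen S : Set G)).subtype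

variable {S : Sylow 2 G}

theorem dcore_le : dcore S ≤ centralizer (cen S : Set G) := map_subtype_le _

theorem dcore_odd : Odd (Nat.card (dcore S)) := by
  rw [dcore, card_map_of_injective (centralizer (cen S : Set G)).subtype_injective]
  exact oddCore_odd

theorem dcore_conj {c d : G} (hc : c ∈ centralizer (cen S : Set G)) (hd : d ∈ dcore S) :
    c * d * c⁻¹ ∈ dcore S := by
  obtain ⟨y, hy, rfl⟩ := hd
  exact ⟨_, (Grp.pPrimeCore_isNormal (p := 2)).conj_mem y hy ⟨c, hc⟩, rfl⟩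

theorem le_dcore {N : Subgroup G} (hN : N ≤ centralizer (cen S : Set G))
    (hn : ∀ c ∈ centralizer (cen S : Set G), ∀ y ∈ N, c * y * c⁻¹ ∈ N) (ho : Odd (Nat.card N)) :
    N ≤ dcore S := by
  have h1 : (N.subgroupOf (centralizer (cen S : Set G))).Normal :=
    ⟨fun y hy c => mem_subgroupOf.2 (hn c c.2 y (mem_subgroupOf.1 hy))⟩
  have h2 := Grp.le_pPrimeCore (p := 2) h1 (by
    rw [Nat.card_congr (subgroupOfEquivOfLe hN).toEquiv]
    exact Nat.coprime_two_right.2 ho)
  exact fun x hx => ⟨⟨x, hN hx⟩, h2 hx, rfl⟩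

theorem le_core {t : G} {N : Subgroup G} (hN : N ≤ centralizer ({t} : Set G))
    (hn : ∀ c ∈ centralizer ({t} : Set G), ∀ y ∈ N, c * y * c⁻¹ ∈ N) (ho : Odd (Nat.card N)) :
    N ≤ Cfsg.centralizerPPrimeCore 2 t := by
  have h1 : (N.subgroupOf (centralizer ({t} : Set G))).Normal :=
    ⟨fun y hy c => mem_subgroupOf.2 (hn c c.2 y (mem_subgroupOf.1 hy))⟩
  have h2 := Grp.le_pPrimeCore (p := 2) h1 (by
    rw [Nat.card_congr (subgroupOfEquivOfLe hN).toEquiv]
    exact Nat.coprime_two_right.2 ho)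
  exact fun x hx => ⟨⟨x, hN hx⟩, h2 hx, rfl⟩

theorem core_conj {t c y : G} (hc : c ∈ centralizer ({t} : Set G))
    (hy : y ∈ Cfsg.centralizerPPrimeCore 2 t) : c * y * c⁻¹ ∈ Cfsg.centralizerPPrimeCore 2 t :=
  (mem_normalizer_iff.1 (centralizer_le_normalizer_core t hc) y).1 hy

theorem core_map {t n : G} :
    (Cfsg.centralizerPPrimeCore 2 t).map (MulAut.conj n).toMonoidHom =
      Cfsg.centralizerPPrimeCore 2 (n * t * n⁻¹) := by
  have key : ∀ n t : G, (Cfsg.centralizerPPrimeCore 2 t).map (MulAut.conj n).toMonoidHom ≤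
      Cfsg.centralizerPPrimeCore 2 (n * t * n⁻¹) := by
    intro n t
    refine le_core ?_ (fun c hc y hy => ?_) (by
      rw [card_map_of_injective (MulAut.conj n).injective]; exact centralizerCore_odd t)
    · rintro _ ⟨y, hy, rfl⟩
      exact mem_centralizer_singleton_iff.2
        (((show Commute y t from mem_centralizer_singleton_iff.1 (centralizerCore_le t hy))).map
          (MulAut.conj n).toMonoidHom).eq
    · obtain ⟨y, hy, rfl⟩ := hy
      have hct : n⁻¹ * c * n ∈ centralizer ({t} : Set G) := by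
        refine mem_centralizer_singleton_iff.2 ?_
        calc n⁻¹ * c * n * t = n⁻¹ * (c * (n * t * n⁻¹)) * n := by group
          _ = n⁻¹ * ((n * t * n⁻¹) * c) * n := by rw [mem_centralizer_singleton_iff.1 hc]
          _ = t * (n⁻¹ * c * n) := by group
      exact ⟨_, core_conj hct hy, by simp [mul_assoc]⟩
  refine le_antisymm (key n t) fun y hy => ?_
  have h1 := key n⁻¹ (n * t * n⁻¹) ⟨y, hy, rfl⟩
  rw [show n⁻¹ * (n * t * n⁻¹) * n⁻¹⁻¹ = t by group] at h1
  exact ⟨_, h1, by simp [mul_assoc]⟩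

theorem core_conj_mem {t n y : G} (hy : y ∈ Cfsg.centralizerPPrimeCore 2 t) :
    n * y * n⁻¹ ∈ Cfsg.centralizerPPrimeCore 2 (n * t * n⁻¹) :=
  core_map (t := t) (n := n) ▸ ⟨y, hy, rfl⟩

namespace Ctx

variable (h : Ctx S)
include h

theorem cen_sq {v : G} (hv : v ∈ cen S) : v * v = 1 :=
  congrArg Subtype.val (h.shape.exp _ ((mem_cen (cen_le hv)).1 hv))

theorem cen_inv {v : G} (hv : v ∈ cen S) : v⁻¹ = v := inv_eq_of_mul_eq_one_right (h.cen_sq hv)

theorem mem_cen_of_sq {x : G} (hx : x ∈ (S : Subgroup G)) (h1 : x * x = 1) : x ∈ cen S :=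
  (mem_cen hx).2 (h.shape.inv _ (Subtype.ext h1))

theorem sq_mem {x : G} (hx : x ∈ (S : Subgroup G)) : x * x ∈ cen S := ⟨_, h.shape.sq ⟨x, hx⟩, rfl⟩

theorem comm_mem {a b : G} (ha : a ∈ (S : Subgroup G)) (hb : b ∈ (S : Subgroup G)) :
    a * b * a⁻¹ * b⁻¹ ∈ cen S :=
  ⟨_, h.shape.comm ⟨a, ha⟩ ⟨b, hb⟩, rfl⟩

theorem full {w v : G} (hw : w ∈ (S : Subgroup G)) (hwc : w ∉ cen S) (hv : v ∈ cen S) :
    ∃ y ∈ (S : Subgroup G), y * w * y⁻¹ = v * w := by
  obtain ⟨y, hy⟩ := h.shape.full ⟨w, hw⟩ (fun hh => hwc ((mem_cen hw).2 hh)) ⟨v, cen_le hv⟩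
    ((mem_cen (cen_le hv)).1 hv)
  exact ⟨y, y.2, congrArg Subtype.val hy⟩

theorem card_cen : Nat.card (cen S) = 4 := by
  rw [cen, Subgroup.card_map_of_injective (S : Subgroup G).subtype_injective, h.shape.centre]

theorem orderOf_cen {v : G} (hv : v ∈ cen S) (h1 : v ≠ 1) : orderOf v = 2 :=
  orderOf_eq_prime (by rw [pow_two, h.cen_sq hv]) h1

theorem cen_eq_zg : cen S = zg S := by
  ext x
  refine ⟨fun hx => mem_zg.2 ⟨cen_le hx, h.cen_sq hx, fun s hs => (comm_of_cen hx hs).symm⟩, fun hx => ?_⟩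
  exact h.mem_cen_of_sq (zg_le S hx) (mem_zg.1 hx).2.1

theorem mem_zg {x : G} (hx : x ∈ cen S) : x ∈ zg S := h.cen_eq_zg ▸ hx

theorem exists_other {t : G} (ht : t ∈ cen S) : ∃ a ∈ cen S, a ≠ 1 ∧ a ≠ t := by
  by_contra hno
  push Not at hno
  have h2 : (cen S : Set G) ⊆ {1, t} := fun x hx => by
    by_cases hx1 : x = 1
    · exact Or.inl hx1
    · exact Or.inr (hno x hx hx1)
  have h3 := Set.ncard_le_ncard h2 (Set.toFinite _)
  rw [show (cen S : Set G).ncard = Nat.card (cen S) from rfl, h.card_cen] at h3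
  exact absurd (h3.trans (Set.ncard_insert_le _ _)) (by rw [Set.ncard_singleton]; norm_num)

theorem eq_or {t a v : G} (ht : t ∈ cen S) (ha : a ∈ cen S) (ht1 : t ≠ 1) (ha1 : a ≠ 1) (hat : a ≠ t)
    (hv : v ∈ cen S) : v = 1 ∨ v = t ∨ v = a ∨ v = t * a := by
  classical
  have h1 : t * a ≠ 1 := fun e => hat (by rw [eq_inv_of_mul_eq_one_right e, h.cen_inv ht])
  have h2 : t * a ≠ t := fun e => ha1 (mul_eq_left.1 e)
  have h3 : t * a ≠ a := fun e => ht1 (mul_eq_right.1 e)
  have hsub : ({1, t, a, t * a} : Set G) ⊆ (cen S : Set G) := by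
    rintro x (rfl | rfl | rfl | rfl)
    · exact one_mem _
    · exact ht
    · exact ha
    · exact mul_mem ht ha
  have hc : ({1, t, a, t * a} : Set G).ncard = 4 := by
    rw [Set.ncard_insert_of_notMem (by simp [Ne.symm ht1, Ne.symm ha1, Ne.symm h1]),
      Set.ncard_insert_of_notMem (by simp [Ne.symm hat, Ne.symm h2]), Set.ncard_pair (Ne.symm h3)]
  have := Set.eq_of_subset_of_ncard_le hsub
    (by rw [hc, show (cen S : Set G).ncard = Nat.card (cen S) from rfl, h.card_cen]) (Set.toFinite _)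
  have hv' : v ∈ ({1, t, a, t * a} : Set G) := this ▸ hv
  simpa using hv'

theorem invol_mem {v : G} (hv : v ∈ (S : Subgroup G)) (hv2 : orderOf v = 2) : v ∈ cen S :=
  h.mem_cen_of_sq hv (mul_self_of_orderOf_two hv2)

/-- An element moving two involutions of `A` into `S` normalises `S`. -/
theorem mem_normalizer {t a g : G} (ht : t ∈ cen S) (ha : a ∈ cen S) (ht1 : t ≠ 1) (ha1 : a ≠ 1) (hat : a ≠ t)
    (hgt : g * t * g⁻¹ ∈ (S : Subgroup G)) (hga : g * a * g⁻¹ ∈ (S : Subgroup G)) :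
    g ∈ normalizer ((S : Subgroup G) : Set G) :=
  mem_normalizer_of_pair h.four (h.mem_zg ht) ht1 (h.orderOf_cen ha ha1) (cen_le ha) hat hgt hga

theorem eq_of_mem {t a : G} {T : Sylow 2 G} (ht : t ∈ cen S) (ha : a ∈ cen S) (ht1 : t ≠ 1) (ha1 : a ≠ 1)
    (hat : a ≠ t) (htT : t ∈ (T : Subgroup G)) (haT : a ∈ (T : Subgroup G)) : T = S :=
  CentRank.eq_of_mem h.four (h.mem_zg ht) ht1 (h.orderOf_cen ha ha1) (cen_le ha) hat htT haT

theorem centralizer_cen_le : centralizer (cen S : Set G) ≤ normalizer ((S : Subgroup G) : Set G) := by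
  intro g hg
  obtain ⟨t, ht, ht1, -⟩ := h.exists_other (one_mem (cen S))
  obtain ⟨a, ha, ha1, hat⟩ := h.exists_other ht
  have e : ∀ v ∈ cen S, g * v * g⁻¹ = v := fun v hv => by
    rw [← mem_centralizer_iff.1 hg v hv, mul_inv_cancel_right]
  exact h.mem_normalizer ht ha ht1 ha1 hat (by rw [e t ht]; exact cen_le ht) (by rw [e a ha]; exact cen_le ha)

theorem S_le_centralizer_cen : (S : Subgroup G) ≤ centralizer (cen S : Set G) := fun s hs =>
  mem_centralizer_iff.2 fun _ hv => comm_of_cen hv hs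

/-- An odd element centralising `S` lies in `O(C A)`. -/
theorem mem_dcore {d : G} (hd : d ∈ centralizer ((S : Subgroup G) : Set G)) (ho : Odd (orderOf d)) :
    d ∈ dcore S := by
  haveI : Fact (Nat.Prime 2) := ⟨Nat.prime_two⟩
  set C := centralizer ((S : Subgroup G) : Set G) with hC
  obtain ⟨P⟩ : Nonempty (Sylow 2 C) := inferInstance
  have hPc : ∀ p ∈ (P : Subgroup C), ∀ c : C, p * c = c * p := by
    intro p hp c
    obtain ⟨k, hk⟩ := P.isPGroup' ⟨p, hp⟩
    have hp' : IsPGroup 2 ↥(zpowers (p : G)) := by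
      refine IsPGroup.of_card (n := (Nat.card ↥(zpowers (p : G))).factorization 2) ?_
      obtain ⟨j, -, hj⟩ := (Nat.dvd_prime_pow Nat.prime_two).1
        (orderOf_dvd_of_pow_eq_one (show (p : G) ^ 2 ^ k = 1 from
          congrArg (fun q : ↥(P : Subgroup C) => ((q : C) : G)) hk))
      rw [Nat.card_zpowers, hj, Nat.Prime.factorization_pow Nat.prime_two, Finsupp.single_eq_same]
    have hpn : zpowers (p : G) ≤ normalizer ((S : Subgroup G) : Set G) :=
      zpowers_le.2 (centralizer_le_normalizer _ (p : C).2)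
    have hpS : (p : G) ∈ (S : Subgroup G) :=
      S.is_maximal' (hp'.to_sup_of_normal_right' S.isPGroup' hpn) le_sup_right ▸
        mem_sup_left (mem_zpowers _)
    exact Subtype.ext (mem_centralizer_iff.1 c.2 (p : G) hpS)
  have hle : normalizer ((P : Subgroup C) : Set C) ≤ centralizer ((P : Subgroup C) : Set C) :=
    fun c _ => mem_centralizer_iff.2 fun p hp => hPc p hp c
  set N := (MonoidHom.transferSylow P hle).ker with hN
  have hNodd : ¬ 2 ∣ Nat.card N := MonoidHom.not_dvd_card_ker_transferSylow P hle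
  have hmem : ∀ y : C, Odd (orderOf y) → y ∈ N := fun y hy => by
    rw [hN, MonoidHom.mem_ker]
    obtain ⟨k, hk⟩ := IsPGroup.iff_orderOf.1 P.isPGroup' (MonoidHom.transferSylow P hle y)
    refine orderOf_eq_one_iff.1 ?_
    rw [hk]
    rcases k with _ | k
    · rfl
    · exact absurd (hy.of_dvd_nat (hk ▸ orderOf_map_dvd _ y))
        (Nat.not_odd_iff_even.2 ⟨2 ^ k, by rw [pow_succ]; ring⟩)
  have hNo : ∀ y ∈ N, Odd (orderOf y) := fun y hy =>
    (Nat.odd_iff.2 (by omega : Nat.card N % 2 = 1)).of_dvd_nat (N.orderOf_dvd_natCard hy)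
  have hle' : N.map C.subtype ≤ dcore S := by
    refine le_dcore ?_ ?_ ?_
    · rintro _ ⟨y, -, rfl⟩
      exact centralizer_le (cen_le (S := S)) y.2
    · rintro c hc _ ⟨y, hy, rfl⟩
      have hcn := h.centralizer_cen_le hc
      have hyC : c * (y : G) * c⁻¹ ∈ C := mem_centralizer_iff.2 fun s hs => by
        have hs' := (mem_normalizer_iff''.1 hcn s).1 hs
        calc s * (c * (y : G) * c⁻¹) = c * (c⁻¹ * s * c * y) * c⁻¹ := by group
          _ = c * (y * (c⁻¹ * s * c)) * c⁻¹ := by rw [mem_centralizer_iff.1 y.2 _ hs']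
          _ = c * (y : G) * c⁻¹ * s := by group
      refine ⟨⟨_, hyC⟩, hmem _ ?_, rfl⟩
      rw [← Subgroup.orderOf_coe, Invol.orderOf_conj_eq, Subgroup.orderOf_coe]
      exact hNo y hy
    · rw [card_map_of_injective C.subtype_injective]
      exact Nat.odd_iff.2 (by omega)
  exact hle' ⟨⟨d, hd⟩, hmem _ (by rwa [Subgroup.orderOf_mk]), rfl⟩

theorem S_le_normalizer_dcore : (S : Subgroup G) ≤ normalizer (dcore S : Set G) := fun s hs =>
  mem_normalizer_iff.2 fun y => ⟨dcore_conj (h.S_le_centralizer_cen hs), fun hy => by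
    have := dcore_conj (inv_mem (h.S_le_centralizer_cen hs)) hy
    simpa [mul_assoc] using this⟩

theorem dcore_centralizes {d s : G} (hd : d ∈ dcore S) (hs : s ∈ (S : Subgroup G)) : s * d = d * s :=
  centralizes_of_normalizer dcore_odd h.S_le_normalizer_dcore (dcore_le.trans h.centralizer_cen_le) hd hs

/-- `C(t) = O(C t) C(A)`. -/
theorem cover {t c : G} (ht : t ∈ cen S) (ht1 : t ≠ 1) (hc : c ∈ centralizer ({t} : Set G)) :
    ∃ k ∈ Cfsg.centralizerPPrimeCore 2 t, ∃ d ∈ centralizer (cen S : Set G), c = k * d := by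
  haveI : Fact (Nat.Prime 2) := ⟨Nat.prime_two⟩
  set C := centralizer ({t} : Set G) with hC
  obtain ⟨a, ha, ha1, hat⟩ := h.exists_other ht
  have haC : a ∈ C := Hyp.le_cent ht (cen_le ha)
  have htC : t ∈ C := Hyp.le_cent ht (cen_le ht)
  have hiso : Cfsg.IsIsolatedInvolution (⟨a, haC⟩ : C) := by
    refine ZStar.isIsolated_of_sylow (P := S.subtype (Hyp.le_cent ht)) (show (⟨a, haC⟩ : C) ∈ ((S.subtype (Hyp.le_cent ht) : Sylow 2 C) : Subgroup C) from cen_le (S := S) ha)
      (by rw [Subgroup.orderOf_mk, h.orderOf_cen ha ha1]) fun g hg => Subtype.ext ?_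
    show (g : G) * a * (g : G)⁻¹ = a
    have hgS : (g : G) * a * (g : G)⁻¹ ∈ (S : Subgroup G) := hg
    have hgt : (g : G) * t * (g : G)⁻¹ = t := by
      rw [mem_centralizer_singleton_iff.1 g.2, mul_inv_cancel_right]
    have hgn := h.mem_normalizer ht ha ht1 ha1 hat (by rw [hgt]; exact cen_le ht) hgS
    rcases h.eq_or ht ha ht1 ha1 hat (Hyp.cen_normal hgn ha) with e | e | e | e
    · exact absurd (conj_eq_one_iff.1 e) ha1
    · exact absurd (mul_left_cancel (mul_right_cancel (e.trans hgt.symm))) hat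
    · exact e
    · exfalso
      have h2 : (g : G) ^ 2 * a * ((g : G) ^ 2)⁻¹ = a := by
        rw [pow_two, show (g : G) * g * a * ((g : G) * g)⁻¹ = g * (g * a * (g : G)⁻¹) * (g : G)⁻¹ by group, e,
          show (g : G) * (t * a) * (g : G)⁻¹ = g * t * (g : G)⁻¹ * (g * a * (g : G)⁻¹) by group, hgt, e,
          ← mul_assoc, h.cen_sq ht, one_mul]
      obtain ⟨j, m, hm, hgo⟩ : ∃ j m : ℕ, Odd m ∧ orderOf (g : G) = 2 ^ j * m :=
        Nat.exists_eq_two_pow_mul_odd (orderOf_pos (g : G)).ne'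
      obtain ⟨i, rfl⟩ := hm
      set g₂ := (g : G) ^ (2 * i + 1) with hg2
      have hfix : ∀ n : ℕ, ((g : G) ^ 2) ^ n * a * (((g : G) ^ 2) ^ n)⁻¹ = a := fun n => by
        induction n with
        | zero => simp
        | succ n ih =>
          rw [pow_succ, show ((g : G) ^ 2) ^ n * (g : G) ^ 2 * a * (((g : G) ^ 2) ^ n * (g : G) ^ 2)⁻¹ =
            ((g : G) ^ 2) ^ n * ((g : G) ^ 2 * a * ((g : G) ^ 2)⁻¹) * (((g : G) ^ 2) ^ n)⁻¹ by group, h2, ih]
      have hta : g₂ * a * g₂⁻¹ = t * a := by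
        rw [hg2, pow_succ', pow_mul, show (g : G) * ((g : G) ^ 2) ^ i * a * ((g : G) * ((g : G) ^ 2) ^ i)⁻¹ =
          g * (((g : G) ^ 2) ^ i * a * (((g : G) ^ 2) ^ i)⁻¹) * (g : G)⁻¹ by group, hfix, e]
      have hp : IsPGroup 2 ↥(zpowers g₂) := by
        have hd : orderOf g₂ ∣ 2 ^ j := orderOf_dvd_of_pow_eq_one (by
          rw [hg2, ← pow_mul, mul_comm, ← hgo, pow_orderOf_eq_one])
        obtain ⟨l, -, hl⟩ := (Nat.dvd_prime_pow Nat.prime_two).1 hd
        exact IsPGroup.of_card (n := l) (by rw [Nat.card_zpowers, hl])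
      have hS2 : g₂ ∈ (S : Subgroup G) :=
        S.is_maximal' (hp.to_sup_of_normal_right' S.isPGroup' (zpowers_le.2 (pow_mem hgn _))) le_sup_right ▸
          mem_sup_left (mem_zpowers _)
      refine ht1 (mul_eq_right.1 (hta.symm.trans ?_))
      rw [← comm_of_cen ha hS2, mul_inv_cancel_right]
  obtain ⟨N, hN, hNo, hNc⟩ := ZStar.exists_odd_normal hiso
  set K := Cfsg.centralizerPPrimeCore 2 t
  have hNK : N.map C.subtype ≤ K := le_core (map_subtype_le _) (by
      rintro d hd _ ⟨y, hy, rfl⟩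
      exact ⟨_, hN.conj_mem y hy ⟨d, hd⟩, rfl⟩)
    (by rwa [card_map_of_injective C.subtype_injective])
  have hcA : ∀ v ∈ cen S, v * c * v⁻¹ * c⁻¹ ∈ K := by
    intro v hv
    have hta : a * c * a⁻¹ * c⁻¹ ∈ K := hNK ⟨_, hNc ⟨c, hc⟩, rfl⟩
    have htt : t * c * t⁻¹ * c⁻¹ = 1 := by
      rw [← mem_centralizer_singleton_iff.1 hc, mul_inv_cancel_right, mul_inv_cancel]
    rcases h.eq_or ht ha ht1 ha1 hat hv with rfl | rfl | rfl | rfl
    · simp [one_mem]
    · rw [htt]; exact one_mem _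
    · exact hta
    · rw [show t * a * c * (t * a)⁻¹ * c⁻¹ = t * (a * c * a⁻¹ * c⁻¹) * t⁻¹ * (t * c * t⁻¹ * c⁻¹) by group,
        htt, mul_one]
      exact core_conj htC hta
  obtain ⟨o, ho, hoc⟩ := Grp.FpfThree.exists_rep_centralizer (V := cen S) (K := K)
    (S.2.to_le cen_le) (fun v hv y hy => core_conj (Hyp.le_cent ht (cen_le hv)) hy)
    (Nat.two_dvd_ne_zero.2 (Nat.odd_iff.1 (centralizerCore_odd t))) hcA
  exact ⟨o⁻¹, inv_mem ho, o * c, hoc, by group⟩

theorem dcore_le_core {t : G} (ht : t ∈ cen S) (ht1 : t ≠ 1) :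
    dcore S ≤ Cfsg.centralizerPPrimeCore 2 t := by
  set K := Cfsg.centralizerPPrimeCore 2 t
  have hdC : dcore S ≤ centralizer ({t} : Set G) :=
    dcore_le.trans (centralizer_le (Set.singleton_subset_iff.2 ht))
  have hn : dcore S ≤ normalizer (K : Set G) := hdC.trans (centralizer_le_normalizer_core t)
  refine le_sup_left.trans (le_core (N := dcore S ⊔ K) (sup_le hdC (centralizerCore_le t)) ?_ ?_)
  · intro c hc y hy
    obtain ⟨d, hd, k, hk, rfl⟩ : ∃ d ∈ dcore S, ∃ k ∈ K, d * k = y := by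
      rw [← SetLike.mem_coe, coe_mul_of_left_le_normalizer_right _ _ hn] at hy
      exact hy
    obtain ⟨k₀, hk₀, e, he, rfl⟩ := h.cover ht ht1 hc
    have hcK : k₀ * e * k * (k₀ * e)⁻¹ ∈ K := core_conj hc hk
    have hed : e * d * e⁻¹ ∈ dcore S := dcore_conj he hd
    rw [show k₀ * e * (d * k) * (k₀ * e)⁻¹ = k₀ * (e * d * e⁻¹) * k₀⁻¹ * (k₀ * e * k * (k₀ * e)⁻¹) by group]
    exact mul_mem (mul_mem (mul_mem (mem_sup_right hk₀) (mem_sup_left hed)) (inv_mem (mem_sup_right hk₀)))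
      (mem_sup_right hcK)
  · refine Odd.of_dvd_nat ?_ (Grp.card_sup_dvd_mul hn)
    exact dcore_odd.mul (centralizerCore_odd t)

theorem core_inf_centralizer_cen {t : G} (ht : t ∈ cen S) (ht1 : t ≠ 1) :
    Cfsg.centralizerPPrimeCore 2 t ⊓ centralizer (cen S : Set G) = dcore S := by
  refine le_antisymm (le_dcore inf_le_right (fun c hc y hy => ⟨core_conj ?_ hy.1,
    (centralizer (cen S : Set G)).mul_mem ((centralizer (cen S : Set G)).mul_mem hc hy.2)
      ((centralizer (cen S : Set G)).inv_mem hc)⟩) ?_) (le_inf (h.dcore_le_core ht ht1) dcore_le)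
  · exact centralizer_le (Set.singleton_subset_iff.2 ht) hc
  · exact (centralizerCore_odd t).of_dvd_nat (card_dvd_of_le inf_le_left)

/-- An odd subgroup normalised by `S` meets `C(t)` in the core. -/
theorem inf_centralizer_le {W : Subgroup G} (hW : Odd (Nat.card W))
    (hSW : (S : Subgroup G) ≤ normalizer (W : Set G)) {t : G} (ht : t ∈ cen S) (ht1 : t ≠ 1) :
    W ⊓ centralizer ({t} : Set G) ≤ Cfsg.centralizerPPrimeCore 2 t := by
  intro w hw
  set C := centralizer ({t} : Set G)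
  set K := Cfsg.centralizerPPrimeCore 2 t
  obtain ⟨k, hk, d, hd, e⟩ := h.cover ht ht1 hw.2
  set W₁ := W ⊓ C
  have hn : W₁ ≤ normalizer (K : Set G) := inf_le_right.trans (centralizer_le_normalizer_core t)
  have hU : Odd (Nat.card ↥((W₁ ⊔ K) ⊓ centralizer (cen S : Set G))) :=
    (Odd.of_dvd_nat ((hW.of_dvd_nat (card_dvd_of_le inf_le_left)).mul (centralizerCore_odd t))
      (Grp.card_sup_dvd_mul hn)).of_dvd_nat (card_dvd_of_le inf_le_left)
  have hSn : (S : Subgroup G) ≤ normalizer (((W₁ ⊔ K) ⊓ centralizer (cen S : Set G) : Subgroup G) : Set G) := by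
    intro s hs
    have hsC : s ∈ C := Hyp.le_cent ht hs
    have h1 : s ∈ normalizer ((W₁ ⊔ K : Subgroup G) : Set G) := by
      refine Grp.mem_normalizer_iff_smul.2 ?_
      rw [Subgroup.smul_sup, Subgroup.smul_inf, Grp.normalizer_le_smul hSW hs,
        Grp.conj_smul_eq_self_of_mem hsC,
        Grp.normalizer_le_smul (centralizer_le_normalizer_core t) hsC]
    refine mem_normalizer_iff.2 fun y => ?_
    rw [mem_inf, mem_inf, ← (mem_normalizer_iff.1 h1 y)]
    refine and_congr_right fun _ => ⟨fun hy => ?_, fun hy => ?_⟩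
    · exact mul_mem (mul_mem (h.S_le_centralizer_cen hs) hy) (inv_mem (h.S_le_centralizer_cen hs))
    · have := mul_mem (mul_mem (inv_mem (h.S_le_centralizer_cen hs)) hy) (h.S_le_centralizer_cen hs)
      simpa [mul_assoc] using this
  have hdU : d ∈ (W₁ ⊔ K) ⊓ centralizer (cen S : Set G) := by
    refine ⟨?_, hd⟩
    rw [show d = k⁻¹ * w by rw [e, inv_mul_cancel_left]]
    exact mul_mem (mem_sup_right (inv_mem hk)) (mem_sup_left hw)
  have hdS : d ∈ centralizer ((S : Subgroup G) : Set G) := mem_centralizer_iff.2 fun s hs =>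
    centralizes_of_normalizer hU hSn (inf_le_right.trans h.centralizer_cen_le) hdU hs
  rw [e]
  exact mul_mem hk (h.dcore_le_core ht ht1
    (h.mem_dcore hdS (hU.of_dvd_nat (Subgroup.orderOf_dvd_natCard _ hdU))))

theorem inf_centralizer_cen_le {W : Subgroup G} (hW : Odd (Nat.card W))
    (hSW : (S : Subgroup G) ≤ normalizer (W : Set G)) :
    W ⊓ centralizer (cen S : Set G) ≤ dcore S := by
  intro w hw
  obtain ⟨t, ht, ht1, -⟩ := h.exists_other (one_mem (cen S))
  exact h.core_inf_centralizer_cen ht ht1 ▸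
    ⟨h.inf_centralizer_le hW hSW ht ht1 ⟨hw.1, centralizer_le (Set.singleton_subset_iff.2 ht) hw.2⟩, hw.2⟩

end Ctx

end Cfsg.Agent.Invol.G1Local
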