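import Cfsg.Agent.Lib.Invol.G1Local.Induct
import Cfsg.Agent.Lib.Transfer.UFLyons.Close

/-!
# Gap G1 holds
-/

set_option autoImplicit false

namespace Cfsg.Agent.Invol.G1Local

universe u

/-- Gap G1. -/
theorem g1_holds : CentRank.G1.{u} := g1_of_coreLinear Transfer.UFLyons.coreLinear

/-- The local conclusion wanted for the recognition of `PSU(3, 4)`. -/
theorem coreNorm : Transfer.UFLyons.CoreNorm.{u} := fun G _ _ _ hna S h _ ht ht1 =>
  core_le_normalizer Transfer.UFLyons.coreLinear G hna S h ht ht1

end Cfsg.Agent.Invol.G1Local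

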