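import Cfsg.Agent.Lib.Invol.G1Local.Ops

/-!
# Five anticommuting operators on a core

For `u ∈ S` with `u² = t` the conjugates of `u` under `x` act on `K_t` as five anticommuting involutions, permuted
cyclically by `x`.
-/

set_option autoImplicit false
set_option linter.unusedSectionVars false
set_option linter.style.haveILetI false

open Subgroup
open scoped IsMulCommutative

namespace Cfsg.Agent.Invol.G1Local

open Transfer.UnitaryFour CentRank Transfer.UFLyons

universe u

variable {G : Type u} [Group G]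

/-- Conjugation on an abelian subgroup as a ring endomorphism of the additive group. -/
def conjEnd (K C : Subgroup G) [IsMulCommutative K] (hC : C ≤ normalizer (K : Set G)) :
    C →* AddMonoid.End (Additive K) where
  toFun c := MonoidHom.toAdditive
    { toFun := fun y : K => (⟨(c : G) * y * (c : G)⁻¹, (mem_normalizer_iff.1 (hC c.2) y).1 y.2⟩ : K)
      map_one' := Subtype.ext (by simp)
      map_mul' := fun y z => Subtype.ext (by simp [mul_assoc]) }
  map_one' := by
    refine AddMonoidHom.ext fun m => ?_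
    refine Additive.toMul.injective (Subtype.ext ?_)
    show ((1 : C) : G) * (m.toMul : G) * ((1 : C) : G)⁻¹ = (m.toMul : G)
    simp
  map_mul' c d := by
    refine AddMonoidHom.ext fun m => ?_
    refine Additive.toMul.injective (Subtype.ext ?_)
    show ((c * d : C) : G) * (m.toMul : G) * ((c * d : C) : G)⁻¹ =
      (c : G) * ((d : G) * (m.toMul : G) * (d : G)⁻¹) * (c : G)⁻¹
    simp [mul_assoc]

theorem conjEnd_apply (K C : Subgroup G) [IsMulCommutative K] (hC : C ≤ normalizer (K : Set G)) (c : C)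
    (m : Additive K) : (((conjEnd K C hC c) m).toMul : G) = (c : G) * (m.toMul : G) * (c : G)⁻¹ := rfl

theorem conjEnd_ext (K C : Subgroup G) [IsMulCommutative K] (hC : C ≤ normalizer (K : Set G)) (c : C)
    {m : Additive K} : (conjEnd K C hC c) m = m ↔ (c : G) * (m.toMul : G) * (c : G)⁻¹ = m.toMul :=
  ⟨fun e => by rw [← conjEnd_apply K C hC, e], fun e => Additive.toMul.injective (Subtype.ext e)⟩

variable [Finite G] {S : Sylow 2 G}

theorem Five.fixed_pow {x : G} (hx : Five S x) {k : ℕ} (hk : ¬ 5 ∣ k) {w : G} (hw : w ∈ (S : Subgroup G))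
    (hv : x ^ k * w * (x ^ k)⁻¹ * w⁻¹ ∈ cen S) : w ∈ cen S := by
  set e := x ^ k with he
  set v := e * w * e⁻¹ * w⁻¹ with hvdef
  have hev : Commute e v := ((show Commute v x from mem_centralizer_iff.1 hx.mem v hv).pow_right k).symm
  have hit : ∀ m : ℕ, e ^ m * w * (e ^ m)⁻¹ = v ^ m * w := fun m => by
    induction m with
    | zero => simp
    | succ m ih =>
      rw [pow_succ' e m, show e * e ^ m * w * (e * e ^ m)⁻¹ = e * (e ^ m * w * (e ^ m)⁻¹) * e⁻¹ by group, ih,
        show e * (v ^ m * w) * e⁻¹ = e * v ^ m * e⁻¹ * (e * w * e⁻¹) by group, (hev.pow_right m).eq,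
        mul_inv_cancel_right, pow_succ, hvdef]
      group
  obtain ⟨m, hm⟩ := exists_pow_eq_self_of_coprime (x := x) (n := k) (by
    rw [hx.order]; exact ((Nat.prime_five.coprime_iff_not_dvd).2 hk).symm)
  refine hx.fpf w hw ?_
  have h1 := hit m
  rw [he, hm] at h1
  rw [h1, mul_inv_cancel_right]
  exact pow_mem hv m

namespace Ab

variable {r : ℕ} (h : Ab S r)
include h

theorem isMulCommutative_core {t : G} (ht : t ∈ cen S) (ht1 : t ≠ 1) : IsMulCommutative (core t) :=
  ⟨⟨fun y z => Subtype.ext (h.comm t ht ht1 y y.2 z z.2)⟩⟩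

theorem exists_root {t : G} (ht : t ∈ cen S) (ht1 : t ≠ 1) :
    ∃ w ∈ (S : Subgroup G), w ∉ cen S ∧ w * w = t := by
  obtain ⟨w₀, hw₀⟩ := exists_notMem_center h.toCtx.shape
  have hv1 : (w₀ : G) * w₀ ≠ 1 := fun e => hw₀ (h.toCtx.shape.inv _ (Subtype.ext e))
  obtain ⟨n, hn, hnt⟩ := h.toCtx.exists_conj h.moving (h.toCtx.sq_mem w₀.2) hv1 ht ht1
  refine ⟨n * w₀ * n⁻¹, (mem_normalizer_iff.1 hn _).1 w₀.2, fun hh => hw₀ ((mem_cen w₀.2).1 ?_), ?_⟩
  · have := Hyp.cen_normal (inv_mem hn) hh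
    simpa [mul_assoc] using this
  · rw [← hnt]; group

theorem exists_operators {x : G} (hx : Five S x) {t : G} (ht : t ∈ cen S) (ht1 : t ≠ 1)
    [IsMulCommutative (core t)] :
    ∃ (U : Fin 5 → AddMonoid.End (Additive (core t))) (X : AddMonoid.End (Additive (core t))),
      (∀ i, U i * U i = 1) ∧ (∀ i j, i ≠ j → U i * U j = -(U j * U i)) ∧ (∀ i, X * U i = U (i + 1) * X) ∧
        X ^ 5 = 1 ∧ ∀ m : Additive (core t), X m = m ↔ Commute x (m.toMul : G) := by
  obtain ⟨w, hwS, hwA, hww⟩ := h.exists_root ht ht1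
  set C := centralizer ({t} : Set G)
  have hC : C ≤ normalizer (core t : Set G) := centralizer_le_normalizer_core t
  have hxC : x ∈ C := centralizer_le (Set.singleton_subset_iff.2 ht) hx.mem
  have hxN := h.toCtx.centralizer_cen_le hx.mem
  have hx5 : x ^ 5 = 1 := hx.order ▸ pow_orderOf_eq_one x
  let u : ℕ → G := fun i => x ^ i * w * (x ^ i)⁻¹
  have huS : ∀ i, u i ∈ (S : Subgroup G) := fun i => (mem_normalizer_iff.1 (pow_mem hxN i) w).1 hwS
  have huC : ∀ i, u i ∈ C := fun i => Hyp.le_cent ht (huS i)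
  have hxt : ∀ i : ℕ, Commute (x ^ i) t := fun i =>
    (show Commute x t from (mem_centralizer_iff.1 hx.mem t ht).symm).pow_left i
  have husq : ∀ i, u i * u i = t := fun i => by
    show x ^ i * w * (x ^ i)⁻¹ * (x ^ i * w * (x ^ i)⁻¹) = t
    rw [show x ^ i * w * (x ^ i)⁻¹ * (x ^ i * w * (x ^ i)⁻¹) = x ^ i * (w * w) * (x ^ i)⁻¹ by group, hww,
      (hxt i).eq, mul_inv_cancel_right]
  have huA : ∀ i, u i ∉ cen S := fun i hh => hwA (by
    have := Hyp.cen_normal (inv_mem (pow_mem hxN i)) hh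
    simpa [u, mul_assoc] using this)
  have hdist : ∀ i j : Fin 5, i ≠ j → u i * u j ∉ cen S := by
    suffices key : ∀ i k : ℕ, ¬ 5 ∣ k → u i * u (i + k) ∉ cen S ∧ u (i + k) * u i ∉ cen S by
      intro i j hij
      rcases lt_or_gt_of_ne (fun e => hij (Fin.ext e) : (i : ℕ) ≠ j) with hlt | hlt
      · obtain ⟨k, hk⟩ := Nat.exists_eq_add_of_lt hlt
        have := (key i (k + 1) (fun hd => by have := Nat.le_of_dvd (by omega) hd; have := j.2; omega)).1
        rwa [show (i : ℕ) + (k + 1) = j by omega] at this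
      · obtain ⟨k, hk⟩ := Nat.exists_eq_add_of_lt hlt
        have := (key j (k + 1) (fun hd => by have := Nat.le_of_dvd (by omega) hd; have := i.2; omega)).2
        rwa [show (j : ℕ) + (k + 1) = i by omega] at this
    intro i k hk
    have main : x ^ k * w * (x ^ k)⁻¹ * w⁻¹ ∈ cen S → False := fun hh => hwA (hx.fixed_pow hk hwS hh)
    have back : ∀ g, g ∈ cen S → (x ^ i)⁻¹ * g * x ^ i ∈ cen S := fun g hg => by
      simpa using Hyp.cen_normal (inv_mem (pow_mem hxN i)) hg
    have hwi : w⁻¹ = t * w := inv_eq_of_mul_eq_one_right (by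
      rw [← mul_assoc, ← comm_of_cen ht hwS, mul_assoc, hww, h.toCtx.cen_sq ht])
    have e1 : (x ^ i)⁻¹ * (u (i + k) * u i) * x ^ i = x ^ k * w * (x ^ k)⁻¹ * w := by
      simp only [u, pow_add]; group
    have h2 : ∀ g, g * w ∈ cen S → g * w⁻¹ ∈ cen S := fun g hg => by
      rw [hwi, comm_of_cen ht hwS, ← mul_assoc]
      exact mul_mem hg ht
    constructor
    · intro hh
      have h3 : (u i)⁻¹ * (u i * u (i + k)) * u i ∈ cen S := by
        rw [mul_assoc _ _ (u i), comm_of_cen hh (huS i), inv_mul_cancel_left]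
        exact hh
      rw [inv_mul_cancel_left] at h3
      exact main (h2 _ (e1 ▸ back _ h3))
    · exact fun hh => main (h2 _ (e1 ▸ back _ hh))
  let φ := conjEnd (core t) C hC
  have htC : t ∈ C := mem_centralizer_singleton_iff.2 rfl
  have hφt : φ ⟨t, htC⟩ = 1 := AddMonoidHom.ext fun m => (conjEnd_ext _ _ hC _).2 (by
    show t * (m.toMul : G) * t⁻¹ = _
    rw [← (h.core_commute m.toMul.2).eq, mul_inv_cancel_right])
  have hφc : ∀ c (hc : c ∈ cen S), c ≠ 1 → c ≠ t → φ ⟨c, Hyp.le_cent ht (cen_le hc)⟩ = -1 := fun c hc hc1 hct =>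
    AddMonoidHom.ext fun m => Additive.toMul.injective (Subtype.ext (h.inverted ht hc ht1 hc1 hct m.toMul.2))
  refine ⟨fun i => φ ⟨u i, huC i⟩, φ ⟨x, hxC⟩, fun i => ?_, fun i j hij => ?_, fun i => ?_, ?_, fun m => ?_⟩
  · rw [← map_mul]
    exact (congrArg φ (Subtype.ext (husq i))).trans hφt
  · set c := u i * u j * (u i)⁻¹ * (u j)⁻¹ with hc
    have hcA : c ∈ cen S := h.toCtx.comm_mem (huS i) (huS j)
    have hcomm : u i * u j = c * (u j * u i) := by rw [hc]; group
    have hP := hdist i j hij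
    have hc1 : c ≠ 1 := fun e => hP (h.toCtx.mem_cen_of_sq (mul_mem (huS i) (huS j)) (by
      rw [e, one_mul] at hcomm
      calc u i * u j * (u i * u j) = u i * (u j * u i) * u j := by group
        _ = u i * u i * (u j * u j) := by rw [← hcomm]; group
        _ = 1 := by rw [husq, husq, h.toCtx.cen_sq ht]))
    have hct : c ≠ t := fun e => by
      have hsq : u i * u j * (u i * u j) = t := by
        have hji : u j * u i = t * (u i * u j) :=
          calc u j * u i = t * t * (u j * u i) := by rw [h.toCtx.cen_sq ht, one_mul]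
            _ = t * (u i * u j) := by rw [mul_assoc, hcomm, e]
        calc u i * u j * (u i * u j) = u i * (u j * u i) * u j := by group
          _ = (u i * t) * u i * (u j * u j) := by rw [hji]; group
          _ = t := by rw [← comm_of_cen ht (huS i), mul_assoc t, husq, husq, h.toCtx.cen_sq ht, one_mul]
      have hwC : (⟨u i, huS i⟩ : (S : Subgroup G)) ∉ center ↥(S : Subgroup G) := fun e => huA i ((mem_cen (huS i)).2 e)
      refine no_line h.toCtx.shape hwC (y := ⟨u j, huS j⟩) (fun e => huA j ((mem_cen (huS j)).2 e))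
        (sqc_ne_one h.toCtx.shape hwC) rfl (Subtype.ext (Subtype.ext ?_)) (Subtype.ext (Subtype.ext ?_))
      · show u j * u j = u i * u i
        rw [husq, husq]
      · show u i * u j * (u i * u j) = u i * u i
        rw [husq, hsq]
    have e : φ ⟨u i, huC i⟩ * φ ⟨u j, huC j⟩ = φ ⟨c, Hyp.le_cent ht (cen_le hcA)⟩ * (φ ⟨u j, huC j⟩ * φ ⟨u i, huC i⟩) := by
      rw [← map_mul, ← map_mul, ← map_mul]
      exact congrArg φ (Subtype.ext hcomm)
    rw [e, hφc c hcA hc1 hct]
    exact neg_one_mul (φ ⟨u j, huC j⟩ * φ ⟨u i, huC i⟩)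
  · rw [← map_mul, ← map_mul]
    refine congrArg φ (Subtype.ext ?_)
    show x * u i = u ((i + 1 : Fin 5) : ℕ) * x
    have hval : u ((i + 1 : Fin 5) : ℕ) = u ((i : ℕ) + 1) := by
      by_cases h4 : (i : ℕ) = 4
      · rw [show i = (4 : Fin 5) from Fin.ext h4]
        show x ^ (0 : ℕ) * w * (x ^ (0 : ℕ))⁻¹ = x ^ (5 : ℕ) * w * (x ^ (5 : ℕ))⁻¹
        rw [hx5, pow_zero]
      · rw [show ((i + 1 : Fin 5) : ℕ) = (i : ℕ) + 1 by
          rw [Fin.val_add, Fin.val_one, Nat.mod_eq_of_lt]; omega]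
    rw [hval]
    simp only [u, pow_succ']
    group
  · rw [← map_pow]
    exact (congrArg φ (show (⟨x, hxC⟩ : C) ^ 5 = 1 from Subtype.ext hx5)).trans (map_one φ)
  · rw [conjEnd_ext]
    exact mul_inv_eq_iff_eq_mul

end Ab

end Cfsg.Agent.Invol.G1Local
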