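import Cfsg.Agent.Lib.Invol.G1Local.Moves
import Cfsg.Agent.Lib.Invol.Core2.OddMember
import Cfsg.Agent.Lib.Block.QuaternionSylow

/-!
# Abelian cores of prime exponent

`D = O(C A) = 1`, the cores `K_t = O(C t)` are elementary abelian `r`-groups and in every proper subgroup containing
`S` the odd subgroups normalised by `S` lie in the core.  Then the `K_t` are maximal among the odd subgroups
normalised by `S`, and `N(K_t) = C(t)`.
-/

set_option autoImplicit false
set_option linter.unusedSectionVars false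
set_option linter.style.haveILetI false

open Subgroup

namespace Cfsg.Agent.Invol.G1Local

open Transfer.UnitaryFour CentRank

universe u

variable {G : Type u} [Group G] [Finite G] {S : Sylow 2 G}

/-- The odd core of `C(t)`. -/
abbrev core (t : G) : Subgroup G := Cfsg.centralizerPPrimeCore 2 t

/-- The hypotheses of the local analysis. -/
structure Ab (S : Sylow 2 G) (r : ℕ) : Prop extends Ctx S where
  prime : r.Prime
  dbot : dcore S = ⊥
  comm : ∀ t ∈ cen S, t ≠ 1 → ∀ y ∈ core t, ∀ y' ∈ core t, y * y' = y' * y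
  exp : ∀ t ∈ cen S, t ≠ 1 → ∀ y ∈ core t, y ^ r = 1
  ne : ∀ t ∈ cen S, t ≠ 1 → core t ≠ ⊥
  moving : Moving S
  loc : ∀ X : Subgroup G, (S : Subgroup G) ≤ X → X ≠ ⊤ → ∀ W : Subgroup G, Odd (Nat.card W) → W ≤ X →
    (S : Subgroup G) ≤ normalizer (W : Set G) → W ≤ (Cfsg.pPrimeCore 2 X).map X.subtype

/-- An odd subgroup normalised by `S`. -/
def OddInv (S : Sylow 2 G) (U : Subgroup G) : Prop :=
  Odd (Nat.card U) ∧ (S : Subgroup G) ≤ normalizer (U : Set G)

namespace Ctx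

variable (h : Ctx S)
include h

theorem S_le_normalizer_core {t : G} (ht : t ∈ cen S) : (S : Subgroup G) ≤ normalizer (core t : Set G) :=
  (Hyp.le_cent ht).trans (centralizer_le_normalizer_core t)

theorem oddInv_core {t : G} (ht : t ∈ cen S) : OddInv S (core t) :=
  ⟨centralizerCore_odd t, h.S_le_normalizer_core ht⟩

end Ctx

namespace Ab

variable {r : ℕ} (h : Ab S r)
include h

theorem inv_inf {U : Subgroup G} (hU : OddInv S U) : U ⊓ centralizer (cen S : Set G) = ⊥ :=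
  le_bot_iff.1 (h.dbot ▸ h.toCtx.inf_centralizer_cen_le hU.1 hU.2)

theorem core_eq_one {t y : G} (ht : t ∈ cen S) (hy : y ∈ core t) (hc : y ∈ centralizer (cen S : Set G)) : y = 1 :=
  mem_bot.1 (h.inv_inf (h.toCtx.oddInv_core ht) ▸ mem_inf.2 ⟨hy, hc⟩)

theorem core_commute {t y : G} (hy : y ∈ core t) : Commute y t :=
  mem_centralizer_singleton_iff.1 (centralizerCore_le t hy)

/-- Another involution of `A` inverts the core. -/
theorem inverted {t a y : G} (ht : t ∈ cen S) (ha : a ∈ cen S) (ht1 : t ≠ 1) (ha1 : a ≠ 1) (hat : a ≠ t)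
    (hy : y ∈ core t) : a * y * a⁻¹ = y⁻¹ := by
  have haC : a ∈ centralizer ({t} : Set G) := Hyp.le_cent ht (cen_le ha)
  have hy' : a * y * a⁻¹ ∈ core t := core_conj haC hy
  have he : a * (y * (a * y * a⁻¹)) * a⁻¹ = y * (a * y * a⁻¹) := by
    rw [h.comm t ht ht1 y hy _ hy']
    calc a * (a * y * a⁻¹ * y) * a⁻¹ = a * a * y * (a * a)⁻¹ * (a * y * a⁻¹) := by group
      _ = y * (a * y * a⁻¹) := by rw [h.toCtx.cen_sq ha]; group
      _ = a * y * a⁻¹ * y := h.comm t ht ht1 y hy _ hy'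
  have h1 := h.core_eq_one ht (mul_mem hy hy') (h.toCtx.mem_centralizer_cen ht ha ht1 ha1 hat
    (h.core_commute (mul_mem hy hy')) (mul_inv_eq_iff_eq_mul.1 he).symm)
  exact eq_inv_of_mul_eq_one_right h1

theorem core_disjoint {t a y : G} (ht : t ∈ cen S) (ha : a ∈ cen S) (ht1 : t ≠ 1) (ha1 : a ≠ 1) (hat : a ≠ t)
    (hy : y ∈ core t) (hy' : y ∈ core a) : y = 1 :=
  h.core_eq_one ht hy (h.toCtx.mem_centralizer_cen ht ha ht1 ha1 hat (h.core_commute hy) (h.core_commute hy'))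

theorem card_S_even : 2 ∣ Nat.card G := by
  refine dvd_trans ?_ (card_subgroup_dvd_card (S : Subgroup G))
  rw [h.toCtx.shape.card]
  norm_num

theorem prime_ne_two : r ≠ 2 := by
  obtain ⟨t, ht, ht1, -⟩ := h.toCtx.exists_other (one_mem (cen S))
  rintro rfl
  refine h.ne t ht ht1 ((eq_bot_iff_forall _).2 fun y hy => ?_)
  have h2 : orderOf y ∣ 2 := orderOf_dvd_of_pow_eq_one (h.exp t ht ht1 y hy)
  exact orderOf_eq_one_iff.1 (Nat.eq_one_of_dvd_coprimes (Nat.coprime_two_right.2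
    ((centralizerCore_odd t).of_dvd_nat (Subgroup.orderOf_dvd_natCard _ hy))) dvd_rfl h2)

theorem isPGroup_core {t : G} (ht : t ∈ cen S) (ht1 : t ≠ 1) : IsPGroup r ↥(core t) := fun y =>
  ⟨1, Subtype.ext (by rw [pow_one]; exact h.exp t ht ht1 y y.2)⟩

/-- An odd subgroup normalised by `S` meets `C(t)` in an `r`-group. -/
theorem inf_cent {U : Subgroup G} (hU : OddInv S U) {t : G} (ht : t ∈ cen S) (ht1 : t ≠ 1) :
    U ⊓ centralizer ({t} : Set G) ≤ core t :=
  h.toCtx.inf_centralizer_le hU.1 hU.2 ht ht1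

/-- Odd subgroups normalised by `S` are `r`-groups. -/
theorem isPGroup_of_inv {U : Subgroup G} (hU : OddInv S U) : IsPGroup r U := by
  haveI : Fact (Nat.Prime 2) := ⟨Nat.prime_two⟩
  haveI := Fact.mk h.prime
  obtain ⟨t, ht, ht1, -⟩ := h.toCtx.exists_other (one_mem (cen S))
  obtain ⟨a, ha, ha1, hat⟩ := h.toCtx.exists_other ht
  have hcop : (Nat.card ↥(S : Subgroup G)).Coprime (Nat.card U) := by
    rw [h.toCtx.shape.card, show (64 : ℕ) = 2 ^ 6 by norm_num]
    exact Nat.Coprime.pow_left 6 (Nat.coprime_two_left.2 hU.1)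
  have hsolv : Group.IsSolvable ↥(S : Subgroup G) ∨ Group.IsSolvable U := by
    haveI : Group.IsNilpotent ↥(S : Subgroup G) := S.isPGroup'.isNilpotent
    exact Or.inl inferInstance
  refine IsPGroup.of_card (n := (Nat.card U).primeFactorsList.length) ?_
  refine Nat.eq_prime_pow_of_unique_prime_dvd (Nat.card_pos (α := U)).ne' fun {p} hp hpU => ?_
  by_contra hpr
  haveI := Fact.mk hp
  obtain ⟨P, hP, hPS⟩ := Grp.exists_invariant_sylow (S : Subgroup G) U hU.2 hcop hsolv p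
  have hPo : OddInv S P := ⟨hU.1.of_dvd_nat (card_dvd_of_le hP.1), hPS⟩
  have hpart : ∀ v ∈ cen S, v ≠ 1 → P ⊓ centralizer ({v} : Set G) ≤ (⊥ : Subgroup G) := fun v hv hv1 y hy => by
    obtain ⟨k, hk⟩ := hP.2.1 ⟨y, hy.1⟩
    refine mem_bot.2 (orderOf_eq_one_iff.1 (Nat.eq_one_of_dvd_coprimes
      (Nat.Coprime.pow_left k ((Nat.coprime_primes hp h.prime).2 hpr))
      (orderOf_dvd_of_pow_eq_one (congrArg Subtype.val hk)) (orderOf_dvd_of_pow_eq_one
        (h.exp v hv hv1 y (h.inf_cent hPo hv hv1 hy)))))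
  have hbot : P = ⊥ := le_bot_iff.1 (Core2.le_of_four hPo.1 (h.toCtx.orderOf_cen ht ht1)
    (h.toCtx.orderOf_cen ha ha1) hat (comm_of_cen ha (cen_le ht)) (hPS (cen_le ht)) (hPS (cen_le ha))
    (hpart t ht ht1) (hpart a ha ha1) (hpart _ (mul_mem ha ht)
      fun e => hat (by rw [eq_inv_of_mul_eq_one_left e, h.toCtx.cen_inv ht])))
  refine hP.2.2 ?_
  rw [hbot, Subgroup.relIndex_bot_left]
  exact hpU

theorem normalizer_ne_top [IsSimpleGroup G] {I : Subgroup G} (hI : Odd (Nat.card I)) (hI1 : I ≠ ⊥) :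
    normalizer (I : Set G) ≠ ⊤ := fun e => by
  rcases (normalizer_eq_top_iff.1 e).eq_bot_or_eq_top with e' | e'
  · exact hI1 e'
  · rw [e', card_top] at hI
    exact Nat.not_even_iff_odd.2 hI (even_iff_two_dvd.2 h.card_S_even)

theorem oddInv_oddCore {X : Subgroup G} (hSX : (S : Subgroup G) ≤ X) :
    OddInv S ((Cfsg.pPrimeCore 2 X).map X.subtype) := by
  refine ⟨?_, fun s hs => ?_⟩
  · rw [card_map_of_injective X.subtype_injective]
    exact oddCore_odd
  · have key : ∀ x ∈ X, ∀ y ∈ (Cfsg.pPrimeCore 2 X).map X.subtype,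
        x * y * x⁻¹ ∈ (Cfsg.pPrimeCore 2 X).map X.subtype := by
      rintro x hx _ ⟨y, hy, rfl⟩
      exact ⟨_, (Grp.pPrimeCore_isNormal (p := 2)).conj_mem y hy ⟨x, hx⟩, rfl⟩
    exact mem_normalizer_iff.2 fun y => ⟨key s (hSX hs) y, fun hy => by
      simpa [mul_assoc] using key s⁻¹ (inv_mem (hSX hs)) _ hy⟩

theorem exists_max {U : Subgroup G} (hU : OddInv S U) :
    ∃ M, U ≤ M ∧ Maximal (OddInv S) M := by
  exact (Set.toFinite {V : Subgroup G | OddInv S V}).exists_le_maximal (a := U) hU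

/-- Maximal odd subgroups normalised by `S` are equal or meet trivially. -/
theorem meet [IsSimpleGroup G] {U U' : Subgroup G} (hU : Maximal (OddInv S) U) (hU' : Maximal (OddInv S) U')
    (hI : U ⊓ U' ≠ ⊥) : U = U' := by
  haveI := Fact.mk h.prime
  suffices key : ∀ (k : ℕ) (U U' : Subgroup G), Maximal (OddInv S) U → Maximal (OddInv S) U' → U ⊓ U' ≠ ⊥ →
      Nat.card G ≤ Nat.card ↥(U ⊓ U') + k → U = U' from key (Nat.card G) U U' hU hU' hI (Nat.le_add_left _ _)
  intro k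
  induction k with
  | zero =>
    intro U U' hU _ _ hk
    have : U ⊓ U' = ⊤ := eq_top_of_le_card _ hk
    have h1 := hU.1.1
    rw [show U = ⊤ from top_le_iff.1 (this.ge.trans inf_le_left), card_top] at h1
    exact absurd (even_iff_two_dvd.2 h.card_S_even) (Nat.not_even_iff_odd.2 h1)
  | succ k ih =>
    intro U U' hU hU' hI hk
    set I := U ⊓ U' with hIdef
    by_cases e : I = U
    · exact le_antisymm (e.ge.trans inf_le_right) (hU.2 hU'.1 (e.ge.trans inf_le_right))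
    by_cases e' : I = U'
    · exact le_antisymm (hU'.2 hU.1 (e'.ge.trans inf_le_left)) (e'.ge.trans inf_le_left)
    have hIo : OddInv S I := ⟨hU.1.1.of_dvd_nat (card_dvd_of_le inf_le_left), fun s hs => mem_normalizer_iff.2 fun y => by
      rw [hIdef, mem_inf, mem_inf, mem_normalizer_iff.1 (hU.1.2 hs) y, mem_normalizer_iff.1 (hU'.1.2 hs) y]⟩
    set X := normalizer (I : Set G)
    have hX : X ≠ ⊤ := h.normalizer_ne_top hIo.1 hI
    set O := (Cfsg.pPrimeCore 2 X).map X.subtype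
    obtain ⟨M, hOM, hM⟩ := h.exists_max (h.oddInv_oddCore (X := X) hIo.2)
    have grow : ∀ V : Subgroup G, Maximal (OddInv S) V → I ≤ V → I ≠ V → V = M := by
      intro V hV hIV hne
      obtain ⟨j, hjV, hjI, hjN⟩ := Core2.exists_normalizing (h.isPGroup_of_inv hV.1) (lt_of_le_of_ne hIV hne)
      have hVX : OddInv S (V ⊓ X) := ⟨hV.1.1.of_dvd_nat (card_dvd_of_le inf_le_left), fun s hs =>
        mem_normalizer_iff.2 fun y => by
          rw [mem_inf, mem_inf, mem_normalizer_iff.1 (hV.1.2 hs) y,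
            mem_normalizer_iff.1 (le_normalizer (H := X) (hIo.2 hs)) y]⟩
      have hle : V ⊓ X ≤ M := (h.loc X hIo.2 hX _ hVX.1 inf_le_right hVX.2).trans hOM
      have hlt : I < V ⊓ M := lt_of_le_of_ne (le_inf hIV ((le_inf hIV le_normalizer).trans hle))
        fun e => hjI (e ▸ ⟨hjV, hle ⟨hjV, hjN⟩⟩)
      refine ih V M hV hM (ne_bot_of_le_ne_bot hI hlt.le) ?_
      have hcard : Nat.card I < Nat.card ↥(V ⊓ M) := by
        by_contra hle'
        exact hlt.ne (eq_of_le_of_card_ge hlt.le (not_lt.1 hle'))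
      omega
    exact (grow U hU inf_le_left e).trans (grow U' hU' inf_le_right e').symm

/-- The cores are maximal among the odd subgroups normalised by `S`. -/
theorem core_maximal [IsSimpleGroup G] (hna : ¬ IsMulCommutative G) {t : G} (ht : t ∈ cen S) (ht1 : t ≠ 1)
    {U : Subgroup G} (hU : OddInv S U) (hKU : core t ≤ U) : U = core t := by
  classical
  choose f hfle hfmax using fun v : G => fun hv : v ∈ cen S => h.exists_max (h.toCtx.oddInv_core hv)
  obtain ⟨M, hUM, hM⟩ := h.exists_max hU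
  have uniq : ∀ v (hv : v ∈ cen S), v ≠ 1 → ∀ M' : Subgroup G, Maximal (OddInv S) M' → core v ≤ M' → M' = f v hv :=
    fun v hv hv1 M' hM' hle => h.meet hM' (hfmax v hv) (ne_bot_of_le_ne_bot (h.ne v hv hv1) (le_inf hle (hfle v hv)))
  have eM := uniq t ht ht1 M hM (hKU.trans hUM)
  have hconj : ∀ n ∈ normalizer ((S : Subgroup G) : Set G), Maximal (OddInv S) (M.map (MulAut.conj n).toMonoidHom) := by
    have hinv : ∀ n ∈ normalizer ((S : Subgroup G) : Set G), ∀ V : Subgroup G, OddInv S V →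
        OddInv S (V.map (MulAut.conj n).toMonoidHom) := by
      intro n hn V hV
      refine ⟨by rw [card_map_of_injective (MulAut.conj n).injective]; exact hV.1, fun s hs => ?_⟩
      have hs' : n⁻¹ * s * n ∈ normalizer (V : Set G) := hV.2 ((mem_normalizer_iff''.1 hn s).1 hs)
      refine mem_normalizer_iff.2 fun y => ?_
      rw [Invol.mem_map_conj, Invol.mem_map_conj, mem_normalizer_iff.1 hs']
      rw [show n⁻¹ * s * n * (n⁻¹ * y * n) * (n⁻¹ * s * n)⁻¹ = n⁻¹ * (s * y * s⁻¹) * n by group]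
    intro n hn
    refine ⟨hinv n hn M hM.1, fun V hV hle y hy => ?_⟩
    have hle' : M ≤ V.map (MulAut.conj n⁻¹).toMonoidHom := fun z hz => by
      rw [Invol.mem_map_conj, inv_inv]
      exact hle ⟨z, hz, rfl⟩
    have := hM.2 (hinv n⁻¹ (inv_mem hn) V hV) hle'
    rw [Invol.mem_map_conj]
    exact this (by rw [Invol.mem_map_conj]; simpa [mul_assoc] using hy)
  by_contra hne
  -- `M` meets another core
  have hMK : ¬ M ≤ core t := fun hle => hne (le_antisymm (hUM.trans hle) hKU)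
  obtain ⟨a, ha, ha1, hat, hMa⟩ : ∃ a ∈ cen S, a ≠ 1 ∧ a ≠ t ∧ M ⊓ core a ≠ ⊥ := by
    by_contra hno
    push Not at hno
    obtain ⟨a, ha, ha1, hat⟩ := h.toCtx.exists_other ht
    have hta : a * t ≠ t := fun e => ha1 (mul_eq_right.1 e)
    have hta1 : a * t ≠ 1 := fun e => hat (by rw [eq_inv_of_mul_eq_one_left e, h.toCtx.cen_inv ht])
    refine hMK (Core2.le_of_four hM.1.1 (h.toCtx.orderOf_cen ht ht1) (h.toCtx.orderOf_cen ha ha1) hat
      (comm_of_cen ha (cen_le ht)) (hM.1.2 (cen_le ht)) (hM.1.2 (cen_le ha)) (h.inf_cent hM.1 ht ht1) ?_ ?_) <;>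
    · refine le_trans (le_trans (le_inf inf_le_left (h.inf_cent hM.1 ?_ ?_)) (hno _ ?_ ?_ ?_).le) bot_le
      all_goals first
        | assumption
        | exact mul_mem ha ht
  have eMa : M = f a ha := h.meet hM (hfmax a ha) (ne_bot_of_le_ne_bot hMa (inf_le_inf_left _ (hfle a ha)))
  obtain ⟨n, hn, hnt, hna', hnb⟩ := h.toCtx.exists_cycle h.moving ht ht1 ha ha1 hat
  have hnM : M.map (MulAut.conj n).toMonoidHom = M := by
    refine (uniq a ha ha1 _ (hconj n hn) ?_).trans eMa.symm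
    exact ((core_map (t := t) (n := n)).trans (by rw [hnt])).ge.trans (Subgroup.map_mono (hKU.trans hUM))
  have hstep : ∀ v, core v ≤ M → core (n * v * n⁻¹) ≤ M := fun v hv =>
    (core_map (t := v) (n := n)).ge.trans ((Subgroup.map_mono hv).trans hnM.le)
  have hall : ∀ v ∈ cen S, v ≠ 1 → core v ≤ M := by
    intro v hv hv1
    rcases h.toCtx.eq_or ht ha ht1 ha1 hat hv with rfl | rfl | rfl | rfl
    · exact absurd rfl hv1
    · exact hKU.trans hUM
    · exact eMa ▸ hfle _ ha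
    · exact hna' ▸ hstep a (eMa ▸ hfle _ ha)
  have hMn : ∀ g, g ∈ normalizer (M : Set G) ↔ M.map (MulAut.conj g).toMonoidHom = M := fun g =>
    ⟨fun hg => by rw [Grp.map_conj_eq_smul, Grp.normalizer_le_smul le_rfl hg], Grp.mem_normalizer_of_map_eq.2⟩
  have hCM : ∀ v ∈ cen S, v ≠ 1 → centralizer ({v} : Set G) ≤ normalizer (M : Set G) := by
    intro v hv hv1 c hc
    obtain ⟨k, hk, d, hd, rfl⟩ := h.toCtx.cover hv hv1 hc
    refine mul_mem (le_normalizer (hall v hv hv1 hk)) ((hMn d).2 ?_)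
    refine h.meet (hconj d (h.toCtx.centralizer_cen_le hd)) hM (ne_bot_of_le_ne_bot (h.ne v hv hv1) (le_inf ?_ (hall v hv hv1)))
    refine ((core_map (t := v) (n := d)).trans ?_).ge.trans (Subgroup.map_mono (hall v hv hv1))
    rw [← mem_centralizer_iff.1 hd v hv, mul_inv_cancel_right]
  refine h.ne t ht ht1 (le_bot_iff.1 (h.dbot ▸ h.toCtx.core_le_of_normalized hna hM.1.1
    (ne_bot_of_le_ne_bot (h.ne t ht ht1) (hKU.trans hUM))
    (h.toCtx.normalizer_le hCM ht ht1 ha ha1 hat ((hMn n).2 hnM) hnt hna') hCM ht ht1))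

/-- Only `t` centralises the core of `C(t)` in `S`. -/
theorem cent_S {t s : G} (ht : t ∈ cen S) (ht1 : t ≠ 1) (hs : s ∈ (S : Subgroup G))
    (hc : ∀ y ∈ core t, s * y = y * s) : s = 1 ∨ s = t := by
  obtain ⟨a, ha, ha1, hat⟩ := h.toCtx.exists_other ht
  have key : ∀ v ∈ cen S, v ≠ 1 → v ≠ t → ¬ ∀ y ∈ core t, v * y = y * v := by
    intro v hv hv1 hvt hh
    refine h.ne t ht ht1 ((eq_bot_iff_forall _).2 fun y hy => ?_)
    exact h.core_eq_one ht hy (h.toCtx.mem_centralizer_cen ht hv ht1 hv1 hvt (h.core_commute hy) (hh y hy).symm)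
  by_cases hsA : s ∈ cen S
  · by_contra hno
    push Not at hno
    exact key s hsA hno.1 hno.2 hc
  · exfalso
    obtain ⟨y, hy, hys⟩ := h.toCtx.full hs hsA ha
    refine key a ha ha1 hat fun k hk => ?_
    have hyC : y⁻¹ ∈ centralizer ({t} : Set G) := inv_mem (Hyp.le_cent ht hy)
    have h1 := hc _ (core_conj hyC hk)
    have h2 : (a * s) * k = k * (a * s) := by
      rw [← hys]
      calc y * s * y⁻¹ * k = y * (s * (y⁻¹ * k * y⁻¹⁻¹)) * y⁻¹ := by group
        _ = y * (y⁻¹ * k * y⁻¹⁻¹ * s) * y⁻¹ := by rw [h1]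
        _ = k * (y * s * y⁻¹) := by group
    calc a * k = a * s * k * s⁻¹ := by rw [mul_assoc (a * s), mul_assoc a, ← mul_assoc s, hc k hk]; group
      _ = k * a := by rw [h2]; group

/-- `C(K_t) = K_t × ⟨t⟩`. -/
theorem cent_core [IsSimpleGroup G] (hna : ¬ IsMulCommutative G) {t c : G} (ht : t ∈ cen S) (ht1 : t ≠ 1)
    (hc : ∀ y ∈ core t, c * y = y * c) : c ∈ core t ∨ c * t ∈ core t := by
  classical
  haveI : Fact (Nat.Prime 2) := ⟨Nat.prime_two⟩
  set Y := normalizer (core t : Set G)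
  set X := centralizer (core t : Set G)
  have hSY : (S : Subgroup G) ≤ Y := h.toCtx.S_le_normalizer_core ht
  have hmemX : ∀ x, (∀ y ∈ core t, x * y = y * x) → x ∈ X := fun x hx =>
    mem_centralizer_iff.2 fun y hy => (hx y hy).symm
  have hXn : ∀ y ∈ Y, ∀ x ∈ X, y * x * y⁻¹ ∈ X := by
    refine fun y hy x hx => mem_centralizer_iff.2 fun k hk => ?_
    have hk' := (mem_normalizer_iff''.1 hy k).1 hk
    have hx' := mem_centralizer_iff.1 hx _ hk'
    calc k * (y * x * y⁻¹) = y * ((y⁻¹ * k * y) * x) * y⁻¹ := by group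
      _ = y * (x * (y⁻¹ * k * y)) * y⁻¹ := by rw [hx']
      _ = y * x * y⁻¹ * k := by group
  haveI hn : (X.subgroupOf Y).Normal := ⟨fun x hx y => mem_subgroupOf.2 (hXn y y.2 _ (mem_subgroupOf.1 hx))⟩
  set XY := X.subgroupOf Y
  have hpg : IsPGroup 2 ↥(((S.subtype hSY : Sylow 2 Y) : Subgroup Y).subgroupOf XY) :=
    (S.subtype hSY).isPGroup'.comap_subtype
  set Q : Sylow 2 XY := hpg.toSylow (Grp.sylow_inf_normal_relIndex (S.subtype hSY) XY)
  have hmem : ∀ q ∈ (Q : Subgroup XY), ((q : Y) : G) = 1 ∨ ((q : Y) : G) = t := fun q hq =>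
    h.cent_S ht ht1 hq fun y hy => (mem_centralizer_iff.1 (mem_subgroupOf.1 q.2) y hy).symm
  have htX : t ∈ X := hmemX t fun y hy => (h.core_commute hy).eq.symm
  set tq : ↥(Q : Subgroup XY) := ⟨⟨⟨t, hSY (cen_le ht)⟩, mem_subgroupOf.2 htX⟩, cen_le (S := S) ht⟩ with htq
  have hQc : IsCyclic ↥(Q : Subgroup XY) := by
    refine ⟨⟨tq, fun q => ?_⟩⟩
    rcases hmem q q.2 with e | e
    · exact ⟨0, Subtype.ext (Subtype.ext (Subtype.ext (by simpa using e.symm)))⟩
    · exact ⟨1, Subtype.ext (Subtype.ext (Subtype.ext (by simpa [htq] using e.symm)))⟩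
  obtain ⟨N, hNn, hN2, hNi⟩ := Block.cyclic_two_complement Q hQc
  have hQcard : Nat.card ↥(Q : Subgroup XY) = 2 := by
    refine Nat.card_eq_two_iff.2 ⟨1, tq, fun e => ht1 (by simpa [htq] using
      (congrArg (fun z : ↥(Q : Subgroup XY) => (((z : XY) : Y) : G)) e).symm), Set.eq_univ_of_forall fun q => ?_⟩
    rcases hmem q q.2 with e | e
    · exact Or.inl (Subtype.ext (Subtype.ext (Subtype.ext (by simpa using e))))
    · exact Or.inr (Subtype.ext (Subtype.ext (Subtype.ext e)))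
  rw [hQcard] at hNi
  have hNo : Odd (Nat.card N) := Nat.odd_iff.2 (Nat.two_dvd_ne_zero.1 hN2)
  set M := N.map (Y.subtype.comp XY.subtype) with hM
  have hinj : Function.Injective (Y.subtype.comp XY.subtype) :=
    Y.subtype_injective.comp XY.subtype_injective
  have hMo : Odd (Nat.card M) := by rw [hM, card_map_of_injective hinj]; exact hNo
  have hoddN : ∀ x : XY, Odd (orderOf x) → x ∈ N := fun x hx => by
    have h1 : x * x ∈ N := Subgroup.mul_self_mem_of_index_two hNi x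
    obtain ⟨i, hi⟩ := hx
    have e : x = (x ^ 2) ^ (i + 1) := by
      rw [← pow_mul, show 2 * (i + 1) = orderOf x + 1 by omega, pow_succ, pow_orderOf_eq_one, one_mul]
    rw [e, pow_two]
    exact pow_mem h1 _
  have hmap : ∀ y ∈ Y, ∀ m ∈ M, y * m * y⁻¹ ∈ M := by
    rintro y hy _ ⟨x, hx, rfl⟩
    refine ⟨⟨⟨y, hy⟩ * (x : Y) * ⟨y, hy⟩⁻¹, hn.conj_mem _ x.2 _⟩, hoddN _ ?_, rfl⟩
    rw [← Subgroup.orderOf_coe, Invol.orderOf_conj_eq, Subgroup.orderOf_coe]
    exact hNo.of_dvd_nat (N.orderOf_dvd_natCard hx)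
  have hcore : core t ≤ M := fun k hk => by
    have hkX : k ∈ X := hmemX k fun y hy => h.comm t ht ht1 k hk y hy
    refine ⟨⟨⟨k, le_normalizer hk⟩, mem_subgroupOf.2 hkX⟩, hoddN _ ?_, rfl⟩
    rw [Subgroup.orderOf_mk, Subgroup.orderOf_mk]
    exact (centralizerCore_odd t).of_dvd_nat (Subgroup.orderOf_dvd_natCard _ hk)
  have hMeq : M = core t := h.core_maximal hna ht ht1 ⟨hMo, fun s hs => mem_normalizer_iff.2 fun y =>
    ⟨hmap s (hSY hs) y, fun hy => by simpa [mul_assoc] using hmap s⁻¹ (inv_mem (hSY hs)) _ hy⟩⟩ hcore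
  have hcY : c ∈ Y := centralizer_le_normalizer _ (hmemX c hc)
  set cx : XY := ⟨⟨c, hcY⟩, mem_subgroupOf.2 (hmemX c hc)⟩
  have htN : (tq : XY) ∉ N := fun hh => ht1 (h.core_eq_one ht (hMeq ▸ ⟨_, hh, rfl⟩)
    (mem_centralizer_iff.2 fun v hv => (comm_of_cen hv (cen_le ht))))
  by_cases hcN : cx ∈ N
  · exact Or.inl (hMeq ▸ ⟨cx, hcN, rfl⟩)
  · exact Or.inr (hMeq ▸ ⟨cx * tq, (Subgroup.mul_mem_iff_of_index_two hNi).2 (iff_of_false hcN htN), rfl⟩)

/-- `N(K_t) = C(t)`. -/
theorem normalizer_core_le [IsSimpleGroup G] (hna : ¬ IsMulCommutative G) {t : G} (ht : t ∈ cen S) (ht1 : t ≠ 1) :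
    normalizer (core t : Set G) ≤ centralizer ({t} : Set G) := by
  intro y hy
  set u := y * t * y⁻¹ with hu
  have huK : ∀ k ∈ core t, u * k = k * u := fun k hk => by
    have hk' := (mem_normalizer_iff''.1 hy k).1 hk
    calc u * k = y * (t * (y⁻¹ * k * y)) * y⁻¹ := by rw [hu]; group
      _ = y * ((y⁻¹ * k * y) * t) * y⁻¹ := by rw [(h.core_commute hk').eq]
      _ = k * u := by rw [hu]; group
  have hu2 : u * u = 1 := by
    rw [hu, show y * t * y⁻¹ * (y * t * y⁻¹) = y * (t * t) * y⁻¹ by group, h.toCtx.cen_sq ht]; group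
  have hodd : ∀ k ∈ core t, k * k = 1 → k = 1 := fun k hk hk2 =>
    orderOf_eq_one_iff.1 (Nat.eq_one_of_dvd_coprimes
      (Nat.coprime_two_right.2 (centralizerCore_odd t)) (Subgroup.orderOf_dvd_natCard _ hk)
      (orderOf_dvd_of_pow_eq_one (by rw [pow_two, hk2])))
  rcases h.cent_core hna ht ht1 huK with hk | hk
  · exact absurd (conj_eq_one_iff.1 (hodd u hk hu2)) ht1
  · have hcu : Commute u t := by
      have hut : Commute (u * t) t := h.core_commute hk
      have e := hut.mul_left (Commute.refl t)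
      rwa [mul_assoc, h.toCtx.cen_sq ht, mul_one] at e
    have e := hodd _ hk (calc
      u * t * (u * t) = u * (t * u) * t := by simp only [mul_assoc]
      _ = u * (u * t) * t := by rw [hcu.eq]
      _ = u * u * (t * t) := by simp only [mul_assoc]
      _ = 1 := by rw [hu2, h.toCtx.cen_sq ht, one_mul])
    have e' : u = t := by rw [eq_inv_of_mul_eq_one_left e, h.toCtx.cen_inv ht]
    exact mem_centralizer_singleton_iff.2 (mul_inv_eq_iff_eq_mul.1 e')

end Ab

end Cfsg.Agent.Invol.G1Local
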