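import Mathlib

/-!
# Five anticommuting units of square one

The product `(u₀ - u₁)(u₁ - u₂)(u₂ - u₃)(u₃ - u₄)` is invariant under the cyclic shift and satisfies
`P⁴ - 4P³ + 16P² - 64P + 256 = 0`.
-/

set_option autoImplicit false

namespace Cfsg.Agent.Invol.G1Local

set_option maxHeartbeats 4000000 in
theorem five_units {R : Type*} [Ring R] (u : Fin 5 → R) (hsq : ∀ i, u i * u i = 1)
    (hac : ∀ i j, i ≠ j → u i * u j = -(u j * u i)) :
    let P := (u 0 - u 1) * (u 1 - u 2) * (u 2 - u 3) * (u 3 - u 4)
    P = (u 1 - u 2) * (u 2 - u 3) * (u 3 - u 4) * (u 4 - u 0) ∧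
      P ^ 4 - 4 * P ^ 3 + 16 * P ^ 2 - 64 * P + 256 = 0 := by
  set a := u 0 with ha
  set b := u 1 with hb
  set c := u 2 with hc
  set d := u 3 with hd
  set e := u 4 with he
  intro P
  have qba : b * a = -(a * b) := hac _ _ (by decide)
  have qba' : ∀ w : R, b * (a * w) = -(a * (b * w)) := fun w => by rw [← mul_assoc, qba, neg_mul, mul_assoc]
  have qca : c * a = -(a * c) := hac _ _ (by decide)
  have qca' : ∀ w : R, c * (a * w) = -(a * (c * w)) := fun w => by rw [← mul_assoc, qca, neg_mul, mul_assoc]
  have qcb : c * b = -(b * c) := hac _ _ (by decide)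
  have qcb' : ∀ w : R, c * (b * w) = -(b * (c * w)) := fun w => by rw [← mul_assoc, qcb, neg_mul, mul_assoc]
  have qda : d * a = -(a * d) := hac _ _ (by decide)
  have qda' : ∀ w : R, d * (a * w) = -(a * (d * w)) := fun w => by rw [← mul_assoc, qda, neg_mul, mul_assoc]
  have qdb : d * b = -(b * d) := hac _ _ (by decide)
  have qdb' : ∀ w : R, d * (b * w) = -(b * (d * w)) := fun w => by rw [← mul_assoc, qdb, neg_mul, mul_assoc]
  have qdc : d * c = -(c * d) := hac _ _ (by decide)
  have qdc' : ∀ w : R, d * (c * w) = -(c * (d * w)) := fun w => by rw [← mul_assoc, qdc, neg_mul, mul_assoc]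
  have qea : e * a = -(a * e) := hac _ _ (by decide)
  have qea' : ∀ w : R, e * (a * w) = -(a * (e * w)) := fun w => by rw [← mul_assoc, qea, neg_mul, mul_assoc]
  have qeb : e * b = -(b * e) := hac _ _ (by decide)
  have qeb' : ∀ w : R, e * (b * w) = -(b * (e * w)) := fun w => by rw [← mul_assoc, qeb, neg_mul, mul_assoc]
  have qec : e * c = -(c * e) := hac _ _ (by decide)
  have qec' : ∀ w : R, e * (c * w) = -(c * (e * w)) := fun w => by rw [← mul_assoc, qec, neg_mul, mul_assoc]
  have qed : e * d = -(d * e) := hac _ _ (by decide)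
  have qed' : ∀ w : R, e * (d * w) = -(d * (e * w)) := fun w => by rw [← mul_assoc, qed, neg_mul, mul_assoc]
  have sa : a * a = 1 := hsq _
  have sa' : ∀ w : R, a * (a * w) = w := fun w => by rw [← mul_assoc, sa, one_mul]
  have sb : b * b = 1 := hsq _
  have sb' : ∀ w : R, b * (b * w) = w := fun w => by rw [← mul_assoc, sb, one_mul]
  have sc : c * c = 1 := hsq _
  have sc' : ∀ w : R, c * (c * w) = w := fun w => by rw [← mul_assoc, sc, one_mul]
  have sd : d * d = 1 := hsq _
  have sd' : ∀ w : R, d * (d * w) = w := fun w => by rw [← mul_assoc, sd, one_mul]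
  have se : e * e = 1 := hsq _
  have se' : ∀ w : R, e * (e * w) = w := fun w => by rw [← mul_assoc, se, one_mul]
  have hP : P = 1 - a * b + a * c - a * d + a * e - b * c + b * d - b * e - c * d + c * e - d * e + a * b * c * d - a * b * c * e + a * b * d * e - a * c * d * e + b * c * d * e := by
    simp only [P]
    simp only [qba, qba', qca, qca', qcb, qcb', qda, qda', qdb, qdb', qdc, qdc', qea, qea', qeb, qeb', qec, qec', qed, qed', sa, sa', sb, sb', sc, sc', sd, sd', se, se', mul_add, add_mul, mul_sub, sub_mul, mul_assoc, mul_neg, neg_mul, neg_neg, one_mul, mul_one, smul_mul_assoc, mul_smul_comm, smul_add, smul_sub, smul_neg, neg_add_rev, sub_eq_add_neg]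
    abel
  have hQ : (b - c) * (c - d) * (d - e) * (e - a) = 1 - a * b + a * c - a * d + a * e - b * c + b * d - b * e - c * d + c * e - d * e + a * b * c * d - a * b * c * e + a * b * d * e - a * c * d * e + b * c * d * e := by
    simp only [qba, qba', qca, qca', qcb, qcb', qda, qda', qdb, qdb', qdc, qdc', qea, qea', qeb, qeb', qec, qec', qed, qed', sa, sa', sb, sb', sc, sc', sd, sd', se, se', mul_add, add_mul, mul_sub, sub_mul, mul_assoc, mul_neg, neg_mul, neg_neg, one_mul, mul_one, smul_mul_assoc, mul_smul_comm, smul_add, smul_sub, smul_neg, neg_add_rev, sub_eq_add_neg]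
    abel
  refine ⟨hP.trans hQ.symm, ?_⟩
  have h2 : P * P = (4 : ℤ) • (-1 + a * b + a * c - a * d - a * e + b * c + b * d - b * e + c * d + c * e + d * e + a * b * c * d - a * b * c * e + a * b * d * e - a * c * d * e + b * c * d * e) := by
    rw [hP]
    simp only [qba, qba', qca, qca', qcb, qcb', qda, qda', qdb, qdb', qdc, qdc', qea, qea', qeb, qeb', qec, qec', qed, qed', sa, sa', sb, sb', sc, sc', sd, sd', se, se', mul_add, add_mul, mul_sub, sub_mul, mul_assoc, mul_neg, neg_mul, neg_neg, one_mul, mul_one, smul_mul_assoc, mul_smul_comm, smul_add, smul_sub, smul_neg, neg_add_rev, sub_eq_add_neg]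
    abel
  have h3 : (-1 + a * b + a * c - a * d - a * e + b * c + b * d - b * e + c * d + c * e + d * e + a * b * c * d - a * b * c * e + a * b * d * e - a * c * d * e + b * c * d * e) * P = (4 : ℤ) • (1 + a * b + a * c - a * d - a * e + b * c + b * d - b * e + c * d + c * e + d * e - a * b * c * d + a * b * c * e - a * b * d * e + a * c * d * e - b * c * d * e) := by
    rw [hP]
    simp only [qba, qba', qca, qca', qcb, qcb', qda, qda', qdb, qdb', qdc, qdc', qea, qea', qeb, qeb', qec, qec', qed, qed', sa, sa', sb, sb', sc, sc', sd, sd', se, se', mul_add, add_mul, mul_sub, sub_mul, mul_assoc, mul_neg, neg_mul, neg_neg, one_mul, mul_one, smul_mul_assoc, mul_smul_comm, smul_add, smul_sub, smul_neg, neg_add_rev, sub_eq_add_neg]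
    abel
  have h4 : (1 + a * b + a * c - a * d - a * e + b * c + b * d - b * e + c * d + c * e + d * e - a * b * c * d + a * b * c * e - a * b * d * e + a * c * d * e - b * c * d * e) * P = (4 : ℤ) • (-1 - a * b + a * c - a * d + a * e - b * c + b * d - b * e - c * d + c * e - d * e - a * b * c * d + a * b * c * e - a * b * d * e + a * c * d * e - b * c * d * e) := by
    rw [hP]
    simp only [qba, qba', qca, qca', qcb, qcb', qda, qda', qdb, qdb', qdc, qdc', qea, qea', qeb, qeb', qec, qec', qed, qed', sa, sa', sb, sb', sc, sc', sd, sd', se, se', mul_add, add_mul, mul_sub, sub_mul, mul_assoc, mul_neg, neg_mul, neg_neg, one_mul, mul_one, smul_mul_assoc, mul_smul_comm, smul_add, smul_sub, smul_neg, neg_add_rev, sub_eq_add_neg]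
    abel
  have e3 : P ^ 3 = (4 : ℤ) • (4 : ℤ) • (1 + a * b + a * c - a * d - a * e + b * c + b * d - b * e + c * d + c * e + d * e - a * b * c * d + a * b * c * e - a * b * d * e + a * c * d * e - b * c * d * e) := by
    rw [pow_succ, pow_two, h2, smul_mul_assoc, h3]
  have e4 : P ^ 4 = (4 : ℤ) • (4 : ℤ) • (4 : ℤ) • (-1 - a * b + a * c - a * d + a * e - b * c + b * d - b * e - c * d + c * e - d * e - a * b * c * d + a * b * c * e - a * b * d * e + a * c * d * e - b * c * d * e) := by
    rw [pow_succ, e3, smul_mul_assoc, smul_mul_assoc, h4]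
  rw [e4, e3, pow_two, h2, hP]
  simp only [zsmul_eq_mul]
  norm_num
  noncomm_ring
  simp

end Cfsg.Agent.Invol.G1Local
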