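import Mathlib

/-!
# No transvection cycles two anticommuting involutions in characteristic five
-/

set_option autoImplicit false

namespace Cfsg.Agent.Invol.G1Local

/-- `X` with `X U₀ = U₁ X` cannot have a fixed subgroup of index five. -/
theorem no_transvection {M : Type*} [AddCommGroup M] (h5 : ∀ m : M, (5 : ℤ) • m = 0)
    (U₀ U₁ X : AddMonoid.End M) (hX : X * U₀ = U₁ * X) (h0 : U₀ * U₀ = 1) (hac : U₀ * U₁ = -(U₁ * U₀))
    (hX5 : X ^ 5 = 1) (f : M) (hf : ∀ m : M, ∃ c : M, X c = c ∧ ∃ n : ℤ, m = c + n • f) (g : M) (hg : g ≠ 0) :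
    False := by
  have aX : ∀ m, X (U₀ m) = U₁ (X m) := fun m => DFunLike.congr_fun hX m
  have a0 : ∀ m, U₀ (U₀ m) = m := fun m => DFunLike.congr_fun h0 m
  have aac : ∀ m, U₀ (U₁ m) = -(U₁ (U₀ m)) := fun m => DFunLike.congr_fun hac m
  have two : ∀ m : M, m + m = 0 → m = 0 := fun m hm =>
    calc m = (5 : ℤ) • m - ((m + m) + (m + m)) := by module
      _ = 0 := by rw [h5, hm]; simp
  have div5 : ∀ (k : ℤ) (m : M), k • m = 0 → m ≠ 0 → (5 : ℤ) ∣ k := fun k m hk hm => by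
    by_contra hd
    obtain ⟨a, b, hab⟩ := (Prime.coprime_iff_not_dvd (by norm_num : Prime (5 : ℤ))).2 hd
    refine hm ?_
    calc m = (a * 5 + b * k) • m := by rw [hab, one_smul]
      _ = 0 := by rw [add_smul, mul_smul, mul_smul, h5, hk]; simp
  have mod5 : ∀ β : ℤ, (5 : ℤ) ∣ β ^ 5 - 1 → (5 : ℤ) ∣ β - 1 := fun β hd => by
    have key : ∀ z : ZMod 5, z ^ 5 - 1 = 0 → z - 1 = 0 := by decide
    have h1 := key (β : ZMod 5) (by
      have := (ZMod.intCast_zmod_eq_zero_iff_dvd (β ^ 5 - 1) 5).2 hd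
      push_cast at this
      exact this)
    refine (ZMod.intCast_zmod_eq_zero_iff_dvd (β - 1) 5).1 ?_
    push_cast
    exact h1
  -- an element fixed with its image under `U₀` is zero
  have claim : ∀ c, X c = c → X (U₀ c) = U₀ c → c = 0 := fun c hc hc' => by
    have e1 : U₁ c = U₀ c := by rw [← hc', aX, hc]
    have e2 : U₁ (U₀ c) = c := by
      have := (aX (U₀ c)).symm
      rwa [a0, hc, hc'] at this
    have e3 := aac c
    rw [e1, a0, e2] at e3
    exact two c (by nth_rewrite 1 [e3]; exact neg_add_cancel c)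
  have hnot : ∃ m, X m ≠ m := by
    by_contra hall
    push Not at hall
    exact hg (claim g (hall g) (hall _))
  have hmul : ∀ (A B : AddMonoid.End M) (m : M), (A * B) m = A (B m) := fun _ _ _ => rfl
  have hX5' : ∀ m, (X ^ 5) m = m := fun m => by rw [hX5]; rfl
  obtain ⟨e, he, he0⟩ : ∃ e, X e = e ∧ e ≠ 0 := by
    by_contra hno
    push Not at hno
    have hall : ∀ m, ∃ n : ℤ, m = n • f := fun m => by
      obtain ⟨c, hc, n, hn⟩ := hf m
      exact ⟨n, by rw [hn, hno c hc, zero_add]⟩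
    obtain ⟨β, hβ⟩ := hall (X f)
    have hpow : ∀ k : ℕ, (X ^ k) f = β ^ k • f := fun k => by
      induction k with
      | zero => simp
      | succ k ih => rw [pow_succ' X, hmul, ih, map_zsmul, hβ, smul_smul, pow_succ]
    have hf0 : f ≠ 0 := fun e' => hg (by
      obtain ⟨n, hn⟩ := hall g
      rw [hn, e', smul_zero])
    obtain ⟨q, hq⟩ := mod5 β (div5 _ f (by rw [sub_smul, one_smul, ← hpow, hX5', sub_self]) hf0)
    have hXf : X f = f := by
      rw [hβ, show β = 5 * q + 1 by omega, add_smul, mul_smul, h5, zero_add, one_smul]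
    obtain ⟨m, hm⟩ := hnot
    obtain ⟨n, rfl⟩ := hall m
    exact hm (by rw [map_zsmul, hXf])
  set f' := U₀ e with hf'
  have hf'X : X f' ≠ f' := fun h' => he0 (claim e he h')
  obtain ⟨c₀, hc₀, n₀, hn₀⟩ := hf f'
  have hn₀5 : ¬ (5 : ℤ) ∣ n₀ := by
    rintro ⟨q, rfl⟩
    refine hf'X ?_
    rw [hn₀, mul_smul, h5, add_zero, hc₀]
  obtain ⟨a, b, hab⟩ := (Prime.coprime_iff_not_dvd (by norm_num : Prime (5 : ℤ))).2 hn₀5
  have hf2 : ∀ m : M, ∃ c : M, X c = c ∧ ∃ n : ℤ, m = c + n • f' := fun m => by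
    obtain ⟨c, hc, n, hn⟩ := hf m
    refine ⟨c - (n * b) • c₀, by rw [map_sub, map_zsmul, hc, hc₀], n * b, ?_⟩
    have e1 : f = (b * n₀) • f := by
      rw [show b * n₀ = 1 - a * 5 by omega, sub_smul, one_smul, mul_smul, h5, smul_zero, sub_zero]
    rw [hn, hn₀]
    conv_lhs => rw [e1]
    module
  have hfix : ∀ c, X c = c → ∃ n : ℤ, c = n • e := fun c hc => by
    obtain ⟨c', hc', n, hn⟩ := hf2 (U₀ c)
    refine ⟨n, sub_eq_zero.1 (claim _ (by rw [map_sub, map_zsmul, hc, he]) ?_)⟩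
    rw [map_sub U₀, map_zsmul U₀, hn, ← hf', add_sub_cancel_right, hc']
  obtain ⟨c, hc, β, hβ⟩ := hf2 (X f')
  obtain ⟨α, rfl⟩ := hfix c hc
  have hpow : ∀ k : ℕ, ∃ γ : ℤ, (X ^ k) f' = γ • e + β ^ k • f' := fun k => by
    induction k with
    | zero => exact ⟨0, by simp⟩
    | succ k ih =>
      obtain ⟨γ, hγ⟩ := ih
      refine ⟨γ + β ^ k * α, ?_⟩
      rw [pow_succ' X, hmul, hγ, map_add, map_zsmul, map_zsmul, he, hβ, pow_succ]
      module
  obtain ⟨γ, hγ⟩ := hpow 5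
  rw [hX5'] at hγ
  have hβ5 : (5 : ℤ) ∣ β ^ 5 - 1 := by
    by_contra hd
    obtain ⟨a', b', hab'⟩ := (Prime.coprime_iff_not_dvd (by norm_num : Prime (5 : ℤ))).2 hd
    have e1 : (β ^ 5 - 1) • f' = -(γ • e) := by
      rw [sub_smul, one_smul]
      nth_rewrite 2 [hγ]
      abel
    have e2 : f' = b' • (-(γ • e)) :=
      calc f' = (a' * 5 + b' * (β ^ 5 - 1)) • f' := by rw [hab', one_smul]
        _ = _ := by rw [add_smul, mul_smul, mul_smul, h5, e1, smul_zero, zero_add]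
    exact hf'X (by rw [e2, map_zsmul, map_neg, map_zsmul, he])
  obtain ⟨q, hq⟩ := mod5 β hβ5
  have hXf : X f' = α • e + f' := by
    rw [hβ, show β = 5 * q + 1 by omega, add_smul, mul_smul, h5, zero_add, one_smul]
  have u1e : U₁ e = α • e + f' := by
    have := aX e
    rw [he] at this
    rw [← this, ← hf', hXf]
  have u0f : U₀ f' = e := a0 e
  have hpre : X (f' - α • e) = f' := by rw [map_sub, map_zsmul, hXf, he]; abel
  have u1f : U₁ f' = e - α • (α • e + f') := by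
    have := aX (f' - α • e)
    rw [hpre] at this
    rw [← this, map_sub U₀, map_zsmul U₀, u0f, ← hf', map_sub, map_zsmul, he, hXf]
  have e3 := aac e
  rw [u1e, map_add, map_zsmul, u0f, ← hf', u1f] at e3
  have e4 : (2 - α * α) • e = 0 := by
    have e5 : (2 - α * α) • e = (α • f' + e) + (e - α • (α • e + f')) := by module
    rw [e5, e3, neg_add_cancel]
  have h2 := (ZMod.intCast_zmod_eq_zero_iff_dvd (2 - α * α) 5).2 (div5 _ e e4 he0)
  push_cast at h2
  exact (by decide : ∀ z : ZMod 5, 2 - z * z ≠ 0) _ h2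

end Cfsg.Agent.Invol.G1Local
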