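import Cfsg.Agent.Lib.Invol.G1Local.Part
import Cfsg.Agent.Lib.Invol.G1Local.Transvection

/-!
# Exponent five: a transfer

`E = K_t⟨x⟩` is a Sylow 5-subgroup, and a conjugate of `x` in `E` lies in `K_t x`; so the transfer to `E / K_t` is
not trivial.
-/

set_option autoImplicit false
set_option linter.unusedSectionVars false
set_option linter.style.haveILetI false

open Subgroup
open scoped IsMulCommutative

namespace Cfsg.Agent.Invol.G1Local

open Transfer.UnitaryFour CentRank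

universe u

variable {G : Type u} [Group G] [Finite G] {S : Sylow 2 G}

namespace Ab

variable {r : ℕ} (h : Ab S r)
include h

/-- The cube of an element of `N(S)` centralises `A`. -/
theorem cube_fix {n v : G} (hn : n ∈ normalizer ((S : Subgroup G) : Set G)) (hv : v ∈ cen S) :
    n * n * n * v * (n * n * n)⁻¹ = v := by
  rw [show n * n * n * v * (n * n * n)⁻¹ = n * (n * (n * v * n⁻¹) * n⁻¹) * n⁻¹ by group]
  set w := n * v * n⁻¹ with hw
  by_cases hwv : w = v
  · rw [hwv, ← hw, hwv, ← hw, hwv]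
  have hv1 : v ≠ 1 := fun e => hwv (by rw [hw, e]; group)
  have hw1 : w ≠ 1 := fun e => hv1 (conj_eq_one_iff.1 e)
  rcases h.toCtx.eq_or hv (Hyp.cen_normal hn hv) hv1 hw1 hwv (Hyp.cen_normal hn (Hyp.cen_normal hn hv)) with e | e | e | e
  · exact absurd (conj_eq_one_iff.1 e) hw1
  · exact (h.toCtx.no_swap hv hwv hn hw.symm e).elim
  · exact absurd (mul_left_cancel (mul_right_cancel (e.trans hw))) hwv
  · rw [e, show n * (v * w) * n⁻¹ = n * v * n⁻¹ * (n * w * n⁻¹) by group, ← hw, e,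
      comm_of_cen hv (cen_le (Hyp.cen_normal hn hv)), ← mul_assoc, h.toCtx.cen_sq (Hyp.cen_normal hn hv), one_mul]

/-- An involution of `C(x)` is conjugate in `C(x)` into `A`. -/
theorem cent_five_conj {x : G} (hx : Five S x) {u : G} (hu : orderOf u = 2)
    (huY : u ∈ centralizer ({x} : Set G)) :
    ∃ c ∈ centralizer ({x} : Set G), c * u * c⁻¹ ∈ cen S := by
  haveI : Fact (Nat.Prime 2) := ⟨Nat.prime_two⟩
  obtain ⟨t, ht, ht1, -⟩ := h.toCtx.exists_other (one_mem (cen S))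
  obtain ⟨a, ha, ha1, hat⟩ := h.toCtx.exists_other ht
  set Y := centralizer ({x} : Set G)
  have hAY : cen S ≤ Y := fun v hv => mem_centralizer_singleton_iff.2 (mem_centralizer_iff.1 hx.mem v hv)
  obtain ⟨T, hT⟩ := ((S.2.to_le (cen_le (S := S))).comap_subtype (K := Y)).exists_le_sylow
  have hTA : (T : Subgroup Y).map Y.subtype ≤ cen S := by
    set T' := (T : Subgroup Y).map Y.subtype
    have hle : cen S ≤ T' := fun p hp => ⟨⟨p, hAY hp⟩, hT hp, rfl⟩
    by_contra hne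
    obtain ⟨j, hjT, hjA, hjN⟩ := Core2.exists_normalizing (T.isPGroup'.map _) (lt_of_le_not_ge hle hne)
    have hjn := h.toCtx.mem_normalizer ht ha ht1 ha1 hat (cen_le ((mem_normalizer_iff.1 hjN t).1 ht))
      (cen_le ((mem_normalizer_iff.1 hjN a).1 ha))
    have hjS : j ∈ (S : Subgroup G) := S.is_maximal' (((T.isPGroup'.map _).to_le
      (zpowers_le.2 hjT)).to_sup_of_normal_right' S.isPGroup' (zpowers_le.2 hjn)) le_sup_right ▸
        mem_sup_left (mem_zpowers _)
    refine hjA (hx.fpf j hjS ?_)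
    rw [← mem_centralizer_singleton_iff.1 (map_subtype_le _ hjT), mul_inv_cancel_right, mul_inv_cancel]
    exact one_mem _
  obtain ⟨g, hg⟩ := Invol.exists_conj_mem_sylow (x := (⟨u, huY⟩ : Y)) (n := 1)
    (by rw [Subgroup.orderOf_mk, hu, pow_one]) T
  exact ⟨g, g.2, hTA ⟨_, hg, rfl⟩⟩

/-- `x` does not fix a subgroup of index five of the core. -/
theorem no_fixed_hyperplane {x : G} (hx : Five S x) (hr5 : r = 5) {t : G} (ht : t ∈ cen S) (ht1 : t ≠ 1) {f : G}
    (hf : f ∈ core t) (hgen : ∀ m ∈ core t, ∃ c ∈ core t, Commute x c ∧ ∃ n : ℤ, m = c * f ^ n) : False := by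
  haveI := h.isMulCommutative_core ht ht1
  obtain ⟨U, X, hsq, hac, hXU, hX5, hfix⟩ := h.exists_operators hx ht ht1
  obtain ⟨y, hy, hy1⟩ : ∃ y ∈ core t, y ≠ 1 := by
    by_contra hno
    push Not at hno
    exact h.ne t ht ht1 ((eq_bot_iff_forall _).2 hno)
  refine no_transvection (fun m => ?_) (U 0) (U 1) X (hXU 0) (hsq 0) (hac 0 1 (by decide)) hX5
    (Additive.ofMul ⟨f, hf⟩) (fun m => ?_) (Additive.ofMul ⟨y, hy⟩) fun e => hy1 ?_
  · refine Additive.toMul.injective (Subtype.ext ?_)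
    rw [toMul_zsmul, Subgroup.coe_zpow, toMul_zero, OneMemClass.coe_one,
      show (5 : ℤ) = ((r : ℕ) : ℤ) by rw [hr5]; norm_num, zpow_natCast]
    exact h.exp t ht ht1 _ m.toMul.2
  · obtain ⟨c, hc, hxc, n, hn⟩ := hgen _ m.toMul.2
    exact ⟨Additive.ofMul ⟨c, hc⟩, (hfix _).2 hxc, n, Additive.toMul.injective (Subtype.ext (by
      rw [toMul_add, toMul_zsmul, Subgroup.coe_mul, Subgroup.coe_zpow]
      exact hn))⟩
  · exact congrArg Subtype.val (congrArg Additive.toMul e)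

/-- `N(E)` normalises the core, for `E = ⟨x⟩ K_t`. -/
theorem normalizer_five_le {x : G} (hx : Five S x) (hr5 : r = 5) {t : G} (ht : t ∈ cen S) (ht1 : t ≠ 1) {j : G}
    (hj : j ∈ normalizer ((zpowers x ⊔ core t : Subgroup G) : Set G)) : j ∈ normalizer (core t : Set G) := by
  classical
  haveI := h.isMulCommutative_core ht ht1
  haveI : Fact (Nat.Prime 5) := ⟨Nat.prime_five⟩
  set K := core t
  set E := zpowers x ⊔ K
  set K' := K.map (MulAut.conj j).toMonoidHom
  have hK'E : K' ≤ E := by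
    rintro _ ⟨k, hk, rfl⟩
    exact (mem_normalizer_iff.1 hj k).1 (mem_sup_right hk)
  have hcard : Nat.card K' = Nat.card K := card_map_of_injective (MulAut.conj j).injective
  refine Grp.mem_normalizer_of_map_eq.2 (by_contra fun hne => ?_)
  have hxC : x ∈ centralizer ({t} : Set G) := centralizer_le (Set.singleton_subset_iff.2 ht) hx.mem
  have hxK : zpowers x ≤ normalizer (K : Set G) := (zpowers_le.2 hxC).trans (centralizer_le_normalizer_core t)
  obtain ⟨y, hyK', hyK⟩ := SetLike.not_le_iff_exists.1 (fun hle => hne (eq_of_le_of_card_ge hle hcard.ge))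
  obtain ⟨p, hp, k₁, hk₁, rfl⟩ : ∃ p ∈ zpowers x, ∃ k₁ ∈ K, p * k₁ = y := by
    have hyE := hK'E hyK'
    rw [← SetLike.mem_coe, coe_mul_of_left_le_normalizer_right _ _ hxK] at hyE
    exact hyE
  have hfix : ∀ z ∈ K ⊓ K', Commute x z := by
    rintro z ⟨hzK, hzK'⟩
    have hzy : Commute z (p * k₁) := by
      obtain ⟨z₀, hz₀, rfl⟩ := hzK'
      obtain ⟨y₀, hy₀, e⟩ := hyK'
      rw [← e]
      exact (show Commute z₀ y₀ from h.comm t ht ht1 z₀ hz₀ y₀ hy₀).map _
    have hzp : Commute z p := by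
      have e := hzy.mul_right (show Commute z k₁ from h.comm t ht ht1 z hzK k₁ hk₁).inv_right
      rwa [mul_inv_cancel_right] at e
    have hp1 : p ≠ 1 := fun e => hyK (by rw [e, one_mul]; exact hk₁)
    have hpx : x ∈ zpowers p := by
      have hle : zpowers p ≤ zpowers x := zpowers_le.2 hp
      have hc : Nat.card (zpowers p) = Nat.card (zpowers x) := by
        rcases (Nat.dvd_prime Nat.prime_five).1 (show Nat.card (zpowers p) ∣ 5 by
          rw [← hx.order, ← Nat.card_zpowers]; exact card_dvd_of_le hle) with e | e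
        · rw [Nat.card_zpowers, orderOf_eq_one_iff] at e
          exact absurd e hp1
        · rw [e, Nat.card_zpowers, hx.order]
      exact eq_of_le_of_card_ge hle hc.ge ▸ mem_zpowers x
    obtain ⟨i, rfl⟩ := mem_zpowers_iff.1 hpx
    exact (hzp.zpow_right i).symm
  -- `K ⊓ K'` has index at most five in `K`
  set C := K ⊓ centralizer ({x} : Set G)
  have hI : K ⊓ K' ≤ C := fun z hz => ⟨hz.1, mem_centralizer_singleton_iff.2 (hfix z hz).symm.eq⟩
  have hEcard : Nat.card E ∣ 5 * Nat.card K := by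
    have := Grp.card_sup_dvd_mul hxK
    rwa [Nat.card_zpowers, hx.order] at this
  have hrel : K.relIndex E ≤ 5 := by
    have e := (K.subgroupOf E).card_mul_index
    rw [Nat.card_congr (subgroupOfEquivOfLe (le_sup_right : K ≤ E)).toEquiv] at e
    refine Nat.le_of_dvd (by norm_num) (Nat.dvd_of_mul_dvd_mul_left (Nat.card_pos (α := K)) ?_)
    rw [Subgroup.relIndex, e, mul_comm]
    exact hEcard
  have hrelK : C.relIndex K ≤ 5 := by
    have h1 : (K ⊓ K').relIndex K' ≤ 5 := by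
      rw [Subgroup.inf_relIndex_right]
      exact (Subgroup.relIndex_le_of_le_right hK'E (by
        rw [Subgroup.relIndex]; exact Subgroup.index_ne_zero_of_finite)).trans hrel
    have e1 := ((K ⊓ K').subgroupOf K').card_mul_index
    rw [Nat.card_congr (subgroupOfEquivOfLe (inf_le_right : K ⊓ K' ≤ K')).toEquiv, hcard] at e1
    have e2 := (C.subgroupOf K).card_mul_index
    rw [Nat.card_congr (subgroupOfEquivOfLe (inf_le_left : C ≤ K)).toEquiv] at e2
    have hle : Nat.card ↥(K ⊓ K') ≤ Nat.card C := card_le_of_le hI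
    rw [Subgroup.relIndex] at h1 ⊢
    by_contra hgt
    have h6 : 6 ≤ (C.subgroupOf K).index := by omega
    have := Nat.mul_le_mul hle h6
    have hpos := Nat.card_pos (α := ↥(K ⊓ K'))
    nlinarith
  obtain ⟨q, hq⟩ : IsCyclic (K ⧸ C.subgroupOf K) := by
    have hpg : IsPGroup 5 (K ⧸ C.subgroupOf K) := by
      have := h.isPGroup_core ht ht1
      rw [hr5] at this
      exact this.to_quotient _
    obtain ⟨l, hl⟩ := IsPGroup.iff_card.1 hpg
    have hl5 : 5 ^ l ≤ 5 := by rw [← hl, ← Subgroup.index_eq_card]; exact hrelK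
    rcases l with _ | _ | l
    · haveI : Subsingleton (K ⧸ C.subgroupOf K) := (Nat.card_eq_one_iff_unique.1 (by rw [hl]; rfl)).1
      infer_instance
    · exact isCyclic_of_prime_card (p := 5) (by rw [hl]; rfl)
    · exfalso
      have := Nat.pow_le_pow_right (by norm_num : 1 ≤ 5) (show 2 ≤ l + 1 + 1 by omega)
      omega
  obtain ⟨f, rfl⟩ := QuotientGroup.mk'_surjective _ q
  refine h.no_fixed_hyperplane hx hr5 ht ht1 f.2 fun m hm => ?_
  obtain ⟨n, hn⟩ := mem_zpowers_iff.1 (hq (QuotientGroup.mk' _ (⟨m, hm⟩ : K)))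
  rw [← map_zpow] at hn
  have hc : (f ^ n)⁻¹ * (⟨m, hm⟩ : K) ∈ C.subgroupOf K := QuotientGroup.eq.1 hn
  have hc' := mem_subgroupOf.1 hc
  refine ⟨_, hc'.1, (show Commute _ x from mem_centralizer_singleton_iff.1 hc'.2).symm, n, ?_⟩
  have e : (f ^ n)⁻¹ * (⟨m, hm⟩ : K) * f ^ n = ⟨m, hm⟩ := by rw [mul_comm _ (f ^ n), mul_inv_cancel_left]
  have e' := (congrArg Subtype.val e).symm
  exact e'

/-- An element of `E = ⟨x⟩ K_t` is `k x ^ i`. -/
theorem mem_five {x : G} (hx : Five S x) {t : G} (ht : t ∈ cen S) {e : G} (he : e ∈ zpowers x ⊔ core t) :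
    ∃ k ∈ core t, ∃ i : ℕ, e = k * x ^ i := by
  have hxC : x ∈ centralizer ({t} : Set G) := centralizer_le (Set.singleton_subset_iff.2 ht) hx.mem
  rw [← SetLike.mem_coe, coe_mul_of_left_le_normalizer_right _ _
    ((zpowers_le.2 hxC).trans (centralizer_le_normalizer_core t))] at he
  obtain ⟨p, hp, k, hk, rfl⟩ := he
  obtain ⟨i, rfl⟩ := mem_powers_iff_mem_zpowers.2 hp
  exact ⟨_, core_conj (pow_mem hxC i) hk, i, by simp⟩

/-- A conjugate of `x` in `E` lies in `K_t x`. -/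
theorem fusion_five {x : G} (hx : Five S x) {t : G} (ht : t ∈ cen S) (ht1 : t ≠ 1) {g : G}
    (hg : g * x * g⁻¹ ∈ zpowers x ⊔ core t) : ∃ k ∈ core t, g * x * g⁻¹ = k * x := by
  haveI : Fact (Nat.Prime 2) := ⟨Nat.prime_two⟩
  obtain ⟨k, hk, i, he⟩ := h.mem_five hx ht hg
  obtain ⟨a, ha, ha1, hat⟩ := h.toCtx.exists_other ht
  have hx5 : x ^ 5 = 1 := hx.order ▸ pow_orderOf_eq_one x
  have hord : orderOf (g * x * g⁻¹) = 5 := by rw [Invol.orderOf_conj_eq, hx.order]
  have hxC : x ∈ centralizer ({t} : Set G) := centralizer_le (Set.singleton_subset_iff.2 ht) hx.mem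
  set A := cen S
  set B₀ := A.map (MulAut.conj g).toMonoidHom
  rw [show x ^ i = x ^ (i % 5) by rw [← hx.order]; exact (pow_mod_orderOf x i).symm] at he
  by_cases hi0 : i % 5 = 0
  · -- no conjugate of `x` lies in `K_t`
    exfalso
    rw [hi0, pow_zero, mul_one] at he
    have hk1 : k ≠ 1 := fun e => by rw [he, e, orderOf_one] at hord; omega
    obtain ⟨T, hTc⟩ := h.exists_cyclic_sylow ht ht1 hk hk1
    have hBC : B₀ ≤ centralizer ({k} : Set G) := by
      rintro _ ⟨v, hv, rfl⟩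
      refine mem_centralizer_singleton_iff.2 ?_
      rw [← he]
      exact ((show Commute v x from mem_centralizer_iff.1 hx.mem v hv).map (MulAut.conj g).toMonoidHom).eq
    obtain ⟨T₁, hT₁⟩ := (((S.2.to_le (cen_le (S := S))).map (MulAut.conj g).toMonoidHom).comap_subtype
      (K := centralizer ({k} : Set G))).exists_le_sylow
    haveI : IsCyclic ↥(T₁ : Subgroup ↥(centralizer ({k} : Set G))) := (Sylow.equiv T₁ T).isCyclic.2 hTc
    haveI : IsCyclic ↥(B₀.subgroupOf (centralizer ({k} : Set G))) :=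
      isCyclic_of_injective (inclusion hT₁) (inclusion_injective hT₁)
    haveI : IsCyclic ↥B₀ := (subgroupOfEquivOfLe hBC).isCyclic.1 inferInstance
    obtain ⟨b, hb⟩ := IsCyclic.exists_ofOrder_eq_natCard (α := ↥B₀)
    rw [card_map_of_injective (MulAut.conj g).injective, h.toCtx.card_cen] at hb
    have hb2 : b ^ 2 = 1 := by
      obtain ⟨v, hv, hvb⟩ := b.2
      refine Subtype.ext ?_
      rw [Subgroup.coe_pow, ← hvb, ← map_pow, pow_two, h.toCtx.cen_sq hv, map_one]
      rfl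
    have := Nat.le_of_dvd (by norm_num) (orderOf_dvd_of_pow_eq_one hb2)
    omega
  -- the other case: `i = 1`
  set i₀ := i % 5 with hi₀
  have hy't : Commute (g * x * g⁻¹) t := by
    rw [he]
    exact (h.core_commute hk).mul_left ((show Commute x t from mem_centralizer_singleton_iff.1 hxC).pow_left i₀)
  have hu : orderOf (g⁻¹ * t * g) = 2 := by
    rw [show g⁻¹ * t * g = g⁻¹ * t * g⁻¹⁻¹ by group, Invol.orderOf_conj_eq, h.toCtx.orderOf_cen ht ht1]
  have huY : g⁻¹ * t * g ∈ centralizer ({x} : Set G) := mem_centralizer_singleton_iff.2 (by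
    calc g⁻¹ * t * g * x = g⁻¹ * (t * (g * x * g⁻¹)) * g := by group
      _ = g⁻¹ * ((g * x * g⁻¹) * t) * g := by rw [hy't.eq]
      _ = x * (g⁻¹ * t * g) := by group)
  obtain ⟨c, hc, hcA⟩ := h.cent_five_conj hx hu huY
  set v := c * (g⁻¹ * t * g) * c⁻¹ with hv
  set g' := g * c⁻¹ with hg'
  have hg'v : g' * v * g'⁻¹ = t := by rw [hg', hv]; group
  have hg'x : g' * x * g'⁻¹ = k * x ^ i₀ := by
    rw [hg', show g * c⁻¹ * x * (g * c⁻¹)⁻¹ = g * (c⁻¹ * x * c) * g⁻¹ by group,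
      show c⁻¹ * x * c = x by rw [mul_assoc, ← mem_centralizer_singleton_iff.1 hc, inv_mul_cancel_left], he]
  set B := A.map (MulAut.conj g').toMonoidHom
  have hBt : B ≤ centralizer ({t} : Set G) := by
    rintro _ ⟨w, hw, rfl⟩
    refine mem_centralizer_singleton_iff.2 ?_
    rw [← hg'v]
    exact ((show Commute w v from comm_of_cen hw (cen_le hcA)).map (MulAut.conj g').toMonoidHom).eq
  obtain ⟨k', hk', hk'S⟩ := h.two_subgroup_conj ht ht1 ((S.2.to_le (cen_le (S := S))).map _) hBt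
  set n := k'⁻¹ * g' with hn
  have hnA : ∀ w ∈ cen S, n * w * n⁻¹ ∈ cen S := fun w hw => by
    refine h.toCtx.mem_cen_of_sq ?_ ?_
    · have := hk'S _ ⟨w, hw, rfl⟩
      simpa [hn, mul_assoc] using this
    · rw [show n * w * n⁻¹ * (n * w * n⁻¹) = n * (w * w) * n⁻¹ by group, h.toCtx.cen_sq hw]; group
  have hnN : n ∈ normalizer ((S : Subgroup G) : Set G) :=
    h.toCtx.mem_normalizer ht ha ht1 ha1 hat (cen_le (hnA t ht)) (cen_le (hnA a ha))
  have hnx : n * x * n⁻¹ = x ^ i₀ := by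
    set k₂ := k'⁻¹ * k * (x ^ i₀ * k' * (x ^ i₀)⁻¹) with hk₂
    have hk₂K : k₂ ∈ core t := mul_mem (mul_mem (inv_mem hk') hk) (core_conj (pow_mem hxC i₀) hk')
    have e1 : n * x * n⁻¹ = k₂ * x ^ i₀ :=
      calc n * x * n⁻¹ = k'⁻¹ * (g' * x * g'⁻¹) * k' := by rw [hn]; group
        _ = k₂ * x ^ i₀ := by rw [hg'x, hk₂]; group
    have hnxA : n * x * n⁻¹ ∈ centralizer (cen S : Set G) := mem_centralizer_iff.2 fun w hw => by
      have hw' := Hyp.cen_normal (inv_mem hnN) hw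
      rw [inv_inv] at hw'
      calc w * (n * x * n⁻¹) = n * (n⁻¹ * w * n * x) * n⁻¹ := by group
        _ = n * (x * (n⁻¹ * w * n)) * n⁻¹ := by rw [mem_centralizer_iff.1 hx.mem _ hw']
        _ = n * x * n⁻¹ * w := by group
    have : k₂ ∈ centralizer (cen S : Set G) := by
      have := mul_mem hnxA (inv_mem (pow_mem hx.mem i₀))
      rwa [e1, mul_inv_cancel_right] at this
    rw [e1, h.core_eq_one ht hk₂K this, one_mul]
  -- the cube centralises `A`, so `i ^ 3 ≡ 1`
  have hn3 : n * n * n ∈ centralizer (cen S : Set G) := mem_centralizer_iff.2 fun w hw =>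
    (mul_inv_eq_iff_eq_mul.1 (h.cube_fix hnN hw)).symm
  have hpow : ∀ m : ℕ, n * x ^ m * n⁻¹ = x ^ (i₀ * m) := fun m => by
    rw [← conj_pow, hnx, ← pow_mul]
  have e3 : n * n * n * x * (n * n * n)⁻¹ = x ^ (i₀ * (i₀ * i₀)) := by
    rw [show n * n * n * x * (n * n * n)⁻¹ = n * (n * (n * x * n⁻¹) * n⁻¹) * n⁻¹ by group, hnx, hpow, hpow]
  obtain ⟨s, hs, j, hj⟩ := hx.split _ hn3
  have e4 : s * x * s⁻¹ = x ^ (i₀ * (i₀ * i₀)) := by
    rw [← e3, hj]; group
  have hxN := h.toCtx.centralizer_cen_le hx.mem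
  have hmem : s * (x * s⁻¹ * x⁻¹) ∈ (S : Subgroup G) :=
    mul_mem hs ((mem_normalizer_iff.1 hxN _).1 (inv_mem hs))
  have e5 : x ^ (i₀ * (i₀ * i₀)) = x := by
    have h1 : s * (x * s⁻¹ * x⁻¹) = x ^ (i₀ * (i₀ * i₀)) * x⁻¹ := by rw [← e4]; group
    have h2 : s * (x * s⁻¹ * x⁻¹) = 1 := by
      refine eq_one_of_odd hmem ?_
      rw [h1]
      refine Odd.of_dvd_nat (show Odd 5 by decide) (orderOf_dvd_of_pow_eq_one ?_)
      rw [((Commute.refl x).pow_left _).inv_right.mul_pow, ← pow_mul, mul_comm, pow_mul, hx5, one_pow,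
        inv_pow, hx5, inv_one, one_mul]
    rwa [h1, mul_inv_eq_one] at h2
  have e6 : i₀ * (i₀ * i₀) % 5 = 1 := by
    have h1 : x ^ (i₀ * (i₀ * i₀)) = x ^ 1 := by rw [e5, pow_one]
    rw [pow_eq_pow_iff_modEq, hx.order] at h1
    exact h1
  have hi5 : i₀ < 5 := Nat.mod_lt _ (by norm_num)
  have hi1 : i₀ = 1 := by interval_cases i₀ <;> omega
  exact ⟨k, hk, by rw [he, hi1, pow_one]⟩

/-- The exponent is not five. -/
theorem false_of_five [IsSimpleGroup G] (hna : ¬ IsMulCommutative G) (hr5 : r = 5) {x : G} (hx : Five S x) :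
    False := by
  classical
  haveI : Fact (Nat.Prime 5) := ⟨Nat.prime_five⟩
  obtain ⟨t, ht, ht1, -⟩ := h.toCtx.exists_other (one_mem (cen S))
  have hx5 : x ^ 5 = 1 := hx.order ▸ pow_orderOf_eq_one x
  set K := core t
  set E := zpowers x ⊔ K with hE
  have hxC : x ∈ centralizer ({t} : Set G) := centralizer_le (Set.singleton_subset_iff.2 ht) hx.mem
  have hxK : zpowers x ≤ normalizer (K : Set G) := (zpowers_le.2 hxC).trans (centralizer_le_normalizer_core t)
  have hKp : IsPGroup 5 K := hr5 ▸ h.isPGroup_core ht ht1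
  have hxp : IsPGroup 5 (zpowers x) := IsPGroup.of_card (n := 1) (by rw [Nat.card_zpowers, hx.order, pow_one])
  have hEp : IsPGroup 5 E := hxp.to_sup_of_normal_right' hKp hxK
  -- `E` is a Sylow subgroup
  obtain ⟨P, hP⟩ := hEp.exists_le_sylow
  have hPE : (P : Subgroup G) = E := by
    by_contra hne
    obtain ⟨j, hjP, hjE, hjN⟩ := Core2.exists_normalizing P.isPGroup' (lt_of_le_of_ne hP (Ne.symm hne))
    obtain ⟨k, hk, d, hd, rfl⟩ := h.toCtx.cover ht ht1
      (h.normalizer_core_le hna ht ht1 (h.normalizer_five_le hx hr5 ht ht1 hjN))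
    have hdP : d ∈ (P : Subgroup G) := by
      have := mul_mem (inv_mem (hP (mem_sup_right hk))) hjP
      rwa [inv_mul_cancel_left] at this
    set Q := (P : Subgroup G) ⊓ centralizer (cen S : Set G)
    have hQle : zpowers x ≤ Q := le_inf (le_sup_left.trans hP) (zpowers_le.2 hx.mem)
    obtain ⟨l, hl⟩ := IsPGroup.iff_card.1 (P.isPGroup'.to_le (inf_le_left : Q ≤ _))
    have hQd : 5 ^ l ∣ 5 * 64 := hl ▸ (card_dvd_of_le inf_le_right).trans (h.card_cent_cen_dvd hx)
    have hl1 : l ≤ 1 := by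
      by_contra hl1
      have h25 : 5 ^ 2 ∣ 5 * 64 := (pow_dvd_pow 5 (by omega)).trans hQd
      norm_num at h25
    have hQeq : zpowers x = Q := eq_of_le_of_card_ge hQle (by
      rw [hl, Nat.card_zpowers, hx.order]
      exact (Nat.pow_le_pow_right (by norm_num) hl1).trans_eq (pow_one 5))
    have hdQ : d ∈ Q := ⟨hdP, hd⟩
    rw [← hQeq] at hdQ
    exact hjE (mul_mem (mem_sup_right hk) (mem_sup_left hdQ))
  have hidx : ¬ 5 ∣ E.index := hPE ▸ P.not_dvd_index
  -- the transfer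
  have hKn : ∀ e ∈ E, ∀ y ∈ K, e * y * e⁻¹ ∈ K := fun e he y hy =>
    (mem_normalizer_iff.1 ((sup_le hxK le_normalizer : E ≤ normalizer (K : Set G)) he) y).1 hy
  haveI : (K.subgroupOf E).Normal := ⟨fun y hy e => mem_subgroupOf.2 (hKn e e.2 y (mem_subgroupOf.1 hy))⟩
  set φ := QuotientGroup.mk' (K.subgroupOf E)
  set xE : E := ⟨x, mem_sup_left (mem_zpowers x)⟩
  have hφK : ∀ e : E, (e : G) ∈ K → φ e = 1 := fun e he => (QuotientGroup.eq_one_iff _).2 (mem_subgroupOf.2 he)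
  have hφpow : ∀ e : E, ∃ i : ℕ, φ e = φ xE ^ i := fun e => by
    obtain ⟨k, hk, i, he⟩ := h.mem_five hx ht e.2
    refine ⟨i, ?_⟩
    rw [show e = (⟨k, mem_sup_right hk⟩ : E) * xE ^ i from Subtype.ext he, map_mul, hφK ⟨k, mem_sup_right hk⟩ hk,
      one_mul, map_pow]
  haveI : IsMulCommutative (E ⧸ K.subgroupOf E) := ⟨⟨fun p q => by
    obtain ⟨p, rfl⟩ := QuotientGroup.mk'_surjective _ p
    obtain ⟨q, rfl⟩ := QuotientGroup.mk'_surjective _ q
    obtain ⟨i, hi⟩ := hφpow p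
    obtain ⟨j, hj⟩ := hφpow q
    rw [hi, hj, ← pow_add, ← pow_add, add_comm]⟩⟩
  have key : ∀ (m : ℕ) (g₀ : G) (hm : g₀⁻¹ * x ^ m * g₀ ∈ E), φ ⟨g₀⁻¹ * x ^ m * g₀, hm⟩ = φ xE ^ m := by
    intro m g₀ hm
    rw [← map_pow]
    by_cases h5 : 5 ∣ m
    · obtain ⟨q, rfl⟩ := h5
      exact congrArg φ (Subtype.ext (by
        show g₀⁻¹ * x ^ (5 * q) * g₀ = x ^ (5 * q)
        rw [pow_mul, hx5, one_pow]; group))
    · obtain ⟨l, hl⟩ := exists_pow_eq_self_of_coprime (x := x) (n := m) (by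
        rw [hx.order]; exact ((Nat.prime_five.coprime_iff_not_dvd).2 h5).symm)
      have hg : g₀⁻¹ * x * g₀ ∈ E := by
        have h1 := pow_mem hm l
        rw [show g₀⁻¹ * x ^ m * g₀ = g₀⁻¹ * x ^ m * g₀⁻¹⁻¹ by rw [inv_inv], conj_pow, hl, inv_inv] at h1
        exact h1
      obtain ⟨k, hk, hke⟩ := h.fusion_five hx ht ht1 (g := g₀⁻¹) (by rwa [inv_inv])
      rw [inv_inv] at hke
      have e1 : φ ⟨g₀⁻¹ * x * g₀, hg⟩ = φ xE := by
        rw [show (⟨g₀⁻¹ * x * g₀, hg⟩ : E) = ⟨k, mem_sup_right hk⟩ * xE from Subtype.ext hke, map_mul,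
          hφK ⟨k, mem_sup_right hk⟩ hk, one_mul]
      rw [map_pow, ← e1, ← map_pow]
      refine congrArg φ (Subtype.ext ?_)
      show g₀⁻¹ * x ^ m * g₀ = (g₀⁻¹ * x * g₀) ^ m
      rw [show g₀⁻¹ * x * g₀ = g₀⁻¹ * x * g₀⁻¹⁻¹ by rw [inv_inv], conj_pow, inv_inv]
  haveI : E.FiniteIndex := inferInstance
  set V := MonoidHom.transfer φ
  have hV : V x = φ xE ^ E.index := by
    letI := E.fintypeQuotientOfFiniteIndex
    rw [MonoidHom.transfer_eq_prod_quotient_orbitRel_zpowers_quot, index_eq_sum_minimalPeriod E x,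
      ← Finset.prod_pow_eq_pow_sum]
    exact Finset.prod_congr rfl fun q _ => key _ _ _
  have hVx : V x ≠ 1 := by
    intro e
    rw [hV] at e
    have h1 : orderOf (φ xE) ∣ 5 := orderOf_dvd_of_pow_eq_one (by
      rw [← map_pow, show xE ^ 5 = 1 from Subtype.ext hx5, map_one])
    rcases (Nat.dvd_prime Nat.prime_five).1 h1 with h2 | h2
    · have hxK' : x ∈ K := mem_subgroupOf.1 ((QuotientGroup.eq_one_iff xE).1 (orderOf_eq_one_iff.1 h2))
      have := h.core_eq_one ht hxK' hx.mem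
      have ho := hx.order
      rw [this, orderOf_one] at ho
      omega
    · exact hidx (h2 ▸ orderOf_dvd_of_pow_eq_one e)
  rcases (inferInstance : V.ker.Normal).eq_bot_or_eq_top with e | e
  · have hinj := (MonoidHom.ker_eq_bot_iff V).1 e
    exact hna ⟨⟨fun a b => hinj (by rw [map_mul, map_mul, mul_comm])⟩⟩
  · exact hVx (MonoidHom.mem_ker.1 (e ▸ mem_top x))

end Ab

end Cfsg.Agent.Invol.G1Local
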