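import Cfsg.Agent.Lib.Invol.G1Local.Base
import Cfsg.Agent.Lib.Transfer.UFLyons.ShapeLine

/-!
# `C(A)` when `O(C A) = 1`: either `S`, or `S⟨x⟩` with `x` of order five fixed-point-free on `S / A`
-/

set_option autoImplicit false
set_option linter.unusedSectionVars false
set_option linter.style.haveILetI false

open Subgroup

namespace Cfsg.Agent.Invol.G1Local

open Transfer.UnitaryFour CentRank Transfer.UFLyons

universe u

/-- The centraliser of an element outside the centre is abelian. -/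
theorem comm_of_centralizing {T : Type*} [Group T] (h : Shape T) {w v v' : T} (hw : w ∉ center T)
    (hv : v * w = w * v) (hv' : v' * w = w * v') : v * v' = v' * v := by
  haveI : Finite T := Nat.finite_of_card_ne_zero (by rw [h.card]; norm_num)
  let f : T →* center T := MonoidHom.mk' (fun g => cm h g w) fun g k => cm_mul_left h g k w
  have hmem : ∀ g, g ∈ f.ker ↔ g * w = w * g := fun g => by
    rw [MonoidHom.mem_ker]
    show cm h g w = 1 ↔ _
    exact ⟨fun e => mul_inv_eq_iff_eq_mul.1 (mul_inv_eq_one.1 (congrArg Subtype.val e)), fun e => Subtype.ext (by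
      show g * w * g⁻¹ * w⁻¹ = 1
      rw [e]; group)⟩
  have hcard : Nat.card f.ker = 16 := by
    have hr : f.range = ⊤ := eq_top_iff.2 fun u _ => exists_cm h hw u
    have hi := f.ker.card_mul_index
    rw [Subgroup.index_ker, hr, Subgroup.card_top, h.centre, h.card] at hi
    omega
  set C := f.ker
  set Z := center C
  have hwC : w ∈ C := (hmem w).2 rfl
  have hAZ : ∀ g : C, (g : T) ∈ center T → g ∈ Z := fun g hg =>
    mem_center_iff.2 fun k => Subtype.ext (mem_center_iff.1 hg k)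
  have hwZ : (⟨w, hwC⟩ : C) ∈ Z := mem_center_iff.2 fun k => Subtype.ext ((hmem k).1 k.2)
  have hAC : center T ≤ C := fun g hg => (hmem g).2 (mem_center_iff.1 hg w).symm
  have hlt : Nat.card ((center T).subgroupOf C) < Nat.card Z := by
    by_contra hle
    have e := eq_of_le_of_card_ge (fun g hg => hAZ g hg : (center T).subgroupOf C ≤ Z) (not_lt.1 hle)
    exact hw (mem_subgroupOf.1 (e ▸ hwZ))
  rw [Nat.card_congr (subgroupOfEquivOfLe hAC).toEquiv, h.centre] at hlt
  have hd : Nat.card Z ∣ 2 ^ 4 := by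
    rw [show (2 : ℕ) ^ 4 = Nat.card C by rw [hcard]; norm_num]
    exact card_subgroup_dvd_card Z
  obtain ⟨j, hj, hjZ⟩ := (Nat.dvd_prime_pow Nat.prime_two).1 hd
  have hi := Z.card_mul_index
  rw [hcard, hjZ] at hi
  rw [hjZ] at hlt
  set a : C := ⟨v, (hmem v).2 hv⟩
  set b : C := ⟨v', (hmem v').2 hv'⟩
  suffices hab : a * b = b * a from congrArg Subtype.val hab
  by_cases ha : a ∈ Z
  · exact (mem_center_iff.1 ha b).symm
  by_cases hb : b ∈ Z
  · exact mem_center_iff.1 hb a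
  have h2 : Z.index = 2 := by
    have hj3 : j = 3 ∨ j = 4 := by interval_cases j <;> omega
    rcases hj3 with rfl | rfl
    · norm_num at hi; omega
    · have h1 : Z.index = 1 := by rw [show (2 : ℕ) ^ 4 = 16 by norm_num] at hi; omega
      exact absurd (Subgroup.index_eq_one.1 h1 ▸ mem_top a : a ∈ Z) ha
  have hc : a⁻¹ * b ∈ Z := (Subgroup.mul_mem_iff_of_index_two h2).2 (iff_of_false (fun e => ha (inv_mem_iff.1 e)) hb)
  calc a * b = a * (a * (a⁻¹ * b)) := by group
    _ = a * ((a⁻¹ * b) * a) := by rw [mem_center_iff.1 hc a]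
    _ = b * a := by group

variable {G : Type u} [Group G] [Finite G] {S : Sylow 2 G}

/-- `x` of order five in `C(A)`, fixed-point-free on `S / A`, with `C(A) = S⟨x⟩`. -/
structure Five (S : Sylow 2 G) (x : G) : Prop where
  mem : x ∈ centralizer (cen S : Set G)
  order : orderOf x = 5
  fpf : ∀ w ∈ (S : Subgroup G), x * w * x⁻¹ * w⁻¹ ∈ cen S → w ∈ cen S
  split : ∀ c ∈ centralizer (cen S : Set G), ∃ s ∈ (S : Subgroup G), ∃ i : ℕ, c = s * x ^ i

namespace Ab

variable {r : ℕ} (h : Ab S r)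
include h

/-- An odd element of `C(A)` commuting with an element of `S` outside `A` is trivial. -/
theorem eq_one_of_fixed {d w : G} (hd : d ∈ centralizer (cen S : Set G)) (hdo : Odd (orderOf d))
    (hw : w ∈ (S : Subgroup G)) (hwA : w ∉ cen S) (hdw : Commute d w) : d = 1 := by
  refine mem_bot.1 (h.dbot ▸ h.toCtx.mem_dcore (mem_centralizer_iff.2 fun s hs => ?_) hdo)
  have hdn := h.toCtx.centralizer_cen_le hd
  -- a shift by a fixed element of `S` is trivial
  have hshift : ∀ v ∈ (S : Subgroup G), Commute d (d * v * d⁻¹ * v⁻¹) → Commute d v := by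
    intro v hv hδ
    set δ := d * v * d⁻¹ * v⁻¹ with hδdef
    have hδS : δ ∈ (S : Subgroup G) := mul_mem ((mem_normalizer_iff.1 hdn v).1 hv) (inv_mem hv)
    have hit : ∀ k : ℕ, d ^ k * v * (d ^ k)⁻¹ = δ ^ k * v := fun k => by
      induction k with
      | zero => simp
      | succ k ih =>
        rw [pow_succ' d k, show d * d ^ k * v * (d * d ^ k)⁻¹ = d * (d ^ k * v * (d ^ k)⁻¹) * d⁻¹ by group, ih,
          show d * (δ ^ k * v) * d⁻¹ = d * δ ^ k * d⁻¹ * (d * v * d⁻¹) by group, (hδ.pow_right k).eq,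
          mul_inv_cancel_right, pow_succ, hδdef]
        group
    have h1 := hit (orderOf d)
    rw [pow_orderOf_eq_one, one_mul, inv_one, mul_one] at h1
    have hδ1 : δ = 1 := eq_one_of_odd hδS (hdo.of_dvd_nat (orderOf_dvd_of_pow_eq_one (mul_eq_right.1 h1.symm)))
    exact mul_inv_eq_iff_eq_mul.1 (mul_inv_eq_one.1 hδ1)
  have hA : ∀ v ∈ cen S, Commute d v := fun v hv => (mem_centralizer_iff.1 hd v hv).symm
  -- on the centraliser of `w`
  have hCw : ∀ v ∈ (S : Subgroup G), Commute v w → Commute d v := by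
    intro v hv hvw
    refine hshift v hv (hA _ (h.toCtx.mem_cen_of_sq (mul_mem ((mem_normalizer_iff.1 hdn v).1 hv) (inv_mem hv)) ?_))
    have hv'w : Commute (d * v * d⁻¹) w := by
      simpa [hdw.eq] using hvw.map (MulAut.conj d).toMonoidHom
    have hc : Commute (d * v * d⁻¹) v := congrArg Subtype.val (comm_of_centralizing h.toCtx.shape
      (w := (⟨w, hw⟩ : (S : Subgroup G))) (v := ⟨_, (mem_normalizer_iff.1 hdn v).1 hv⟩) (v' := ⟨v, hv⟩)
      (fun hh => hwA ((mem_cen hw).2 hh)) (Subtype.ext hv'w.eq) (Subtype.ext hvw.eq))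
    have hsq : d * v * d⁻¹ * (d * v * d⁻¹) = v * v := by
      rw [show d * v * d⁻¹ * (d * v * d⁻¹) = d * (v * v) * d⁻¹ by group, (hA _ (h.toCtx.sq_mem hv)).eq,
        mul_inv_cancel_right]
    calc d * v * d⁻¹ * v⁻¹ * (d * v * d⁻¹ * v⁻¹) = d * v * d⁻¹ * (d * v * d⁻¹) * (v⁻¹ * v⁻¹) := by
          rw [mul_assoc _ v⁻¹, ← mul_assoc v⁻¹, ← hc.inv_right.eq]; simp only [mul_assoc]
      _ = 1 := by rw [hsq]; group
  refine (hshift s hs (hCw _ (mul_mem ((mem_normalizer_iff.1 hdn s).1 hs) (inv_mem hs)) ?_)).symm.eq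
  -- `δ` commutes with `w`
  set c := s * w * s⁻¹ * w⁻¹ with hc
  have hcA : c ∈ cen S := h.toCtx.comm_mem hs hw
  have e1 : s * w * s⁻¹ = c * w := by rw [hc]; group
  have e2 : d * s * d⁻¹ * w * (d * s * d⁻¹)⁻¹ = c * w :=
    calc d * s * d⁻¹ * w * (d * s * d⁻¹)⁻¹ = d * (s * (d⁻¹ * w * d) * s⁻¹) * d⁻¹ := by group
      _ = d * (s * w * s⁻¹) * d⁻¹ := by
          rw [mul_assoc d⁻¹ w d, ← hdw.eq, inv_mul_cancel_left]
      _ = (d * c) * w * d⁻¹ := by rw [e1]; group
      _ = c * d * w * d⁻¹ := by rw [(hA c hcA).eq]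
      _ = c * w := by rw [mul_assoc c d w, hdw.eq]; group
  show d * s * d⁻¹ * s⁻¹ * w = w * (d * s * d⁻¹ * s⁻¹)
  have e3 : s⁻¹ * w = c⁻¹ * w * s⁻¹ := by
    rw [eq_mul_inv_iff_mul_eq, hc]
    have hcs : Commute c s := comm_of_cen hcA hs
    rw [← hc]
    calc s⁻¹ * w * s = s⁻¹ * (c⁻¹ * (s * w * s⁻¹)) * s := by rw [e1, inv_mul_cancel_left]
      _ = c⁻¹ * w := by rw [← mul_assoc s⁻¹ c⁻¹, hcs.inv_inv.symm.eq]; group
  have hcw : Commute c w := comm_of_cen hcA hw
  calc d * s * d⁻¹ * s⁻¹ * w = d * s * d⁻¹ * (c⁻¹ * w) * s⁻¹ := by rw [mul_assoc _ s⁻¹, e3]; group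
    _ = c⁻¹ * (d * s * d⁻¹ * w * (d * s * d⁻¹)⁻¹) * (d * s * d⁻¹) * s⁻¹ := by
        have hcd : Commute c⁻¹ (d * s * d⁻¹) :=
          Commute.inv_left (comm_of_cen hcA ((mem_normalizer_iff.1 hdn s).1 hs))
        rw [← mul_assoc (d * s * d⁻¹) c⁻¹, ← hcd.eq]; group
    _ = w * (d * s * d⁻¹ * s⁻¹) := by rw [e2, inv_mul_cancel_left, mul_assoc]

/-- An odd subgroup of `C(A)` has order dividing five. -/
theorem card_odd_dvd {H : Subgroup G} (hH : H ≤ centralizer (cen S : Set G)) (hHo : Odd (Nat.card H)) :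
    Nat.card H ∣ 5 := by
  classical
  haveI : Fact (Nat.Prime 2) := ⟨Nat.prime_two⟩
  have hn : ∀ d ∈ H, ∀ w ∈ (S : Subgroup G), w ∉ cen S →
      d * w * d⁻¹ ∈ (S : Subgroup G) ∧ d * w * d⁻¹ ∉ cen S := by
    intro d hd w hw hwA
    refine ⟨(mem_normalizer_iff.1 (h.toCtx.centralizer_cen_le (hH hd)) w).1 hw, fun hh => hwA ?_⟩
    have e := mem_centralizer_iff.1 (hH hd) _ hh
    rw [inv_mul_cancel_right] at e
    exact (mul_left_cancel e).symm ▸ hh
  let X := {w : G // w ∈ (S : Subgroup G) ∧ w ∉ cen S}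
  letI : MulAction H X :=
    { smul := fun d w => ⟨(d : G) * w * (d : G)⁻¹, hn d d.2 w w.2.1 w.2.2⟩
      one_smul := fun w => Subtype.ext (by show ((1 : H) : G) * w * ((1 : H) : G)⁻¹ = w; simp)
      mul_smul := fun d d' w => Subtype.ext (by
        show ((d * d' : H) : G) * w * ((d * d' : H) : G)⁻¹ = (d : G) * ((d' : G) * w * (d' : G)⁻¹) * (d : G)⁻¹
        simp [mul_assoc]) }
  have hfree : ∀ w : X, MulAction.stabilizer H w = ⊥ := fun w => (eq_bot_iff_forall _).2 fun d hd => Subtype.ext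
    (h.eq_one_of_fixed (hH d.2) (hHo.of_dvd_nat (Subgroup.orderOf_dvd_natCard _ d.2)) w.2.1 w.2.2
      (mul_inv_eq_iff_eq_mul.1 (congrArg Subtype.val (MulAction.mem_stabilizer_iff.1 hd))))
  have hX : Nat.card X = 60 := by
    rw [show Nat.card X = (((S : Subgroup G) : Set G) \ (cen S : Set G)).ncard from rfl,
      Set.ncard_diff (fun v hv => cen_le hv) (Set.toFinite _)]
    show Nat.card ↥(S : Subgroup G) - Nat.card ↥(cen S) = 60
    rw [h.toCtx.shape.card, h.toCtx.card_cen]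
  have hd : Nat.card H ∣ 60 := ⟨_, by
    rw [← hX, Nat.card_congr (MulAction.selfEquivOrbitsQuotientProd hfree), Nat.card_prod, mul_comm]⟩
  have h3 : ¬ 3 ∣ Nat.card H := by
    intro h3
    haveI : Fact (Nat.Prime 3) := ⟨Nat.prime_three⟩
    obtain ⟨d, hd3⟩ := exists_prime_orderOf_dvd_card' (G := H) 3 h3
    have hdG : orderOf (d : G) = 3 := by rw [Subgroup.orderOf_coe, hd3]
    have hdo : Odd (orderOf (d : G)) := by rw [hdG]; decide
    obtain ⟨w₀, hw₀⟩ := exists_notMem_center h.toCtx.shape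
    set w : G := (w₀ : G)
    have hwA : w ∉ cen S := fun hh => hw₀ ((mem_cen w₀.2).1 hh)
    obtain ⟨h1S, h1A⟩ := hn d d.2 w w₀.2 hwA
    obtain ⟨h2S, h2A⟩ := hn d d.2 _ h1S h1A
    set w1 := (d : G) * w * (d : G)⁻¹ with hw1
    set w2 := (d : G) * w1 * (d : G)⁻¹ with hw2
    have hA : ∀ v ∈ cen S, Commute (d : G) v := fun v hv => (mem_centralizer_iff.1 (hH d.2) v hv).symm
    have hw3 : (d : G) * w2 * (d : G)⁻¹ = w := by
      rw [hw2, hw1, show (d : G) * ((d : G) * ((d : G) * w * (d : G)⁻¹) * (d : G)⁻¹) * (d : G)⁻¹ =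
        (d : G) ^ 3 * w * ((d : G) ^ 3)⁻¹ by simp [pow_succ, mul_assoc], ← hdG, pow_orderOf_eq_one]
      group
    set W : (S : Subgroup G) := ⟨w, w₀.2⟩
    set W1 : (S : Subgroup G) := ⟨w1, h1S⟩
    set W2 : (S : Subgroup G) := ⟨w2, h2S⟩
    -- the product of the orbit is in `A`
    have hP : w * w1 * w2 ∈ cen S := by
      by_contra hP
      have hcomm : ∀ a ∈ (S : Subgroup G), ∀ b ∈ (S : Subgroup G), a * b * (b * a)⁻¹ ∈ cen S := fun a ha b hb => by
        rw [mul_inv_rev, ← mul_assoc]; exact h.toCtx.comm_mem ha hb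
      set v := (d : G) * (w * w1 * w2) * (d : G)⁻¹ * (w * w1 * w2)⁻¹ with hv
      have hmem : w * w1 * w2 ∈ (S : Subgroup G) := mul_mem (mul_mem w₀.2 h1S) h2S
      have hvA : v ∈ cen S := by
        have e : (d : G) * (w * w1 * w2) * (d : G)⁻¹ = w1 * w2 * w := by
          rw [show (d : G) * (w * w1 * w2) * (d : G)⁻¹ = (d : G) * w * (d : G)⁻¹ * ((d : G) * w1 * (d : G)⁻¹) *
            ((d : G) * w2 * (d : G)⁻¹) by group, ← hw1, ← hw2, hw3]
        rw [hv, e, mul_assoc w]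
        exact hcomm _ (mul_mem h1S h2S) _ w₀.2
      set P := w * w1 * w2 with hPdef
      have hdP : (d : G) * P * (d : G)⁻¹ = v * P := by rw [hv]; group
      have hv3 : v * v * v = 1 := by
        have e : (d : G) ^ 3 * P * ((d : G) ^ 3)⁻¹ = v * v * v * P := by
          calc (d : G) ^ 3 * P * ((d : G) ^ 3)⁻¹
              = (d : G) * ((d : G) * ((d : G) * P * (d : G)⁻¹) * (d : G)⁻¹) * (d : G)⁻¹ := by simp [pow_succ, mul_assoc]
            _ = _ := by
              rw [hdP, show (d : G) * (v * P) * (d : G)⁻¹ = (d : G) * v * (d : G)⁻¹ * ((d : G) * P * (d : G)⁻¹) by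
                group, (hA v hvA).eq, mul_inv_cancel_right, hdP,
                show (d : G) * (v * (v * P)) * (d : G)⁻¹ = (d : G) * v * (d : G)⁻¹ * ((d : G) * v * (d : G)⁻¹) *
                  ((d : G) * P * (d : G)⁻¹) by group, (hA v hvA).eq, mul_inv_cancel_right, hdP]
              group
        rw [← hdG, pow_orderOf_eq_one, one_mul, inv_one, mul_one] at e
        exact mul_eq_right.1 e.symm
      rw [h.toCtx.cen_sq hvA, one_mul] at hv3
      have h1 := h.eq_one_of_fixed (hH d.2) hdo hmem hP (mul_inv_eq_iff_eq_mul.1 (by rw [hdP, hv3, one_mul]))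
      rw [h1, orderOf_one] at hdG
      omega
    -- all three have one square
    have hsq : ∀ y, y ∈ (S : Subgroup G) → (d : G) * y * (d : G)⁻¹ * ((d : G) * y * (d : G)⁻¹) = y * y := fun y hy => by
      rw [show (d : G) * y * (d : G)⁻¹ * ((d : G) * y * (d : G)⁻¹) = (d : G) * (y * y) * (d : G)⁻¹ by group,
        (hA _ (h.toCtx.sq_mem hy)).eq, mul_inv_cancel_right]
    have hc1 : sqc h.toCtx.shape W1 = sqc h.toCtx.shape W := Subtype.ext (Subtype.ext (hsq w w₀.2))
    have hc2 : sqc h.toCtx.shape W2 = sqc h.toCtx.shape W :=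
      Subtype.ext (Subtype.ext ((hsq w1 h1S).trans (hsq w w₀.2)))
    have hc3 : sqc h.toCtx.shape (W * W1) = sqc h.toCtx.shape W := by
      have hmem : W * W1 * W2 ∈ center ↥(S : Subgroup G) := (mem_cen (W * W1 * W2).2).1 hP
      have e : W * W1 = (W * W1 * W2) * W2⁻¹ := by group
      rw [e, sqc_mul h.toCtx.shape, cm_symm h.toCtx.shape, cm_eq_one_of_mem h.toCtx.shape hmem, one_mul,
        show sqc h.toCtx.shape (W * W1 * W2) = 1 from Subtype.ext (h.toCtx.shape.exp _ hmem), one_mul, ← hc2]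
      refine Subtype.ext ?_
      show W2⁻¹ * W2⁻¹ = W2 * W2
      rw [← mul_inv_rev, inv_eq_iff_mul_eq_one]
      exact h.toCtx.shape.exp _ (h.toCtx.shape.sq _)
    exact no_line h.toCtx.shape hw₀ (fun hh => h1A ((mem_cen h1S).2 hh))
      (sqc_ne_one h.toCtx.shape hw₀) rfl hc1 hc3
  have hc : (Nat.card H).Coprime 12 := by
    rw [show (12 : ℕ) = 2 ^ 2 * 3 by norm_num]
    exact Nat.Coprime.mul_right ((Nat.coprime_two_right.2 hHo).pow_right 2)
      ((Nat.prime_three.coprime_iff_not_dvd.2 h3).symm)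
  exact hc.dvd_of_dvd_mul_left (by norm_num; exact hd)

/-- The two possibilities for `C(A)`. -/
theorem five_or : centralizer (cen S : Set G) ≤ (S : Subgroup G) ∨ ∃ x : G, Five S x := by
  classical
  haveI : Fact (Nat.Prime 2) := ⟨Nat.prime_two⟩
  set C := centralizer (cen S : Set G) with hC
  set N := (S : Subgroup G).subgroupOf C
  haveI : N.Normal := ⟨fun s hs c =>
    mem_subgroupOf.2 ((mem_normalizer_iff.1 (h.toCtx.centralizer_cen_le c.2) _).1 (mem_subgroupOf.1 hs))⟩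
  have hNcard : Nat.card N = 64 := by
    rw [Nat.card_congr (subgroupOfEquivOfLe h.toCtx.S_le_centralizer_cen).toEquiv, h.toCtx.shape.card]
  have hidx : ¬ 2 ∣ N.index := (S.subtype h.toCtx.S_le_centralizer_cen).not_dvd_index
  obtain ⟨H, hH⟩ := Subgroup.exists_right_complement'_of_coprime (N := N) (by
    rw [hNcard, show (64 : ℕ) = 2 ^ 6 by norm_num]
    exact Nat.Coprime.pow_left 6 (Nat.prime_two.coprime_iff_not_dvd.2 hidx))
  set H' := H.map C.subtype
  have hH'le : H' ≤ C := map_subtype_le _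
  have hHo : Odd (Nat.card H') := by
    rw [card_map_of_injective C.subtype_injective, ← hH.symm.index_eq_card]
    exact Nat.odd_iff.2 (Nat.two_dvd_ne_zero.1 hidx)
  have hsplit : ∀ c ∈ C, ∃ s ∈ (S : Subgroup G), ∃ y ∈ H', c = s * y := by
    intro c hc
    obtain ⟨⟨n, y⟩, e⟩ := hH.2 ⟨c, hc⟩
    exact ⟨_, mem_subgroupOf.1 n.2, _, ⟨_, y.2, rfl⟩, (congrArg Subtype.val e).symm⟩
  rcases (Nat.dvd_prime (by norm_num : Nat.Prime 5)).1 (h.card_odd_dvd hH'le hHo) with e1 | e5
  · refine Or.inl fun c hc => ?_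
    obtain ⟨s, hs, y, hy, rfl⟩ := hsplit c hc
    rw [card_eq_one.1 e1, mem_bot] at hy
    rwa [hy, mul_one]
  · haveI : Fact (Nat.Prime 5) := ⟨by norm_num⟩
    obtain ⟨x₀, hx₀⟩ := exists_prime_orderOf_dvd_card' (G := H') 5 (by rw [e5])
    have hx : orderOf (x₀ : G) = 5 := by rw [Subgroup.orderOf_coe, hx₀]
    refine Or.inr ⟨x₀, hH'le x₀.2, hx, fun w hw hv => ?_, fun c hc => ?_⟩
    · by_contra hwA
      set x := (x₀ : G)
      set v := x * w * x⁻¹ * w⁻¹ with hvdef
      have hxv : Commute x v := (mem_centralizer_iff.1 (hH'le x₀.2) v hv).symm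
      have hit : ∀ k : ℕ, x ^ k * w * (x ^ k)⁻¹ = v ^ k * w := fun k => by
        induction k with
        | zero => simp
        | succ k ih =>
          rw [pow_succ' x k, show x * x ^ k * w * (x * x ^ k)⁻¹ = x * (x ^ k * w * (x ^ k)⁻¹) * x⁻¹ by group, ih,
            show x * (v ^ k * w) * x⁻¹ = x * v ^ k * x⁻¹ * (x * w * x⁻¹) by group, (hxv.pow_right k).eq,
            mul_inv_cancel_right, pow_succ, hvdef]
          group
      have h1 := hit 5
      rw [← hx, pow_orderOf_eq_one, one_mul, inv_one, mul_one, hx,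
        show v ^ 5 = (v * v) * (v * v) * v by simp [pow_succ, mul_assoc], h.toCtx.cen_sq hv, one_mul, one_mul] at h1
      have hxw : Commute x w := mul_inv_eq_iff_eq_mul.1 (mul_inv_eq_one.1 (mul_eq_right.1 h1.symm))
      have h2 := h.eq_one_of_fixed (hH'le x₀.2) (by rw [hx]; decide) hw hwA hxw
      exact absurd (hx.symm.trans (orderOf_eq_one_iff.2 h2)) (by norm_num)
    · obtain ⟨s, hs, y, hy, rfl⟩ := hsplit c hc
      have hgen : zpowers x₀ = ⊤ := eq_top_of_card_eq _ (by rw [Nat.card_zpowers, hx₀, e5])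
      obtain ⟨i, hi⟩ := (mem_powers_iff_mem_zpowers.2 (hgen ▸ mem_top (⟨y, hy⟩ : H') : (⟨y, hy⟩ : H') ∈ zpowers x₀))
      exact ⟨s, hs, i, by
        rw [← Subgroup.coe_pow]
        exact congrArg (fun z : H' => s * (z : G)) hi.symm⟩

end Ab

end Cfsg.Agent.Invol.G1Local
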