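import Cfsg.Agent.Lib.Invol.G1Local.Setup
import Cfsg.Agent.Lib.Grp.Frattini

/-!
# The hypotheses pass to subgroups containing `S` and to quotients by odd normal subgroups
-/

set_option autoImplicit false
set_option linter.unusedSectionVars false
set_option linter.style.haveILetI false

open Subgroup

namespace Cfsg.Agent.Invol.G1Local

open Transfer.UnitaryFour CentRank

universe u

variable {G : Type u} [Group G] [Finite G] {S : Sylow 2 G}

namespace Ctx

variable (h : Ctx S)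
include h

/-- Every involution is 2-central. -/
theorem twoCentral_of_invol {u : G} (hu : orderOf u = 2) : Cfsg.IsTwoCentralInvolution u := by
  haveI : Fact (Nat.Prime 2) := ⟨Nat.prime_two⟩
  obtain ⟨g, hg⟩ := Invol.exists_conj_mem_sylow (x := u) (n := 1) (by rw [hu, pow_one]) S
  have ho : orderOf (g * u * g⁻¹) = 2 := by rw [Invol.orderOf_conj_eq, hu]
  have := conj_twoCentral (twoCentral_of_mem (h.mem_zg (h.invol_mem hg ho)) (ne_one_of_orderOf_two ho)) g⁻¹
  rwa [show g⁻¹ * (g * u * g⁻¹) * g⁻¹⁻¹ = u by group] at this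

theorem mem_cen_subtype {X : Subgroup G} (hSX : (S : Subgroup G) ≤ X) {y : X} :
    y ∈ cen (S.subtype hSX) ↔ (y : G) ∈ cen S := by
  constructor
  · intro hy
    have hyS : (y : G) ∈ (S : Subgroup G) := cen_le (S := S.subtype hSX) hy
    exact (mem_cen hyS).2 (mem_center_iff.2 fun s => Subtype.ext (congrArg (fun z : X => (z : G))
      (comm_of_cen hy (show (⟨s, hSX s.2⟩ : X) ∈ ((S.subtype hSX : Sylow 2 X) : Subgroup X) from s.2)).symm))
  · intro hy
    exact (mem_cen (S := S.subtype hSX) (show y ∈ ((S.subtype hSX : Sylow 2 X) : Subgroup X) from cen_le (S := S) hy)).2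
      (mem_center_iff.2 fun s => Subtype.ext (Subtype.ext (comm_of_cen hy s.2).symm))

theorem subgroup {X : Subgroup G} (hSX : (S : Subgroup G) ≤ X) : Ctx (S.subtype hSX) := by
  haveI : Fact (Nat.Prime 2) := ⟨Nat.prime_two⟩
  refine ⟨Shape.of_equiv (subgroupOfEquivOfLe hSX) h.shape, ?_⟩
  intro P Q z u hz hu huz hc hzP huP hzQ huQ
  obtain ⟨P', hP'⟩ := (P.isPGroup'.map X.subtype).exists_le_sylow
  obtain ⟨Q', hQ'⟩ := (Q.isPGroup'.map X.subtype).exists_le_sylow
  have hz2 : orderOf (z : G) = 2 := by rw [Subgroup.orderOf_coe, hz.1]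
  have e : P' = Q' := h.four P' Q' (z : G) (u : G) (h.twoCentral_of_invol hz2) (by rw [Subgroup.orderOf_coe, hu])
    (fun e => huz (Subtype.ext e)) (congrArg Subtype.val hc) (hP' ⟨z, hzP, rfl⟩) (hP' ⟨u, huP, rfl⟩)
    (hQ' ⟨z, hzQ, rfl⟩) (hQ' ⟨u, huQ, rfl⟩)
  have key : ∀ (R : Sylow 2 X) (R' : Sylow 2 G), (R : Subgroup X).map X.subtype ≤ R' →
      (R' : Subgroup G).subgroupOf X = R := fun R R' hR =>
    R.is_maximal' (R'.isPGroup'.comap_subtype) fun y hy => mem_subgroupOf.2 (hR ⟨y, hy, rfl⟩)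
  exact Sylow.ext ((key P P' hP').symm.trans (by rw [e]; exact key Q Q' hQ'))

theorem core_subtype {X : Subgroup G} {t : X} {y : X} (hy : (y : G) ∈ Cfsg.centralizerPPrimeCore 2 (t : G)) :
    y ∈ Cfsg.centralizerPPrimeCore 2 t := by
  refine le_core (N := (Cfsg.centralizerPPrimeCore 2 (t : G)).subgroupOf X) (fun z hz => ?_) (fun c hc z hz => ?_)
    ?_ (mem_subgroupOf.2 hy)
  · exact mem_centralizer_singleton_iff.2 (Subtype.ext
      (mem_centralizer_singleton_iff.1 (centralizerCore_le (t : G) (mem_subgroupOf.1 hz))))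
  · exact mem_subgroupOf.2 (core_conj (mem_centralizer_singleton_iff.2
      (congrArg Subtype.val (mem_centralizer_singleton_iff.1 hc))) (mem_subgroupOf.1 hz))
  · refine (centralizerCore_odd (t : G)).of_dvd_nat ?_
    rw [← card_map_of_injective X.subtype_injective]
    exact card_dvd_of_le (by rintro _ ⟨z, hz, rfl⟩; exact mem_subgroupOf.1 hz)

variable {N : Subgroup G} [N.Normal]

theorem injOn_quotient (hN : Odd (Nat.card N)) {a b : G} (ha : a ∈ (S : Subgroup G)) (hb : b ∈ (S : Subgroup G))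
    (e : QuotientGroup.mk' N a = QuotientGroup.mk' N b) : a = b := by
  have h1 : a⁻¹ * b ∈ N := QuotientGroup.eq.1 e
  exact inv_mul_eq_one.1 (eq_one_of_odd (mul_mem (inv_mem ha) hb)
    (hN.of_dvd_nat (Subgroup.orderOf_dvd_natCard _ h1)))

theorem equiv_quotient (hN : Odd (Nat.card N)) [Fact (Nat.Prime 2)] :
    Nonempty (↥(S : Subgroup G) ≃*
      ↥((S.mapSurjective (QuotientGroup.mk'_surjective N) : Sylow 2 (G ⧸ N)) : Subgroup (G ⧸ N))) := by
  let f : ↥(S : Subgroup G) →*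
      ↥((S.mapSurjective (QuotientGroup.mk'_surjective N) : Sylow 2 (G ⧸ N)) : Subgroup (G ⧸ N)) :=
    MonoidHom.mk' (fun s => ⟨QuotientGroup.mk' N s, ⟨s, s.2, rfl⟩⟩) fun a b => Subtype.ext (map_mul _ _ _)
  refine ⟨MulEquiv.ofBijective f ⟨fun a b e => Subtype.ext (h.injOn_quotient hN a.2 b.2 (congrArg Subtype.val e)),
    fun q => ?_⟩⟩
  obtain ⟨s, hs, e⟩ := q.2
  exact ⟨⟨s, hs⟩, Subtype.ext e⟩

theorem quotient (hN : Odd (Nat.card N)) [Fact (Nat.Prime 2)] :
    Ctx (S.mapSurjective (QuotientGroup.mk'_surjective N)) := by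
  obtain ⟨e⟩ := h.equiv_quotient hN
  refine ⟨Shape.of_equiv e.symm h.shape, ?_⟩
  intro P Q z u hz hu huz hc hzP huP hzQ huQ
  set π := QuotientGroup.mk' N
  obtain ⟨P₀, rfl⟩ := Sylow.mapSurjective_surjective (QuotientGroup.mk'_surjective N) 2 P
  obtain ⟨Q₀, rfl⟩ := Sylow.mapSurjective_surjective (QuotientGroup.mk'_surjective N) 2 Q
  -- lift `z` and `u` to `P₀`
  obtain ⟨z₀, hz₀, hz₀e⟩ := hzP
  obtain ⟨u₀, hu₀, hu₀e⟩ := huP
  obtain ⟨g, hg⟩ := MulAction.exists_smul_eq G S P₀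
  have hinj : ∀ a ∈ (P₀ : Subgroup G), ∀ b ∈ (P₀ : Subgroup G), π a = π b → a = b := by
    intro a ha b hb hab
    rw [← hg, mem_smul_sylow] at ha hb
    exact mul_left_cancel (mul_right_cancel (h.injOn_quotient hN ha hb (by
      show π (g⁻¹ * a * g) = π (g⁻¹ * b * g)
      rw [map_mul, map_mul, hab, map_mul, map_mul])))
  have hord : ∀ (a : G), a ∈ (P₀ : Subgroup G) → orderOf (π a) = 2 → orderOf a = 2 := fun a ha h2 => by
    refine orderOf_two_iff.2 ⟨hinj _ (mul_mem ha ha) 1 (one_mem _) ?_, fun e => ?_⟩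
    · rw [map_mul, map_one]; exact (orderOf_two_iff.1 h2).1
    · rw [e, map_one] at h2
      simp at h2
  have hz2 : orderOf z₀ = 2 := hord z₀ hz₀ (by rw [hz₀e]; exact hz.1)
  have hu2 : orderOf u₀ = 2 := hord u₀ hu₀ (by rw [hu₀e]; exact hu)
  have hcm : u₀ * z₀ = z₀ * u₀ := hinj _ (mul_mem hu₀ hz₀) _ (mul_mem hz₀ hu₀) (by
    rw [map_mul, map_mul, hz₀e, hu₀e]; exact hc)
  -- a Sylow subgroup over `Q` containing both
  set H := ((Q₀.mapSurjective (QuotientGroup.mk'_surjective N) : Sylow 2 (G ⧸ N)) : Subgroup (G ⧸ N)).comap π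
  have hQH : (Q₀ : Subgroup G) ≤ H := fun q hq => ⟨q, hq, rfl⟩
  set V := closure ({z₀, u₀} : Set G)
  have hVP : V ≤ (P₀ : Subgroup G) := (closure_le _).2 (by rintro v (rfl | rfl) <;> assumption)
  have hVH : V ≤ H := (closure_le _).2 (by
    rintro v (rfl | rfl)
    · refine mem_comap.2 ?_; rw [hz₀e]; exact hzQ
    · refine mem_comap.2 ?_; rw [hu₀e]; exact huQ)
  obtain ⟨R, hR⟩ := ((P₀.isPGroup'.to_le hVP).comap_subtype (K := H)).exists_le_sylow
  obtain ⟨c, hc'⟩ := MulAction.exists_smul_eq H (Q₀.subtype hQH) R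
  have hVR : ∀ v ∈ V, v ∈ (((c : G) • Q₀ : Sylow 2 G) : Subgroup G) := fun v hv => by
    have hmem : (⟨v, hVH hv⟩ : H) ∈ (R : Subgroup H) := hR hv
    rw [← hc', mem_smul_sylow] at hmem
    rw [mem_smul_sylow]
    exact hmem
  have hPQ : P₀ = (c : G) • Q₀ := h.four P₀ _ z₀ u₀ (h.twoCentral_of_invol hz2) hu2
    (fun e => huz (by rw [← hz₀e, ← hu₀e, e])) hcm hz₀ hu₀ (hVR _ (subset_closure (Or.inl rfl)))
    (hVR _ (subset_closure (Or.inr rfl)))
  refine Sylow.ext (eq_of_le_of_card_ge ?_ (by rw [Sylow.card_eq_multiplicity, Sylow.card_eq_multiplicity]))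
  rintro q ⟨p, hp, rfl⟩
  change p ∈ (P₀ : Subgroup G) at hp
  rw [hPQ, mem_smul_sylow] at hp
  have h1 : π ((c : G)⁻¹ * p * c) ∈ ((Q₀.mapSurjective (QuotientGroup.mk'_surjective N) :
      Sylow 2 (G ⧸ N)) : Subgroup (G ⧸ N)) := ⟨_, hp, rfl⟩
  have hcH : π (c : G) ∈ ((Q₀.mapSurjective (QuotientGroup.mk'_surjective N) :
      Sylow 2 (G ⧸ N)) : Subgroup (G ⧸ N)) := c.2
  have := mul_mem (mul_mem hcH h1) (inv_mem hcH)
  rw [map_mul, map_mul, map_inv] at this
  show π p ∈ _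
  simpa [mul_assoc] using this

theorem mem_cen_quotient (hN : Odd (Nat.card N)) [Fact (Nat.Prime 2)] {v : G} (hv : v ∈ cen S) :
    QuotientGroup.mk' N v ∈ cen (S.mapSurjective (QuotientGroup.mk'_surjective N)) := by
  have hmem : QuotientGroup.mk' N v ∈
      ((S.mapSurjective (QuotientGroup.mk'_surjective N) : Sylow 2 (G ⧸ N)) : Subgroup (G ⧸ N)) :=
    ⟨v, cen_le hv, rfl⟩
  refine (mem_cen hmem).2 (mem_center_iff.2 fun q => Subtype.ext ?_)
  obtain ⟨s, hs, e⟩ := q.2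
  show (q : G ⧸ N) * QuotientGroup.mk' N v = QuotientGroup.mk' N v * q
  rw [← e, ← map_mul, ← map_mul, comm_of_cen hv hs]

/-- The image of a core lies in the core of the image. -/
theorem core_quotient (hN : Odd (Nat.card N)) {t : G} (ht : t ∈ cen S) {y : G}
    (hy : y ∈ Cfsg.centralizerPPrimeCore 2 t) :
    QuotientGroup.mk' N y ∈ Cfsg.centralizerPPrimeCore 2 (QuotientGroup.mk' N t) := by
  set π := QuotientGroup.mk' N
  refine le_core (N := (Cfsg.centralizerPPrimeCore 2 t).map π) ?_ ?_ ?_ ⟨y, hy, rfl⟩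
  · rintro _ ⟨z, hz, rfl⟩
    refine mem_centralizer_singleton_iff.2 ?_
    rw [← map_mul, ← map_mul, mem_centralizer_singleton_iff.1 (centralizerCore_le t hz)]
  · rintro c hc _ ⟨z, hz, rfl⟩
    obtain ⟨g, rfl⟩ := QuotientGroup.mk'_surjective N c
    obtain ⟨o, ho, hog⟩ := Grp.FpfThree.exists_rep_centralizer (V := zpowers t) (K := N) (x := g)
      (S.2.to_le (zpowers_le.2 (cen_le ht))) (fun v _ z hz => (inferInstance : N.Normal).conj_mem z hz v)
      (Nat.two_dvd_ne_zero.2 (Nat.odd_iff.1 hN)) (by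
        intro v hv
        refine (QuotientGroup.eq_one_iff _).1 ?_
        show π (v * g * v⁻¹ * g⁻¹) = 1
        obtain ⟨i, rfl⟩ := mem_zpowers_iff.1 hv
        have hcm : Commute (π g) (π t) := mem_centralizer_singleton_iff.1 hc
        rw [map_mul, map_mul, map_mul, map_inv, map_inv, map_zpow, ← (hcm.zpow_right i).eq,
          mul_inv_cancel_right, mul_inv_cancel])
    have hgt : o * g ∈ centralizer ({t} : Set G) :=
      mem_centralizer_singleton_iff.2 (mem_centralizer_iff.1 hog t (mem_zpowers t)).symm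
    refine ⟨o * g * z * (o * g)⁻¹, core_conj hgt hz, ?_⟩
    have ho1 : π o = 1 := (QuotientGroup.eq_one_iff o).2 ho
    show π (o * g * z * (o * g)⁻¹) = π g * π z * (π g)⁻¹
    rw [map_mul, map_mul, map_inv, map_mul, ho1, one_mul]
  · exact (centralizerCore_odd t).of_dvd_nat (card_map_dvd _ π)

end Ctx

end Cfsg.Agent.Invol.G1Local
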