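import Cfsg.Agent.Lib.Invol.G1Local.Simple
import Cfsg.Agent.Lib.Invol.G1Local.Inherit

/-!
# The induction: `[O(C t), A] ≤ O(G)`, and gap G1
-/

set_option autoImplicit false
set_option linter.unusedSectionVars false
set_option linter.style.haveILetI false

open Subgroup

namespace Cfsg.Agent.Invol.G1Local

open Transfer.UnitaryFour CentRank

universe u

/-- `[O(C t), A] ≤ O(G)` for every choice of `S`. -/
def Balanced (G : Type u) [Group G] : Prop :=
  ∀ S : Sylow 2 G, Ctx S → ∀ t ∈ cen S, t ≠ 1 → ∀ y ∈ core t, ∀ v ∈ cen S,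
    v * y * v⁻¹ * y⁻¹ ∈ Cfsg.pPrimeCore 2 G

variable {G : Type u} [Group G] [Finite G] {S : Sylow 2 G}

namespace Ctx

variable (h : Ctx S)
include h

theorem not_comm : ¬ IsMulCommutative G := fun hG => by
  have hc : center ↥(S : Subgroup G) = ⊤ :=
    eq_top_iff.2 fun w _ => mem_center_iff.2 fun v => Subtype.ext (hG.is_comm.comm _ _)
  have h4 := h.shape.centre
  rw [hc, card_top, h.shape.card] at h4
  norm_num at h4

/-- An odd subgroup normalised by `S` in a balanced subgroup containing `S` lies in its core. -/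
theorem inv_le_oddCore (hD : dcore S = ⊥) {X : Subgroup G} (hSX : (S : Subgroup G) ≤ X) (hX : Balanced X)
    {W : Subgroup G} (hW : Odd (Nat.card W)) (hWX : W ≤ X) (hSW : (S : Subgroup G) ≤ normalizer (W : Set G)) :
    W ≤ (Cfsg.pPrimeCore 2 X).map X.subtype := by
  haveI : Fact (Nat.Prime 2) := ⟨Nat.prime_two⟩
  set O := (Cfsg.pPrimeCore 2 X).map X.subtype with hO
  have hOodd : Odd (Nat.card O) := by rw [hO, card_map_of_injective X.subtype_injective]; exact oddCore_odd
  have hOn : ∀ x ∈ X, ∀ y ∈ O, x * y * x⁻¹ ∈ O := by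
    rintro x hx _ ⟨y, hy, rfl⟩
    exact ⟨_, (Grp.pPrimeCore_isNormal (p := 2)).conj_mem y hy ⟨x, hx⟩, rfl⟩
  have hXO : X ≤ normalizer (O : Set G) := fun x hx => mem_normalizer_iff.2 fun y => ⟨hOn x hx y, fun hy => by
    simpa [mul_assoc] using hOn x⁻¹ (inv_mem hx) _ hy⟩
  have hS' := h.subgroup hSX
  have hpart : ∀ v ∈ cen S, v ≠ 1 → W ⊓ centralizer ({v} : Set G) ≤ O := by
    rintro v hv hv1 y ⟨hyW, hyv⟩
    set vX : X := ⟨v, hSX (cen_le hv)⟩
    set yX : X := ⟨y, hWX hyW⟩
    have hvX : vX ∈ cen (S.subtype hSX) := (h.mem_cen_subtype hSX).2 hv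
    have hyK : yX ∈ core vX := by
      refine hS'.inf_centralizer_le (W := W.subgroupOf X) ?_ ?_ hvX (fun e => hv1 (congrArg Subtype.val e))
        ⟨mem_subgroupOf.2 hyW, mem_centralizer_singleton_iff.2 (Subtype.ext (mem_centralizer_singleton_iff.1 hyv))⟩
      · rwa [Nat.card_congr (subgroupOfEquivOfLe hWX).toEquiv]
      · exact fun s hs => mem_normalizer_iff.2 fun z => by
          rw [mem_subgroupOf, mem_subgroupOf]
          exact mem_normalizer_iff.1 (hSW (show (s : G) ∈ (S : Subgroup G) from hs)) z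
    have hcomm : ∀ w ∈ cen S, w * y * w⁻¹ * y⁻¹ ∈ O := fun w hw =>
      ⟨_, hX (S.subtype hSX) hS' vX hvX (fun e => hv1 (congrArg Subtype.val e)) yX hyK ⟨w, hSX (cen_le hw)⟩
        ((h.mem_cen_subtype hSX).2 hw), rfl⟩
    obtain ⟨o, ho, hoy⟩ := Grp.FpfThree.exists_rep_centralizer (V := cen S) (K := O) (x := y)
      (S.2.to_le cen_le) (fun w hw z hz => hOn w (hSX (cen_le hw)) z hz)
      (Nat.two_dvd_ne_zero.2 (Nat.odd_iff.1 hOodd)) hcomm
    have hWn : W ≤ normalizer (O : Set G) := hWX.trans hXO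
    have hmem : o * y ∈ (W ⊔ O) ⊓ centralizer (cen S : Set G) :=
      ⟨mul_mem (mem_sup_right ho) (mem_sup_left hyW), hoy⟩
    have hodd : Odd (Nat.card ↥(W ⊔ O)) :=
      (hW.mul hOodd).of_dvd_nat (Grp.card_sup_dvd_mul hWn)
    have hSn : (S : Subgroup G) ≤ normalizer ((W ⊔ O : Subgroup G) : Set G) := fun s hs => by
      refine Grp.mem_normalizer_iff_smul.2 ?_
      rw [Subgroup.smul_sup, Grp.normalizer_le_smul hSW hs, Grp.normalizer_le_smul hXO (hSX hs)]
    have h1 : o * y = 1 := mem_bot.1 (hD ▸ h.inf_centralizer_cen_le hodd hSn hmem)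
    rw [eq_inv_of_mul_eq_one_right h1]
    exact inv_mem ho
  obtain ⟨t, ht, ht1, -⟩ := h.exists_other (one_mem (cen S))
  obtain ⟨a, ha, ha1, hat⟩ := h.exists_other ht
  exact Core2.le_of_four hW (h.orderOf_cen ht ht1) (h.orderOf_cen ha ha1) hat (comm_of_cen ha (cen_le ht))
    (hSW (cen_le ht)) (hSW (cen_le ha)) (hpart t ht ht1) (hpart a ha ha1) (hpart _ (mul_mem ha ht)
      fun e => hat (by rw [eq_inv_of_mul_eq_one_left e, h.cen_inv ht]))

/-- Without a core, an involution of `A` fixed by `N(S)` forces all cores to be trivial. -/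
theorem core_eq_bot_of_not_moving (hO : Cfsg.pPrimeCore 2 G = ⊥) (hm : ¬ Moving S) {t : G} (ht : t ∈ cen S)
    (ht1 : t ≠ 1) : ∀ y ∈ core t, ∀ v ∈ cen S, v * y * v⁻¹ * y⁻¹ = 1 := by
  unfold Moving at hm
  push Not at hm
  obtain ⟨z, hz, hz1, hfix⟩ := hm
  have hiso : Cfsg.IsIsolatedInvolution z :=
    ZStar.isIsolated_of_sylow (cen_le (S := S) hz) (h.orderOf_cen hz hz1) fun g hg => by
      obtain ⟨n, hn, he⟩ := exists_normalizer_conj h.four (h.mem_zg hz) hg
      rw [← he, hfix n hn]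
  obtain ⟨N, hN, hodd, hcm⟩ := ZStar.exists_odd_normal hiso
  have hNb : N = ⊥ := le_bot_iff.1 (hO ▸ Grp.le_pPrimeCore hN (Nat.coprime_two_right.2 hodd))
  have hzc : ∀ g : G, g ∈ centralizer ({z} : Set G) := fun g => mem_centralizer_singleton_iff.2 (by
    have h1 : z * g * z⁻¹ * g⁻¹ = 1 := mem_bot.1 (hNb ▸ hcm g)
    calc g * z = (z * g * z⁻¹ * g⁻¹) * g * z := by rw [h1, one_mul]
      _ = z * g := by group)
  have hKz : core z = ⊥ := le_bot_iff.1 (hO ▸ Grp.le_pPrimeCore
    ⟨fun y hy g => core_conj (hzc g) hy⟩ (Nat.coprime_two_right.2 (centralizerCore_odd z)))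
  have hA : ∀ g : G, g ∈ centralizer (cen S : Set G) := fun g => by
    obtain ⟨k, hk, d, hd, rfl⟩ := h.cover hz hz1 (hzc g)
    have hk' : k = 1 := mem_bot.1 (hKz.le hk)
    rw [hk', one_mul]
    exact hd
  intro y _ v hv
  rw [mem_centralizer_iff.1 (hA y) v hv, mul_inv_cancel_right, mul_inv_cancel]

/-- With a cycle, `S` lies in every normal subgroup `N` containing `A` with `N S = G`. -/
theorem le_of_sup_eq_top (hm : Moving S) {N : Subgroup G} [N.Normal] (hA : cen S ≤ N)
    (hG : N ⊔ (S : Subgroup G) = ⊤) : (S : Subgroup G) ≤ N := by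
  haveI : Fact (Nat.Prime 2) := ⟨Nat.prime_two⟩
  classical
  obtain ⟨t, ht, ht1, -⟩ := h.exists_other (one_mem (cen S))
  obtain ⟨a, ha, ha1, hat⟩ := h.exists_other ht
  obtain ⟨n, hn, hnt, hna, hnb⟩ := h.exists_cycle hm ht ht1 ha ha1 hat
  obtain ⟨j, q, hq, hno⟩ : ∃ j q : ℕ, Odd q ∧ orderOf n = 2 ^ j * q :=
    Nat.exists_eq_two_pow_mul_odd (orderOf_pos n).ne'
  set m := n ^ 2 ^ j with hm'
  have hmo : Odd (orderOf m) := hq.of_dvd_nat (orderOf_dvd_of_pow_eq_one (by
    rw [hm', ← pow_mul, ← hno, pow_orderOf_eq_one]))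
  have hmN : m ∈ normalizer ((S : Subgroup G) : Set G) := pow_mem hn _
  -- `m` fixes no involution of `A`
  have hfix : ∀ v ∈ cen S, Commute m v → v = 1 := by
    intro v hv hc
    by_contra hv1
    have hone : ∀ w ∈ cen S, w ≠ 1 → n * w * n⁻¹ ≠ w := by
      intro w hw hw1 he
      rcases h.eq_or ht ha ht1 ha1 hat hw with e | e | e | e
      · exact hw1 e
      · rw [e, hnt] at he; exact hat he
      · rw [e, hna] at he; exact ht1 (mul_eq_right.1 he)
      · rw [e, hnb] at he; exact ha1 (mul_eq_left.1 he.symm)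
    have h3 : ∀ w ∈ cen S, Commute (n * n * n) w := fun w hw => by
      refine mul_inv_eq_iff_eq_mul.1 ?_
      have h3t : n * n * n * t * (n * n * n)⁻¹ = t := by
        rw [show n * n * n * t * (n * n * n)⁻¹ = n * (n * (n * t * n⁻¹) * n⁻¹) * n⁻¹ by group, hnt, hna, hnb]
      have h3a : n * n * n * a * (n * n * n)⁻¹ = a := by
        rw [show n * n * n * a * (n * n * n)⁻¹ = n * (n * (n * a * n⁻¹) * n⁻¹) * n⁻¹ by group, hna, hnb, hnt]
      rcases h.eq_or ht ha ht1 ha1 hat hw with e | e | e | e <;> rw [e]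
      · group
      · exact h3t
      · exact h3a
      · rw [show n * n * n * (t * a) * (n * n * n)⁻¹ =
          n * n * n * t * (n * n * n)⁻¹ * (n * n * n * a * (n * n * n)⁻¹) by group, h3t, h3a]
    have hpow : m = (n * n * n) ^ (2 ^ j / 3) * n ^ (2 ^ j % 3) := by
      rw [hm', show n * n * n = n ^ 3 by simp [pow_succ], ← pow_mul, ← pow_add, Nat.div_add_mod]
    have hq3 : ((n * n * n) ^ (2 ^ j / 3))⁻¹ * m = n ^ (2 ^ j % 3) := by rw [hpow, inv_mul_cancel_left]
    have hcr : Commute (n ^ (2 ^ j % 3)) v := hq3 ▸ ((h3 v hv).pow_left _).inv_left.mul_left hc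
    have hmod : 2 ^ j % 3 = 1 ∨ 2 ^ j % 3 = 2 := by
      have h0 : ¬ 3 ∣ 2 ^ j := fun hd => by
        have := (Nat.prime_three.dvd_of_dvd_pow hd)
        norm_num at this
      omega
    refine hone v hv hv1 (mul_inv_eq_iff_eq_mul.2 ?_)
    rcases hmod with e | e <;> rw [e] at hcr
    · rw [pow_one] at hcr; exact hcr.eq
    · have h4 := (h3 v hv).mul_left hcr.inv_left
      rw [show n * n * n * (n ^ 2)⁻¹ = n by rw [pow_two]; group] at h4
      exact h4.eq
  -- `m` lies in `N`
  have hmem : m ∈ N := by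
    have h2 : IsPGroup 2 (G ⧸ N) := by
      refine IsPGroup.of_surjective S.isPGroup' ((QuotientGroup.mk' N).comp (S : Subgroup G).subtype) fun q => ?_
      obtain ⟨g, rfl⟩ := QuotientGroup.mk'_surjective N q
      have hg : g ∈ N ⊔ (S : Subgroup G) := hG ▸ mem_top g
      rw [← SetLike.mem_coe, Subgroup.normal_mul] at hg
      obtain ⟨x, hx, s, hs, rfl⟩ := hg
      exact ⟨⟨s, hs⟩, by
        show QuotientGroup.mk' N s = QuotientGroup.mk' N (x * s)
        rw [map_mul, show QuotientGroup.mk' N x = 1 from (QuotientGroup.eq_one_iff _).2 hx, one_mul]⟩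
    obtain ⟨k, hk⟩ := h2 (QuotientGroup.mk' N m)
    refine (QuotientGroup.eq_one_iff m).1 (orderOf_eq_one_iff.1 ?_)
    exact Nat.eq_one_of_dvd_coprimes (Nat.Coprime.pow_right k (Nat.coprime_two_right.2 hmo))
      (orderOf_map_dvd (QuotientGroup.mk' N) m) (orderOf_dvd_of_pow_eq_one hk)
  have hδN : ∀ s : G, m * s * m⁻¹ * s⁻¹ ∈ N := fun s => by
    rw [show m * s * m⁻¹ * s⁻¹ = m * (s * m⁻¹ * s⁻¹) by group]
    exact mul_mem hmem ((inferInstance : N.Normal).conj_mem _ (inv_mem hmem) s)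
  -- `s ↦ [m, s]` is injective on the cosets of `A`
  haveI : ((cen S).subgroupOf (S : Subgroup G)).Normal := ⟨fun y hy g => mem_subgroupOf.2 (by
    show (g : G) * y * (g : G)⁻¹ ∈ cen S
    rw [← comm_of_cen (mem_subgroupOf.1 hy) g.2, mul_inv_cancel_right]
    exact mem_subgroupOf.1 hy)⟩
  set π := QuotientGroup.mk' ((cen S).subgroupOf (S : Subgroup G))
  let δ : ↥(S : Subgroup G) → ↥(S : Subgroup G) := fun s =>
    ⟨m * s * m⁻¹ * (s : G)⁻¹, mul_mem ((mem_normalizer_iff.1 hmN _).1 s.2) (inv_mem s.2)⟩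
  let g : (↥(S : Subgroup G) ⧸ (cen S).subgroupOf (S : Subgroup G)) →
      (↥(S : Subgroup G) ⧸ (cen S).subgroupOf (S : Subgroup G)) := fun q => π (δ q.out)
  have hinj : Function.Injective g := by
    intro p q e
    have h1 : ((δ p.out)⁻¹ * δ q.out : ↥(S : Subgroup G)) ∈ (cen S).subgroupOf (S : Subgroup G) :=
      QuotientGroup.eq.1 e
    set P := ((p.out : ↥(S : Subgroup G)) : G)
    set Q := ((q.out : ↥(S : Subgroup G)) : G)
    have hPS : P ∈ (S : Subgroup G) := p.out.2
    have hQS : Q ∈ (S : Subgroup G) := q.out.2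
    set u := P⁻¹ * Q with hu
    have huS : u ∈ (S : Subgroup G) := mul_mem (inv_mem hPS) hQS
    have h2 : (m * P * m⁻¹ * P⁻¹)⁻¹ * (m * Q * m⁻¹ * Q⁻¹) ∈ cen S := mem_subgroupOf.1 h1
    set v := m * u * m⁻¹ * u⁻¹ with hvdef
    have e2 : (m * P * m⁻¹ * P⁻¹)⁻¹ * (m * Q * m⁻¹ * Q⁻¹) = P * v * P⁻¹ := by rw [hvdef, hu]; group
    rw [e2] at h2
    have hv : v ∈ cen S := by
      have := comm_of_cen h2 hPS
      rw [inv_mul_cancel_right] at this
      rw [mul_left_cancel this]
      exact h2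
    have hu2 : u * u = 1 := by
      have hvv : Commute v u := comm_of_cen hv huS
      refine hfix _ (h.sq_mem huS) (mul_inv_eq_iff_eq_mul.1 ?_)
      have e3 : m * u * m⁻¹ = v * u := by rw [hvdef]; group
      calc m * (u * u) * m⁻¹ = (m * u * m⁻¹) * (m * u * m⁻¹) := by group
        _ = v * u * (v * u) := by rw [e3]
        _ = v * (u * v) * u := by group
        _ = (v * v) * (u * u) := by rw [← hvv.eq]; group
        _ = u * u := by rw [h.cen_sq hv, one_mul]
    have huA := h.mem_cen_of_sq huS hu2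
    rw [← Quotient.out_eq p, ← Quotient.out_eq q]
    exact QuotientGroup.eq.2 (mem_subgroupOf.2 huA)
  intro s hs
  obtain ⟨q, hq⟩ := (Finite.injective_iff_surjective.1 hinj) (π ⟨s, hs⟩)
  have h1 := mem_subgroupOf.1 (QuotientGroup.eq.1 hq)
  have h1' : (m * ((q.out : ↥(S : Subgroup G)) : G) * m⁻¹ * ((q.out : ↥(S : Subgroup G)) : G)⁻¹)⁻¹ * s ∈ cen S := h1
  have := mul_mem (hδN ((q.out : ↥(S : Subgroup G)) : G)) (hA h1')
  rwa [mul_inv_cancel_left] at this

end Ctx

/-- `[O(C t), A] ≤ O(G)` in every finite group. -/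
theorem balanced (hCL : CoreLinear.{u}) : ∀ (k : ℕ) (G : Type u) [Group G] [Finite G], Nat.card G ≤ k → Balanced G := by
  intro k
  induction k with
  | zero =>
    intro G _ _ hk
    exact absurd hk (by have := Nat.card_pos (α := G); omega)
  | succ k ih =>
    intro G _ _ hk S h t ht ht1 y hy v hv
    haveI : Fact (Nat.Prime 2) := ⟨Nat.prime_two⟩
    have small : ∀ X : Subgroup G, X ≠ ⊤ → Balanced X := fun X hX => ih X (by
      have : Nat.card X < Nat.card G := by
        by_contra hle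
        exact hX (eq_top_of_le_card X (not_lt.1 hle))
      omega)
    by_cases hO : Cfsg.pPrimeCore 2 G = ⊥
    swap
    · haveI : (Cfsg.pPrimeCore 2 G).Normal := Grp.pPrimeCore_isNormal
      have hQ : Balanced (G ⧸ Cfsg.pPrimeCore 2 G) := ih _ (by
        have e := (Cfsg.pPrimeCore 2 G).card_mul_index
        rw [Subgroup.index_eq_card] at e
        have h1 : 1 < Nat.card (Cfsg.pPrimeCore 2 G) := (Subgroup.one_lt_card_iff_ne_bot _).2 hO
        have h2 := Nat.card_pos (α := G ⧸ Cfsg.pPrimeCore 2 G)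
        nlinarith)
      have hodd : Odd (Nat.card (Cfsg.pPrimeCore 2 G)) := oddCore_odd
      have hne : QuotientGroup.mk' (Cfsg.pPrimeCore 2 G) t ≠ 1 := fun e => ht1 (by
        have := h.injOn_quotient hodd (cen_le ht) (one_mem _) (by rw [e, map_one])
        exact this)
      have := hQ _ (h.quotient hodd) _ (h.mem_cen_quotient hodd ht) hne _ (h.core_quotient hodd ht hy) _
        (h.mem_cen_quotient hodd hv)
      rw [Grp.pPrimeCore_quotient_eq_bot, mem_bot, ← map_inv, ← map_inv, ← map_mul, ← map_mul, ← map_mul] at this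
      exact (QuotientGroup.eq_one_iff _).1 this
    rw [hO, mem_bot]
    by_cases hm : Moving S
    swap
    · exact h.core_eq_bot_of_not_moving hO hm ht ht1 y hy v hv
    set N := normalClosure (cen S : Set G) with hN
    have hAN : cen S ≤ N := fun w hw => subset_normalClosure hw
    by_cases hNG : N = ⊤
    · -- `G` is simple
      haveI : Nontrivial G := ⟨⟨t, 1, ht1⟩⟩
      haveI : IsSimpleGroup G := ⟨fun M hM => by
        by_cases hdisj : ∀ w ∈ cen S, w ∈ M → w = 1
        · left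
          have hMo : Odd (Nat.card M) := by
            by_contra hno
            obtain ⟨u, huM, hu⟩ := Invol.exists_orderOf_prime_mem (p := 2) (H := M)
              (even_iff_two_dvd.1 (Nat.not_odd_iff_even.1 hno))
            obtain ⟨g, hg⟩ := Invol.exists_conj_mem_sylow (x := u) (n := 1) (by rw [hu, pow_one]) S
            have ho : orderOf (g * u * g⁻¹) = 2 := by rw [Invol.orderOf_conj_eq, hu]
            exact ne_one_of_orderOf_two ho (hdisj _ (h.invol_mem hg ho) (hM.conj_mem u huM g))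
          exact le_bot_iff.1 (hO ▸ Grp.le_pPrimeCore hM (Nat.coprime_two_right.2 hMo))
        · right
          push Not at hdisj
          obtain ⟨w, hw, hwM, hw1⟩ := hdisj
          refine top_le_iff.1 (hNG ▸ normalClosure_le_normal (N := M) fun u hu => ?_)
          by_cases hu1 : u = 1
          · exact hu1 ▸ one_mem M
          · obtain ⟨n, -, hn⟩ := h.exists_conj hm hw hw1 hu hu1
            exact hn ▸ hM.conj_mem w hwM n⟩
      have hle := core_le_dcore_of_simple hCL h.not_comm h (fun hD X hSX hX W hW hWX hSW =>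
        h.inv_le_oddCore hD hSX (small X hX) hW hWX hSW) ht ht1
      rw [mem_centralizer_iff.1 (dcore_le (hle hy)) v hv, mul_inv_cancel_right, mul_inv_cancel]
    · by_cases hNS : N ⊔ (S : Subgroup G) = ⊤
      · exfalso
        have hSN := h.le_of_sup_eq_top hm hAN hNS
        exact hNG (by rwa [sup_eq_left.2 hSN] at hNS)
      · set X := N ⊔ (S : Subgroup G)
        have hSX : (S : Subgroup G) ≤ X := le_sup_right
        have hX := small X hNS
        have hS' := h.subgroup hSX
        set z := v * y * v⁻¹ * y⁻¹ with hz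
        have hvt : v ∈ centralizer ({t} : Set G) := Hyp.le_cent ht (cen_le hv)
        have hzK : z ∈ core t := mul_mem (core_conj hvt hy) (inv_mem hy)
        have hzN : z ∈ N := by
          rw [hz, show v * y * v⁻¹ * y⁻¹ = v * (y * v⁻¹ * y⁻¹) by group]
          exact mul_mem (hAN hv) (Subgroup.normalClosure_normal.conj_mem _ (inv_mem (hAN hv)) y)
        set zX : X := ⟨z, mem_sup_left hzN⟩
        set tX : X := ⟨t, hSX (cen_le ht)⟩
        set vX : X := ⟨v, hSX (cen_le hv)⟩
        have hmem := hX (S.subtype hSX) hS' tX ((h.mem_cen_subtype hSX).2 ht)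
          (fun e => ht1 (congrArg Subtype.val e)) zX (h.core_subtype hzK) vX ((h.mem_cen_subtype hSX).2 hv)
        -- `O(N S) ∩ N = 1`
        set O := (Cfsg.pPrimeCore 2 X).map X.subtype
        have hON : O ⊓ N = ⊥ := by
          have hOo : Odd (Nat.card O) := by rw [card_map_of_injective X.subtype_injective]; exact oddCore_odd
          have h1 : ((O ⊓ N).subgroupOf N).Normal := ⟨fun w hw g => by
            rw [mem_subgroupOf] at hw ⊢
            obtain ⟨⟨w', hw', e⟩, hwN⟩ := hw
            refine ⟨⟨⟨g, mem_sup_left g.2⟩ * w' * ⟨g, mem_sup_left g.2⟩⁻¹,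
              (Grp.pPrimeCore_isNormal (p := 2)).conj_mem w' hw' _, ?_⟩, N.mul_mem (N.mul_mem g.2 hwN) (N.inv_mem g.2)⟩
            show (g : G) * (w' : G) * (g : G)⁻¹ = (g : G) * _ * (g : G)⁻¹
            rw [← e]; rfl⟩
          have h2 := Grp.le_pPrimeCore (p := 2) h1 (by
            rw [Nat.card_congr (subgroupOfEquivOfLe inf_le_right).toEquiv]
            exact Nat.coprime_two_right.2 (hOo.of_dvd_nat (card_dvd_of_le inf_le_left)))
          set ON := (Cfsg.pPrimeCore 2 N).map N.subtype with hON'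
          have hmapN : ∀ g : G, ON.map (MulAut.conj g).toMonoidHom ≤ ON := by
            intro g
            set J := ON.map (MulAut.conj g).toMonoidHom
            have hJN : J ≤ N := by
              rintro _ ⟨w, hw, rfl⟩
              exact Subgroup.normalClosure_normal.conj_mem w (map_subtype_le _ hw) g
            have hn : (J.subgroupOf N).Normal := ⟨fun w hw x => by
              rw [mem_subgroupOf, Invol.mem_map_conj] at hw ⊢
              obtain ⟨w', hw', e⟩ := hw
              refine ⟨⟨g⁻¹ * x * g, by simpa using Subgroup.normalClosure_normal.conj_mem _ x.2 g⁻¹⟩ * w' *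
                ⟨g⁻¹ * x * g, by simpa using Subgroup.normalClosure_normal.conj_mem _ x.2 g⁻¹⟩⁻¹,
                (Grp.pPrimeCore_isNormal (p := 2)).conj_mem w' hw' _, ?_⟩
              show g⁻¹ * (x : G) * g * (w' : G) * (g⁻¹ * (x : G) * g)⁻¹ = g⁻¹ * ((x * w * x⁻¹ : N) : G) * g
              rw [show (w' : G) = g⁻¹ * (w : G) * g from e]
              simp [mul_assoc]⟩
            have h3 := Grp.le_pPrimeCore (p := 2) hn (by
              rw [Nat.card_congr (subgroupOfEquivOfLe hJN).toEquiv, card_map_of_injective (MulAut.conj g).injective,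
                card_map_of_injective N.subtype_injective]
              exact Nat.coprime_two_right.2 oddCore_odd)
            exact fun w hw => ⟨⟨w, hJN hw⟩, h3 (mem_subgroupOf.2 hw), rfl⟩
          have hn : ON.Normal := ⟨fun w hw g => hmapN g ⟨w, hw, rfl⟩⟩
          have hb : ON = ⊥ := le_bot_iff.1 (hO ▸ Grp.le_pPrimeCore hn (by
            rw [card_map_of_injective N.subtype_injective]; exact Nat.coprime_two_right.2 oddCore_odd))
          exact le_bot_iff.1 (fun w hw => hb ▸ ⟨⟨w, hw.2⟩, h2 (mem_subgroupOf.2 hw), rfl⟩)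
        have hc : v * z * v⁻¹ * z⁻¹ = 1 := mem_bot.1 (hON ▸ (mem_inf.2 ⟨⟨_, hmem, rfl⟩,
          mul_mem (Subgroup.normalClosure_normal.conj_mem z hzN v) (inv_mem hzN)⟩ : v * z * v⁻¹ * z⁻¹ ∈ O ⊓ N))
        have hcz : v * z * v⁻¹ = z := mul_inv_eq_one.1 hc
        have hz2 : z * z = 1 := by
          have e1 : v * z * v⁻¹ * z = (v * v) * y * (v * v)⁻¹ * y⁻¹ := by rw [hz]; group
          rw [hcz, h.cen_sq hv] at e1
          rw [e1]
          group
        exact orderOf_eq_one_iff.1 (Nat.eq_one_of_dvd_coprimes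
          (Nat.coprime_two_right.2 (centralizerCore_odd t)) (Subgroup.orderOf_dvd_natCard _ hzK)
          (orderOf_dvd_of_pow_eq_one (by rw [pow_two, hz2])))

/-- In a simple group the cores normalise `S`. -/
theorem core_le_normalizer (hCL : CoreLinear.{u}) (G : Type u) [Group G] [Finite G] [IsSimpleGroup G]
    (hna : ¬ IsMulCommutative G) (S : Sylow 2 G) (h : Ctx S) {t : G} (ht : t ∈ cen S) (ht1 : t ≠ 1) :
    core t ≤ normalizer ((S : Subgroup G) : Set G) := fun y hy =>
  h.centralizer_cen_le (dcore_le (core_le_dcore_of_simple hCL hna h (fun hD X hSX _ _ hW hWX hSW =>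
    h.inv_le_oddCore hD hSX (balanced hCL _ X le_rfl) hW hWX hSW) ht ht1 hy))

/-- Gap G1, from the character side. -/
theorem g1_of_coreLinear (hCL : CoreLinear.{u}) : CentRank.G1.{u} := by
  intro G _ _ _ hna hfour F _ _ hF P S he z hz hz1
  obtain ⟨e⟩ := he
  have h : Ctx S := ⟨shape_of_sylow hF P e, hfour⟩
  exact core_le_normalizer hCL G hna S h (h.cen_eq_zg ▸ hz) hz1

end Cfsg.Agent.Invol.G1Local
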