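import Cfsg.Agent.Lib.Invol.G1Local.Setup

/-!
# What the character side supplies

In a simple group with a Sylow 2-subgroup of `PSU(3, 4)` shape and `FourUnique` there is a strongly embedded
subgroup or the odd cores of the centralisers of the involutions of `A` are abelian of prime exponent.  The local
side turns this into `CentRank.G1`.
-/

set_option autoImplicit false

open Subgroup

namespace Cfsg.Agent.Invol.G1Local

open Transfer.UnitaryFour

universe u

/-- A strongly embedded subgroup, or abelian cores of prime exponent. -/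
def CoreLinear : Prop :=
  ∀ (G : Type u) [Group G] [Finite G] [IsSimpleGroup G], ¬ IsMulCommutative G → ∀ S : Sylow 2 G, Ctx S →
    (∃ X : Subgroup G, Cfsg.IsStronglyPEmbedded 2 X) ∨
      ∀ t ∈ cen S, t ≠ 1 →
        (∀ y ∈ Cfsg.centralizerPPrimeCore 2 t, ∀ y' ∈ Cfsg.centralizerPPrimeCore 2 t, y * y' = y' * y) ∧
        ∃ p : ℕ, p.Prime ∧ ∀ y ∈ Cfsg.centralizerPPrimeCore 2 t, y ^ p = 1

end Cfsg.Agent.Invol.G1Local
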