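import Cfsg.Agent.Lib.Invol.G1Local.Setup
import Cfsg.Agent.Lib.Transfer.UFLyons.Embed

/-!
# `N(S)` on the involutions of `A`, and local subgroups containing their centralisers
-/

set_option autoImplicit false
set_option linter.unusedSectionVars false
set_option linter.style.haveILetI false

open Subgroup

namespace Cfsg.Agent.Invol.G1Local

open Transfer.UnitaryFour CentRank

universe u

variable {G : Type u} [Group G] [Finite G] {S : Sylow 2 G}

/-- `N(S)` moves every involution of `A`. -/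
def Moving (S : Sylow 2 G) : Prop :=
  ∀ t ∈ cen S, t ≠ 1 → ∃ n ∈ normalizer ((S : Subgroup G) : Set G), n * t * n⁻¹ ≠ t

namespace Ctx

variable (h : Ctx S)
include h

theorem moving_of_simple [IsSimpleGroup G] (hna : ¬ IsMulCommutative G) : Moving S := fun _ ht ht1 =>
  exists_moving h.four hna (h.mem_zg ht) ht1

theorem mem_centralizer_cen {t a y : G} (ht : t ∈ cen S) (ha : a ∈ cen S) (ht1 : t ≠ 1) (ha1 : a ≠ 1)
    (hat : a ≠ t) (hyt : Commute y t) (hya : Commute y a) : y ∈ centralizer (cen S : Set G) := by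
  refine mem_centralizer_iff.2 fun v hv => ?_
  rcases h.eq_or ht ha ht1 ha1 hat hv with rfl | rfl | rfl | rfl
  exacts [by rw [one_mul, mul_one], hyt.eq.symm, hya.eq.symm, (hyt.mul_right hya).eq.symm]

/-- No element of `N(S)` interchanges two involutions of `A`. -/
theorem no_swap {t a n : G} (ht : t ∈ cen S) (hat : a ≠ t) (hn : n ∈ normalizer ((S : Subgroup G) : Set G))
    (h1 : n * t * n⁻¹ = a) (h2 : n * a * n⁻¹ = t) : False := by
  haveI : Fact (Nat.Prime 2) := ⟨Nat.prime_two⟩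
  obtain ⟨j, m, hm, hno⟩ : ∃ j m : ℕ, Odd m ∧ orderOf n = 2 ^ j * m :=
    Nat.exists_eq_two_pow_mul_odd (orderOf_pos n).ne'
  obtain ⟨i, rfl⟩ := hm
  have hcm : Commute (n ^ 2) t := mul_inv_eq_iff_eq_mul.1 (by
    rw [pow_two, show n * n * t * (n * n)⁻¹ = n * (n * t * n⁻¹) * n⁻¹ by group, h1, h2])
  set g := n ^ (2 * i + 1) with hg
  have hgt : g * t * g⁻¹ = a := by
    rw [hg, pow_succ', pow_mul, show n * (n ^ 2) ^ i * t * (n * (n ^ 2) ^ i)⁻¹ =
      n * ((n ^ 2) ^ i * t * ((n ^ 2) ^ i)⁻¹) * n⁻¹ by group, (hcm.pow_left i).eq, mul_inv_cancel_right, h1]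
  have hp : IsPGroup 2 ↥(zpowers g) := by
    obtain ⟨l, -, hl⟩ := (Nat.dvd_prime_pow Nat.prime_two).1 (orderOf_dvd_of_pow_eq_one (x := g) (n := 2 ^ j)
      (by rw [hg, ← pow_mul, mul_comm, ← hno, pow_orderOf_eq_one]))
    exact IsPGroup.of_card (n := l) (by rw [Nat.card_zpowers, hl])
  have hgS : g ∈ (S : Subgroup G) :=
    S.is_maximal' (hp.to_sup_of_normal_right' S.isPGroup' (zpowers_le.2 (pow_mem hn _))) le_sup_right ▸
      mem_sup_left (mem_zpowers _)
  exact hat (by rw [← hgt, ← comm_of_cen ht hgS, mul_inv_cancel_right])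

theorem exists_cycle (hm : Moving S) {t a : G} (ht : t ∈ cen S) (ht1 : t ≠ 1) (ha : a ∈ cen S) (ha1 : a ≠ 1)
    (hat : a ≠ t) : ∃ n ∈ normalizer ((S : Subgroup G) : Set G),
      n * t * n⁻¹ = a ∧ n * a * n⁻¹ = t * a ∧ n * (t * a) * n⁻¹ = t := by
  have key : ∀ u w : G, u ∈ cen S → u ≠ 1 → w ∈ cen S → w ≠ 1 → w ≠ u → ∀ n ∈ normalizer ((S : Subgroup G) : Set G),
      n * u * n⁻¹ = w → n * w * n⁻¹ = u * w ∧ n * (u * w) * n⁻¹ = u := by
    intro u w hu hu1 hw hw1 hwu n hn he
    have h2 : n * w * n⁻¹ = u * w := by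
      rcases h.eq_or hu hw hu1 hw1 hwu (Hyp.cen_normal hn hw) with e | e | e | e
      · exact absurd (conj_eq_one_iff.1 e) hw1
      · exact (h.no_swap hu hwu hn he e).elim
      · exact absurd (mul_left_cancel (mul_right_cancel (e.trans he.symm))) hwu
      · exact e
    exact ⟨h2, by
      rw [show n * (u * w) * n⁻¹ = n * u * n⁻¹ * (n * w * n⁻¹) by group, he, h2, comm_of_cen hu (cen_le hw),
        ← mul_assoc, h.cen_sq hw, one_mul]⟩
  obtain ⟨n, hn, hne⟩ := hm t ht ht1
  rcases h.eq_or ht ha ht1 ha1 hat (Hyp.cen_normal hn ht) with e | e | e | e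
  · exact absurd (conj_eq_one_iff.1 e) ht1
  · exact absurd e hne
  · exact ⟨n, hn, e, key t a ht ht1 ha ha1 hat n hn e⟩
  · have hta1 : t * a ≠ 1 := fun e' => hat (by rw [eq_inv_of_mul_eq_one_right e', h.cen_inv ht])
    have htat : t * a ≠ t := fun e' => ha1 (mul_eq_left.1 e')
    obtain ⟨e2, e3⟩ := key t (t * a) ht ht1 (mul_mem ht ha) hta1 htat n hn e
    rw [← mul_assoc t t a, h.cen_sq ht, one_mul] at e2 e3
    have e4 : n * n * t * (n * n)⁻¹ = a := by
      rw [show n * n * t * (n * n)⁻¹ = n * (n * t * n⁻¹) * n⁻¹ by group, e, e2]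
    exact ⟨n * n, mul_mem hn hn, e4, key t a ht ht1 ha ha1 hat _ (mul_mem hn hn) e4⟩

/-- `N(S)` is transitive on the involutions of `A`. -/
theorem exists_conj (hm : Moving S) {t v : G} (ht : t ∈ cen S) (ht1 : t ≠ 1) (hv : v ∈ cen S) (hv1 : v ≠ 1) :
    ∃ n ∈ normalizer ((S : Subgroup G) : Set G), n * t * n⁻¹ = v := by
  rcases eq_or_ne v t with rfl | hvt
  · exact ⟨1, one_mem _, by group⟩
  · obtain ⟨n, hn, e, -⟩ := h.exists_cycle hm ht ht1 hv hv1 hvt
    exact ⟨n, hn, e⟩

/-- A subgroup with the centralisers and a cycle contains `N(S)`. -/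
theorem normalizer_le {X : Subgroup G} (hC : ∀ v ∈ cen S, v ≠ 1 → centralizer ({v} : Set G) ≤ X)
    {t a n : G} (ht : t ∈ cen S) (ht1 : t ≠ 1) (ha : a ∈ cen S) (ha1 : a ≠ 1) (hat : a ≠ t)
    (hnX : n ∈ X) (hn : n * t * n⁻¹ = a) (hna : n * a * n⁻¹ = t * a) :
    normalizer ((S : Subgroup G) : Set G) ≤ X := by
  intro g hg
  have hsplit : ∀ x : G, x ∈ X → g * t * g⁻¹ = x * t * x⁻¹ → g ∈ X := fun x hx he => by
    have hc : x⁻¹ * g ∈ centralizer ({t} : Set G) := mem_centralizer_singleton_iff.2 (by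
      calc x⁻¹ * g * t = x⁻¹ * (g * t * g⁻¹) * g := by group
        _ = t * (x⁻¹ * g) := by rw [he]; group)
    rw [show g = x * (x⁻¹ * g) by group]
    exact mul_mem hx (hC t ht ht1 hc)
  rcases h.eq_or ht ha ht1 ha1 hat (Hyp.cen_normal hg ht) with e | e | e | e
  · exact absurd (conj_eq_one_iff.1 e) ht1
  · exact hsplit 1 (one_mem _) (by rw [e]; group)
  · exact hsplit n hnX (by rw [e, hn])
  · exact hsplit (n * n) (mul_mem hnX hnX) (by
      rw [e, show n * n * t * (n * n)⁻¹ = n * (n * t * n⁻¹) * n⁻¹ by group, hn, hna])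

/-- A proper subgroup with all centralisers of `A#` and `N(S)` forces them into `N(S)`. -/
theorem centralizer_le_normalizer_of_local [IsSimpleGroup G] (hna : ¬ IsMulCommutative G) {X : Subgroup G}
    (hX : X ≠ ⊤) (hN : normalizer ((S : Subgroup G) : Set G) ≤ X)
    (hC : ∀ v ∈ cen S, v ≠ 1 → centralizer ({v} : Set G) ≤ X) {v : G} (hv : v ∈ cen S) (hv1 : v ≠ 1) :
    centralizer ({v} : Set G) ≤ normalizer ((S : Subgroup G) : Set G) := by
  have hsp := Transfer.UFLyons.stronglyEmbedded_of_centralizers h.shape X hX hN hC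
  obtain ⟨-, P, hP⟩ := CoreConsumers.s1792_of hna X hsp (S2798.result _ hsp)
  have hSP : (S : Subgroup G) ≤ (P : Subgroup G) := by
    have hle : (S : Subgroup G) ≤ normalizer ((P : Subgroup G) : Set G) := (le_normalizer.trans hN).trans hP.le
    exact le_sup_left.trans
      (P.is_maximal' (S.isPGroup'.to_sup_of_normal_right' P.isPGroup' hle) le_sup_right).le
  have e : P = S := Sylow.ext (S.is_maximal' P.isPGroup' hSP)
  exact (hC v hv hv1).trans (hP.le.trans_eq (by rw [e]))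

/-- If an odd subgroup is normalised by `N(S)` and by all centralisers, the cores centralise `S`. -/
theorem core_le_of_normalized [IsSimpleGroup G] (hna : ¬ IsMulCommutative G) {J : Subgroup G}
    (hJo : Odd (Nat.card J)) (hJ1 : J ≠ ⊥)
    (hN : normalizer ((S : Subgroup G) : Set G) ≤ normalizer (J : Set G))
    (hC : ∀ v ∈ cen S, v ≠ 1 → centralizer ({v} : Set G) ≤ normalizer (J : Set G)) {v : G} (hv : v ∈ cen S)
    (hv1 : v ≠ 1) : Cfsg.centralizerPPrimeCore 2 v ≤ dcore S := by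
  haveI : Fact (Nat.Prime 2) := ⟨Nat.prime_two⟩
  have hX : normalizer (J : Set G) ≠ ⊤ := fun e => by
    rcases (normalizer_eq_top_iff.1 e).eq_bot_or_eq_top with e' | e'
    · exact hJ1 e'
    · rw [e', card_top] at hJo
      exact Nat.not_even_iff_odd.2 hJo (even_iff_two_dvd.2
        ((show 2 ∣ Nat.card ↥(S : Subgroup G) by rw [h.shape.card]; norm_num).trans (card_subgroup_dvd_card _)))
  have hle := h.centralizer_le_normalizer_of_local hna hX hN hC hv hv1
  intro y hy
  have hyS : y ∈ centralizer ((S : Subgroup G) : Set G) := mem_centralizer_iff.2 fun s hs =>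
    centralizes_of_normalizer (centralizerCore_odd v) (fun s hs => centralizer_le_normalizer_core v
      (Hyp.le_cent hv hs)) ((centralizerCore_le v).trans hle) hy hs
  exact h.mem_dcore hyS ((centralizerCore_odd v).of_dvd_nat (Subgroup.orderOf_dvd_natCard _ hy))

end Ctx

end Cfsg.Agent.Invol.G1Local
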