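import Cfsg.Agent.Lib.Invol.GW.Consumers.AbelianSylow
import Cfsg.Agent.Lib.Invol.GW.Consumers.HallNumbers
import Cfsg.Agent.Lib.Invol.GW.Dihedral.ThreeDoneFinal
import Cfsg.Agent.Lib.Invol.Core2.RankTwoPSL
import Cfsg.Agent.Lib.Classical.DicksonCentral

/-!
# A noncyclic inverted odd subgroup in the centraliser of an involution meets the core

For a group with a four-group as Sylow 2-subgroup and solvable centralisers of involutions the socle modulo the core is
some `PSL₂(q)`, where the odd part of the centraliser of an involution is cyclic.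
-/

set_option autoImplicit false
set_option linter.style.haveILetI false
set_option linter.unusedSectionVars false

open Subgroup

namespace Cfsg.Agent.Invol.G1Local

universe u

/-- Odd subgroups of the centraliser of an involution in `PSL₂(q)` are cyclic. -/
theorem psl_odd_cyclic {F : Type} [Field F] [Fintype F]
    {g : Matrix.ProjectiveSpecialLinearGroup (Fin 2) F} (hg1 : g ≠ 1) (hg2 : g * g = 1)
    (C : Subgroup (Matrix.ProjectiveSpecialLinearGroup (Fin 2) F)) (hC : Odd (Nat.card C))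
    (hCg : C ≤ centralizer ({g} : Set (Matrix.ProjectiveSpecialLinearGroup (Fin 2) F))) : IsCyclic C := by
  classical
  obtain ⟨p, hch⟩ := CharP.exists F
  haveI := hch
  have hp : p.Prime := CharP.char_is_prime F p
  haveI : Fact p.Prime := ⟨hp⟩
  set D := Dickson.pslData (F := F) p
  have hodd : ∀ {x : Matrix.ProjectiveSpecialLinearGroup (Fin 2) F}, x ∈ C → x * x = 1 → x = 1 := fun {x} hx h2 => by
    have h1 : orderOf x ∣ Nat.card C := by
      rw [← Subgroup.orderOf_mk x hx]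
      exact orderOf_dvd_natCard _
    exact orderOf_eq_one_iff.1 (Nat.eq_one_of_dvd_coprimes (Nat.coprime_two_right.2 hC) h1
      (orderOf_dvd_of_pow_eq_one (by rw [pow_two, h2])))
  by_cases hgp : g ^ p = 1
  · rcases eq_or_ne p 2 with rfl | hp2
    · have hbot : C = ⊥ := by
        rw [eq_bot_iff]
        intro x hx
        have hxt := hCg hx
        rw [Dickson.centralizer_eq_tor 2 hg1 (Or.inl hgp)] at hxt
        exact mem_bot.2 (hodd hx (by rw [← pow_two]; exact D.uni_exp hg1 hgp hxt))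
      subst hbot
      infer_instance
    · refine absurd ?_ hg1
      obtain ⟨k, rfl⟩ := hp.odd_of_ne_two hp2
      rwa [pow_succ, pow_mul, pow_two, hg2, one_pow, one_mul] at hgp
  rw [Dickson.centralizer_involution p hg1 hgp hg2] at hCg
  have hCt : C ≤ D.T g := fun x hx => by
    by_contra hxt
    exact hxt (hodd hx (D.semi_flip hg1 hgp ((D.mem_normalizer_iff hg1).1 (hCg hx)) hxt).1 ▸ one_mem _)
  haveI := D.semi_cyclic hg1 hgp
  exact isCyclic_of_injective (inclusion hCt) (inclusion_injective hCt)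

/-- A noncyclic odd subgroup of `C(a)` inverted by `b` meets the core. -/
theorem exists_mem_oddCore {Y : Type u} [Group Y] [Finite Y] (T : Sylow 2 Y) {a b : Y}
    (hT : Nat.card (T : Subgroup Y) = 4) (haT : a ∈ (T : Subgroup Y)) (hbT : b ∈ (T : Subgroup Y))
    (ha : orderOf a = 2) (hb : orderOf b = 2) (hab : a ≠ b)
    (hsol : ∀ t : Y, orderOf t = 2 → Group.IsSolvable ↥(centralizer ({t} : Set Y)))
    (B : Subgroup Y) (hBodd : Odd (Nat.card B)) (hBa : B ≤ centralizer ({a} : Set Y))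
    (hBinv : ∀ v ∈ B, b * v * b⁻¹ = v⁻¹) (hB : ¬ IsCyclic B) : ∃ v ∈ B, v ≠ 1 ∧ v ∈ Cfsg.oddCore Y := by
  classical
  by_contra hcon
  push Not at hcon
  haveI : Fact (Nat.Prime 2) := ⟨Nat.prime_two⟩
  haveI hOn : (Cfsg.oddCore Y).Normal := Grp.pPrimeCore_isNormal
  set π := QuotientGroup.mk' (Cfsg.oddCore Y) with hπ
  have hinj : ∀ v ∈ B, π v = 1 → v = 1 := fun v hv h =>
    by_contra fun h1 => hcon v hv h1 ((QuotientGroup.eq_one_iff v).1 h)
  have hBbar : Odd (Nat.card (B.map π)) := hBodd.of_dvd_nat (B.card_map_dvd π)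
  have hcyc : IsCyclic (B.map π) → False := fun h => hB <| by
    haveI := h
    refine isCyclic_of_injective (π.subgroupMap B) fun v w e => ?_
    have e' : π v = π w := congrArg Subtype.val e
    have := hinj _ (B.mul_mem (B.inv_mem v.2) w.2) (by rw [map_mul, map_inv, e', inv_mul_cancel])
    exact Subtype.ext (inv_mul_eq_one.1 this)
  have hsq : ∀ v ∈ B, π v * π v = 1 → π v = 1 := fun v hv h2 => by
    have h1 : orderOf (π v) ∣ Nat.card B := (orderOf_map_dvd π v).trans (by
      rw [← Subgroup.orderOf_mk v hv]; exact orderOf_dvd_natCard _)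
    exact orderOf_eq_one_iff.1 (Nat.eq_one_of_dvd_coprimes (Nat.coprime_two_right.2 hBodd) h1
      (orderOf_dvd_of_pow_eq_one (by rw [pow_two, h2])))
  have hTc : IsMulCommutative (T : Subgroup Y) :=
    ⟨⟨IsPGroup.commutative_of_card_eq_prime_sq (p := 2) (by rw [hT]; rfl)⟩⟩
  have hTbar : Nat.card ((T.mapSurjective (QuotientGroup.mk'_surjective (Cfsg.oddCore Y))) :
      Subgroup (Y ⧸ Cfsg.oddCore Y)) = 4 := by
    rw [Sylow.coe_mapSurjective, ← hT]
    refine (Nat.card_congr (Equiv.ofBijective (π.subgroupMap (T : Subgroup Y)) ⟨fun v w e => ?_,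
      π.subgroupMap_surjective (T : Subgroup Y)⟩)).symm
    have e' : π v = π w := congrArg Subtype.val e
    have h1 : (v : Y)⁻¹ * w ∈ Cfsg.oddCore Y := by
      rw [← QuotientGroup.eq_one_iff]
      show π ((v : Y)⁻¹ * w) = 1
      rw [map_mul, map_inv, e', inv_mul_cancel]
    have h2 : (v : Y)⁻¹ * w ∈ (T : Subgroup Y) := mul_mem (inv_mem v.2) w.2
    have h3 := Nat.eq_one_of_dvd_coprimes
      ((Grp.pPrimeCore_coprime (G := Y) (p := 2)).pow_right 2)
      (Subgroup.orderOf_mk _ h1 ▸ orderOf_dvd_natCard (⟨_, h1⟩ : ↥(Cfsg.oddCore Y)))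
      (show orderOf ((v : Y)⁻¹ * w) ∣ 2 ^ 2 from
        (Subgroup.orderOf_mk _ h2 ▸ orderOf_dvd_natCard (⟨_, h2⟩ : ↥(T : Subgroup Y))).trans (hT ▸ dvd_rfl))
    exact Subtype.ext (inv_mul_eq_one.1 (orderOf_eq_one_iff.1 h3))
  set Tb := T.mapSurjective (QuotientGroup.mk'_surjective (Cfsg.oddCore Y)) with hTb
  have hinvbar : ∀ v ∈ B, π b * π v * (π b)⁻¹ = (π v)⁻¹ := fun v hv => by
    rw [← map_inv, ← map_mul, ← map_mul, hBinv v hv, map_inv]
  by_cases hs : Group.IsSolvable (Y ⧸ Cfsg.oddCore Y)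
  · -- the Sylow subgroup is normal
    haveI := hs
    set Q := Cfsg.pCore 2 (Y ⧸ Cfsg.oddCore Y) with hQ
    have hQT : Q ≤ (Tb : Subgroup (Y ⧸ Cfsg.oddCore Y)) := Grp.pCore_le_sylow Tb
    have hTQ : (Tb : Subgroup (Y ⧸ Cfsg.oddCore Y)) ≤ Q := fun w hw => by
      refine Grp.centralizer_pCore_le Grp.pPrimeCore_quotient_eq_bot (mem_centralizer_iff.2 fun q hq => ?_)
      exact congrArg Subtype.val ((IsPGroup.commutative_of_card_eq_prime_sq (p := 2)
        (G := ↥(Tb : Subgroup (Y ⧸ Cfsg.oddCore Y))) (by rw [hTbar]; rfl)) ⟨q, hQT hq⟩ ⟨w, hw⟩)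
    haveI : Q.Normal := Grp.pCore_isNormal
    refine hcyc ?_
    have hbot : B.map π = ⊥ := by
      rw [eq_bot_iff]
      rintro _ ⟨v, hv, rfl⟩
      have h1 : π b * π v * (π b)⁻¹ * (π v)⁻¹ ∈ Q := by
        have hbQ : π b ∈ Q := hTQ ⟨b, hbT, rfl⟩
        rw [show π b * π v * (π b)⁻¹ * (π v)⁻¹ = π b * (π v * (π b)⁻¹ * (π v)⁻¹) by group]
        exact mul_mem hbQ (Subgroup.Normal.conj_mem inferInstance _ (inv_mem hbQ) _)
      rw [hinvbar v hv, ← mul_inv_rev] at h1
      refine mem_bot.2 (hsq v hv ?_)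
      have h2 : π (v * v) ∈ Q := by rw [map_mul]; exact inv_mem_iff.1 h1
      have h3 : orderOf (π (v * v)) ∣ Nat.card B := (orderOf_map_dvd π (v * v)).trans (by
        rw [← Subgroup.orderOf_mk (v * v) (mul_mem hv hv)]; exact orderOf_dvd_natCard _)
      have h4 : orderOf (π (v * v)) ∣ 2 ^ 2 := by
        rw [show (2 : ℕ) ^ 2 = 4 from rfl, ← hTbar, ← Subgroup.orderOf_mk _ (hQT h2)]
        exact orderOf_dvd_natCard _
      rw [← map_mul]
      exact orderOf_eq_one_iff.1 (Nat.eq_one_of_dvd_coprimes ((Nat.coprime_two_right.2 hBodd).pow_right 2) h3 h4)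
    rw [hbot]
    infer_instance
  rcases GW.abelian_sylow_solvable_centralizers GW.Dihedral.gwStatement_holds T hTc hsol with h | ⟨F, i1, i2, hq, N, hN, ⟨φ⟩, -⟩
  · haveI := h
    exact hs (Group.isSolvable_of_surjective (f := π) (QuotientGroup.mk'_surjective _))
  haveI := hN
  have h4N : 4 ∣ Nat.card N := by
    rw [Nat.card_congr φ.toEquiv]
    rcases hq with ⟨hq, -⟩ | ⟨n, hn, hq⟩
    · exact Core2.RankTwo.four_dvd_psl (Nat.odd_iff.2 (by omega))
    · rw [GW.HallNumbers.card_psl_two_pow (by rw [hq]; exact (Nat.even_pow).2 ⟨even_two, by omega⟩), hq]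
      exact dvd_mul_of_dvd_left (by rw [show (4 : ℕ) = 2 ^ 2 from rfl]; exact Nat.pow_dvd_pow 2 hn) _
  have hind : Odd N.index := by
    rw [Nat.odd_iff, ← Nat.two_dvd_ne_zero]
    intro h2
    refine Tb.not_dvd_index ?_
    obtain ⟨c, hc⟩ := h4N
    obtain ⟨d, hd⟩ := h2
    refine ⟨c * d, Nat.eq_of_mul_eq_mul_left (by norm_num : 0 < 4) ?_⟩
    rw [show 4 * (Tb : Subgroup (Y ⧸ Cfsg.oddCore Y)).index = Nat.card (Y ⧸ Cfsg.oddCore Y) by
      rw [← hTbar]; exact Subgroup.card_mul_index _, ← N.card_mul_index, hc, hd]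
    ring
  have hinN : ∀ t : Y ⧸ Cfsg.oddCore Y, t * t = 1 → t ∈ N := fun t h2 => by
    rw [← QuotientGroup.eq_one_iff]
    refine orderOf_eq_one_iff.1 (Nat.eq_one_of_dvd_coprimes (Nat.coprime_two_left.2 hind)
      (orderOf_dvd_of_pow_eq_one ?_) ?_)
    · rw [← QuotientGroup.mk_pow, pow_two, h2, QuotientGroup.mk_one]
    · rw [N.index_eq_card]; exact orderOf_dvd_natCard _
  have haa : π a * π a = 1 := by rw [← map_mul, ← pow_two, ← ha, pow_orderOf_eq_one, map_one]
  have hbb : π b * π b = 1 := by rw [← map_mul, ← pow_two, ← hb, pow_orderOf_eq_one, map_one]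
  have ha1 : π a ≠ 1 := fun h => by
    have h1 := Nat.eq_one_of_dvd_coprimes (Grp.pPrimeCore_coprime (G := Y) (p := 2))
      (Subgroup.orderOf_mk a ((QuotientGroup.eq_one_iff a).1 h) ▸
        orderOf_dvd_natCard (⟨a, (QuotientGroup.eq_one_iff a).1 h⟩ : ↥(Cfsg.oddCore Y))) (dvd_of_eq ha)
    omega
  have hBN : B.map π ≤ N := by
    rintro _ ⟨v, hv, rfl⟩
    have h1 : π b * π v * (π b)⁻¹ * (π v)⁻¹ ∈ N := by
      have hbN := hinN _ hbb
      rw [show π b * π v * (π b)⁻¹ * (π v)⁻¹ = π b * (π v * (π b)⁻¹ * (π v)⁻¹) by group]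
      exact mul_mem hbN (hN.conj_mem _ (inv_mem hbN) _)
    rw [hinvbar v hv, ← mul_inv_rev, inv_mem_iff, ← pow_two] at h1
    obtain ⟨j, hj⟩ := hBodd
    have h2 : π v = (π v ^ 2) ^ (j + 1) := by
      rw [← pow_mul, show 2 * (j + 1) = Nat.card B + 1 by omega, pow_succ, ← map_pow,
        show v ^ Nat.card B = 1 from congrArg Subtype.val (pow_card_eq_one' (x := (⟨v, hv⟩ : ↥B))), map_one, one_mul]
    rw [h2]
    exact pow_mem h1 _
  set C := ((B.map π).subgroupOf N).map φ.toMonoidHom with hC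
  have hCcard : Nat.card C = Nat.card (B.map π) := by
    rw [hC, Subgroup.card_map_of_injective φ.injective, Nat.card_congr (subgroupOfEquivOfLe hBN).toEquiv]
  have hcC : IsCyclic C := by
    refine psl_odd_cyclic (g := φ ⟨π a, hinN _ haa⟩) ?_ ?_ C (hCcard ▸ hBbar) ?_
    · exact fun h => ha1 (congrArg Subtype.val (φ.injective (h.trans (map_one φ).symm)))
    · rw [← map_mul, ← map_one φ]
      exact congrArg φ (Subtype.ext haa)
    · rintro _ ⟨⟨w, hw⟩, hwB, rfl⟩
      obtain ⟨v, hv, hvw⟩ := mem_subgroupOf.1 hwB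
      rw [mem_centralizer_singleton_iff]
      show φ ⟨w, hw⟩ * φ _ = φ _ * φ ⟨w, hw⟩
      rw [← map_mul, ← map_mul]
      refine congrArg φ (Subtype.ext ?_)
      show w * π a = π a * w
      rw [show w = π v from hvw.symm, ← map_mul, ← map_mul, mem_centralizer_singleton_iff.1 (hBa hv)]
  refine hcyc ?_
  haveI := hcC
  exact isCyclic_of_surjective
    ((subgroupOfEquivOfLe hBN).toMonoidHom.comp (((B.map π).subgroupOf N).equivMapOfInjective φ.toMonoidHom φ.injective).symm.toMonoidHom)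
    ((subgroupOfEquivOfLe hBN).surjective.comp (MulEquiv.surjective _))

end Cfsg.Agent.Invol.G1Local
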