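import Cfsg.Agent.Lib.Invol.G1Local.Part
import Cfsg.Agent.Lib.Invol.G1Local.Clifford
import Cfsg.Agent.Lib.Invol.G1Local.Torus

/-!
# The exponent is five

For exponent `r ≠ 5`, `r ≢ 1 (mod 5)`, the fixed points of `x` on `K_t` are non-cyclic by the five operators, so by
the four-group theorem they meet `O(C x)`; then two elements of different cores commute.
-/

set_option autoImplicit false
set_option linter.unusedSectionVars false
set_option linter.style.haveILetI false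

open Subgroup
open scoped IsMulCommutative

namespace Cfsg.Agent.Invol.G1Local

open Transfer.UnitaryFour CentRank

universe u

/-- Evaluating the polynomial of `five_units` at an eigenvector. -/
theorem poly_apply {M : Type*} [AddCommGroup M] (P : AddMonoid.End M) (g : M) (n : ℤ) (hg : P g = n • g)
    (hP : P ^ 4 - 4 * P ^ 3 + 16 * P ^ 2 - 64 * P + 256 = 0) :
    (n ^ 4 - 4 * n ^ 3 + 16 * n ^ 2 - 64 * n + 256) • g = 0 := by
  have hpow : ∀ k : ℕ, (P ^ k) g = n ^ k • g := fun k => by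
    induction k with
    | zero => simp
    | succ k ih =>
      rw [pow_succ' P]
      show P ((P ^ k) g) = _
      rw [ih, map_zsmul, hg, smul_smul, pow_succ]
  have e := DFunLike.congr_fun hP g
  have hc : ∀ (c : ℕ) (Q : AddMonoid.End M), ((c : AddMonoid.End M) * Q) g = (c : ℤ) • Q g := fun c Q => by
    show (c : AddMonoid.End M) (Q g) = _
    simp
  have e3 := hc 4 (P ^ 3)
  have e2 := hc 16 (P ^ 2)
  have e1 := hc 64 P
  have e0 : (256 : AddMonoid.End M) g = (256 : ℤ) • g := by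
    have := hc 256 1
    simpa using this
  simp only [Nat.cast_ofNat] at e3 e2 e1
  change (P ^ 4) g - ((4 : AddMonoid.End M) * P ^ 3) g + ((16 : AddMonoid.End M) * P ^ 2) g -
    ((64 : AddMonoid.End M) * P) g + (256 : AddMonoid.End M) g = 0 at e
  rw [e3, e2, e1, e0, hpow, hpow, hpow, hg, smul_smul, smul_smul, smul_smul] at e
  rw [← e]
  module

/-- The polynomial has roots only modulo two, five and primes `≡ 1 (mod 5)`. -/
theorem no_root {r : ℕ} (hr : r.Prime) (h2 : r ≠ 2) (h5 : r ≠ 5) (h1 : r % 5 ≠ 1) (n : ℤ)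
    (hn : (r : ℤ) ∣ n ^ 4 - 4 * n ^ 3 + 16 * n ^ 2 - 64 * n + 256) : False := by
  haveI := Fact.mk hr
  have he := (ZMod.intCast_zmod_eq_zero_iff_dvd _ r).2 hn
  push_cast at he
  set a : ZMod r := (n : ZMod r)
  have h4 : ((4 : ℕ) : ZMod r) ≠ 0 := fun e => h2 ((Nat.prime_dvd_prime_iff_eq hr Nat.prime_two).1
    (hr.dvd_of_dvd_pow (show r ∣ 2 ^ 2 from (ZMod.natCast_eq_zero_iff _ _).1 e)))
  push_cast at h4
  set m : ZMod r := -a / 4 with hm
  have ha : a = -4 * m := by rw [hm]; field_simp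
  rw [ha] at he
  have hm' : m ^ 4 + m ^ 3 + m ^ 2 + m + 1 = 0 := by
    have : (256 : ZMod r) * (m ^ 4 + m ^ 3 + m ^ 2 + m + 1) = 0 := by linear_combination he
    refine (mul_eq_zero.1 this).resolve_left ?_
    rw [show (256 : ZMod r) = 4 ^ 4 by norm_num]
    exact pow_ne_zero 4 h4
  have hm5 : m ^ 5 = 1 := by linear_combination (m - 1) * hm'
  have hm1 : m ≠ 1 := fun e => by
    rw [e] at hm'
    norm_num at hm'
    exact h5 ((Nat.prime_dvd_prime_iff_eq hr Nat.prime_five).1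
      ((ZMod.natCast_eq_zero_iff 5 r).1 (by exact_mod_cast hm')))
  have hm0 : m ≠ 0 := fun e => by rw [e] at hm5; norm_num at hm5
  haveI : Fact (Nat.Prime 5) := ⟨Nat.prime_five⟩
  have ho : orderOf m = 5 := orderOf_eq_prime hm5 hm1
  have hd := ZMod.orderOf_dvd_card_sub_one hm0
  rw [ho] at hd
  have := hr.two_le
  omega

variable {G : Type u} [Group G] [Finite G] {S : Sylow 2 G}

namespace Ab

variable {r : ℕ} (h : Ab S r)
include h

/-- The fixed points of `x` on a core are not cyclic. -/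
theorem fixed_not_cyclic [IsSimpleGroup G] (hr5 : r ≠ 5) {x : G} (hx : Five S x) {t : G} (ht : t ∈ cen S)
    (ht1 : t ≠ 1) : ¬ IsCyclic ↥(core t ⊓ centralizer ({x} : Set G)) := by
  intro hcyc
  haveI := h.isMulCommutative_core ht ht1
  set U := core t ⊓ centralizer ({x} : Set G)
  obtain ⟨y, hyK, hy1, hxy⟩ := h.exists_fixed hx ht ht1
  obtain ⟨⟨g, hgU⟩, hg⟩ := hcyc.exists_generator
  have hgen : ∀ z ∈ U, ∃ n : ℤ, g ^ n = z := fun z hz => by
    obtain ⟨n, hn⟩ := mem_zpowers_iff.1 (hg ⟨z, hz⟩)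
    exact ⟨n, congrArg Subtype.val hn⟩
  have hg1 : g ≠ 1 := fun e => by
    obtain ⟨n, hn⟩ := hgen y ⟨hyK, mem_centralizer_singleton_iff.2 hxy.symm.eq⟩
    exact hy1 (by rw [← hn, e, one_zpow])
  obtain ⟨V, X, hsq, hac, hXV, -, hXfix⟩ := h.exists_operators hx ht ht1
  obtain ⟨hP, hpoly⟩ := five_units V hsq hac
  set P := (V 0 - V 1) * (V 1 - V 2) * (V 2 - V 3) * (V 3 - V 4)
  have hXP : X * P = P * X := by
    have hd : ∀ i j : Fin 5, X * (V i - V j) = (V (i + 1) - V (j + 1)) * X := fun i j => by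
      rw [mul_sub, sub_mul, hXV, hXV]
    conv_rhs => rw [hP]
    calc X * P = (X * (V 0 - V 1)) * ((V 1 - V 2) * (V 2 - V 3) * (V 3 - V 4)) := by
          simp only [P, mul_assoc]
      _ = (V 1 - V 2) * (X * (V 1 - V 2)) * ((V 2 - V 3) * (V 3 - V 4)) := by
          rw [hd]; simp only [mul_assoc]; rfl
      _ = (V 1 - V 2) * (V 2 - V 3) * (X * (V 2 - V 3)) * (V 3 - V 4) := by
          rw [hd]; simp only [mul_assoc]; rfl
      _ = (V 1 - V 2) * (V 2 - V 3) * (V 3 - V 4) * (X * (V 3 - V 4)) := by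
          rw [hd]; simp only [mul_assoc]; rfl
      _ = _ := by rw [hd]; simp only [mul_assoc]; rfl
  set gA : Additive (core t) := Additive.ofMul ⟨g, hgU.1⟩
  have hXg : X gA = gA := (hXfix gA).2 (show Commute g x from mem_centralizer_singleton_iff.1 hgU.2).symm
  have hXPg : X (P gA) = P gA := by
    have e := DFunLike.congr_fun hXP gA
    show (X * P) gA = _
    rw [e]
    show P (X gA) = _
    rw [hXg]
  obtain ⟨n, hn⟩ := hgen _ (⟨((P gA).toMul).2, mem_centralizer_singleton_iff.2 ((hXfix _).1 hXPg).symm.eq⟩ : _ ∈ U)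
  have hPg : P gA = n • gA := Additive.toMul.injective (Subtype.ext (by
    rw [toMul_zsmul, Subgroup.coe_zpow]
    exact hn.symm))
  have h0 := congrArg (fun m : Additive (core t) => (m.toMul : G)) (poly_apply P gA n hPg hpoly)
  simp only [toMul_zsmul, Subgroup.coe_zpow, toMul_zero, OneMemClass.coe_one] at h0
  have hdvd := orderOf_dvd_iff_zpow_eq_one.2 (show g ^ (n ^ 4 - 4 * n ^ 3 + 16 * n ^ 2 - 64 * n + 256) = 1 from h0)
  haveI := Fact.mk h.prime
  rw [orderOf_eq_prime (h.exp t ht ht1 g hgU.1) hg1] at hdvd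
  exact no_root h.prime h.prime_ne_two hr5 (h.mod_five_ne_one hx) n hdvd

/-- The exponent is five. -/
theorem false_of_ne_five [IsSimpleGroup G] (hna : ¬ IsMulCommutative G) (hr5 : r ≠ 5) {x : G} (hx : Five S x) :
    False := by
  classical
  haveI : Fact (Nat.Prime 2) := ⟨Nat.prime_two⟩
  haveI : Fact (Nat.Prime 5) := ⟨Nat.prime_five⟩
  haveI := Fact.mk h.prime
  obtain ⟨t, ht, ht1, -⟩ := h.toCtx.exists_other (one_mem (cen S))
  obtain ⟨a, ha, ha1, hat⟩ := h.toCtx.exists_other ht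
  set A' := centralizer (cen S : Set G)
  set Y := centralizer ({x} : Set G)
  have hAY : cen S ≤ Y := fun v hv => mem_centralizer_singleton_iff.2 (mem_centralizer_iff.1 hx.mem v hv)
  have hYx : ∀ y ∈ Y, Commute y x := fun y hy => mem_centralizer_singleton_iff.1 hy
  -- `A` is a Sylow subgroup of `C(x)`
  obtain ⟨T, hT⟩ := ((S.2.to_le (cen_le (S := S))).comap_subtype (K := Y)).exists_le_sylow
  have hTA : (T : Subgroup Y).map Y.subtype = cen S := by
    set T' := (T : Subgroup Y).map Y.subtype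
    have hle : cen S ≤ T' := fun p hp => ⟨⟨p, hAY hp⟩, hT hp, rfl⟩
    by_contra hne
    obtain ⟨j, hjT, hjA, hjN⟩ := Core2.exists_normalizing (T.isPGroup'.map _) (lt_of_le_of_ne hle (Ne.symm hne))
    have hjn := h.toCtx.mem_normalizer ht ha ht1 ha1 hat (cen_le ((mem_normalizer_iff.1 hjN t).1 ht))
      (cen_le ((mem_normalizer_iff.1 hjN a).1 ha))
    have hjS : j ∈ (S : Subgroup G) := S.is_maximal' (((T.isPGroup'.map _).to_le
      (zpowers_le.2 hjT)).to_sup_of_normal_right' S.isPGroup' (zpowers_le.2 hjn)) le_sup_right ▸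
        mem_sup_left (mem_zpowers _)
    refine hjA (hx.fpf j hjS ?_)
    rw [← (hYx j (map_subtype_le _ hjT)).eq, mul_inv_cancel_right, mul_inv_cancel]
    exact one_mem _
  have hTmem : ∀ y : Y, y ∈ (T : Subgroup Y) ↔ (y : G) ∈ cen S := fun y => by
    rw [← hTA]
    exact ⟨fun hy => ⟨y, hy, rfl⟩, fun ⟨z, hz, e⟩ => Subtype.ext e ▸ hz⟩
  have hT4 : Nat.card (T : Subgroup Y) = 4 := by
    rw [← card_map_of_injective (f := Y.subtype) Y.subtype_injective, hTA, h.toCtx.card_cen]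
  set tY : Y := ⟨t, hAY ht⟩
  set aY : Y := ⟨a, hAY ha⟩
  have hsol : ∀ v : Y, orderOf v = 2 → Group.IsSolvable ↥(centralizer ({v} : Set Y)) := by
    intro v hv
    obtain ⟨g, hg⟩ := Invol.exists_conj_mem_sylow (x := v) (n := 1) (by rw [hv, pow_one]) T
    have hw := (hTmem _).1 hg
    have hw1 : ((g * v * g⁻¹ : Y) : G) ≠ 1 := fun e => by
      have : v = 1 := conj_eq_one_iff.1 (Subtype.ext e : g * v * g⁻¹ = 1)
      rw [this, orderOf_one] at hv
      omega
    haveI := h.solvable_centralizer hw hw1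
    refine solvable_of_solvable_injective (f := MonoidHom.mk' (fun c : ↥(centralizer ({v} : Set Y)) =>
      (⟨(g : G) * (c : Y) * (g : G)⁻¹, mem_centralizer_singleton_iff.2 ?_⟩ :
        ↥(centralizer ({((g * v * g⁻¹ : Y) : G)} : Set G)))) fun c d => Subtype.ext (by simp [mul_assoc])) ?_
    · have e : Commute ((c : Y) : G) (v : G) :=
        (show Commute (c : Y) v from mem_centralizer_singleton_iff.1 c.2).map Y.subtype
      simpa using (e.map (MulAut.conj (g : G)).toMonoidHom).eq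
    · intro c d e
      exact Subtype.ext (Subtype.ext (mul_left_cancel (mul_right_cancel (congrArg Subtype.val e))))
  set B := (core t ⊓ Y).subgroupOf Y
  have hBcard : Nat.card B = Nat.card ↥(core t ⊓ Y) := Nat.card_congr (subgroupOfEquivOfLe inf_le_right).toEquiv
  obtain ⟨u, huB, hu1, huO⟩ := exists_mem_oddCore T (a := tY) (b := aY) hT4 ((hTmem _).2 ht) ((hTmem _).2 ha)
    (by rw [Subgroup.orderOf_mk, h.toCtx.orderOf_cen ht ht1]) (by rw [Subgroup.orderOf_mk, h.toCtx.orderOf_cen ha ha1])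
    (fun e => hat (congrArg Subtype.val e).symm) hsol B
    (by rw [hBcard]; exact (centralizerCore_odd t).of_dvd_nat (card_dvd_of_le inf_le_left))
    (fun v hv => mem_centralizer_singleton_iff.2 (Subtype.ext (h.core_commute hv.1).eq))
    (fun v hv => Subtype.ext (h.inverted ht ha ht1 ha1 hat hv.1))
    (fun hc => h.fixed_not_cyclic hr5 hx ht ht1 ((subgroupOfEquivOfLe inf_le_right).isCyclic.1 hc))
  set J := (Cfsg.pPrimeCore 2 Y).map Y.subtype
  have hJY : J ≤ Y := map_subtype_le _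
  have hJo : Odd (Nat.card J) := by rw [card_map_of_injective Y.subtype_injective]; exact oddCore_odd
  have hJn : ∀ y ∈ Y, ∀ z ∈ J, y * z * y⁻¹ ∈ J := by
    rintro y hy _ ⟨z, hz, rfl⟩
    exact ⟨_, (Grp.pPrimeCore_isNormal (p := 2)).conj_mem z hz ⟨y, hy⟩, rfl⟩
  have huJ : (u : G) ∈ J := ⟨u, huO, rfl⟩
  -- an element of `N(⟨x⟩)` moving `t` to `a`
  obtain ⟨n, hn, hnt, hna', -⟩ := h.toCtx.exists_cycle h.moving ht ht1 ha ha1 hat
  set x' := n * x * n⁻¹ with hx'
  have hx'A : x' ∈ A' := mem_centralizer_iff.2 fun v hv => by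
    have hv' := Hyp.cen_normal (inv_mem hn) hv
    rw [inv_inv] at hv'
    have e := mem_centralizer_iff.1 hx.mem _ hv'
    calc v * x' = n * (n⁻¹ * v * n * x) * n⁻¹ := by rw [hx']; group
      _ = n * (x * (n⁻¹ * v * n)) * n⁻¹ := by rw [e]
      _ = x' * v := by rw [hx']; group
  have hsyl : ∀ y ∈ A', orderOf y = 5 → Grp.IsSylowIn 5 (zpowers y) A' := fun y hy ho =>
    ⟨zpowers_le.2 hy, IsPGroup.of_card (n := 1) (by rw [Nat.card_zpowers, ho, pow_one]), fun hd => by
      have e := ((zpowers y).subgroupOf A').card_mul_index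
      rw [Nat.card_congr (subgroupOfEquivOfLe (zpowers_le.2 hy)).toEquiv, Nat.card_zpowers, ho] at e
      obtain ⟨q, hq⟩ := (h.card_cent_cen_dvd hx)
      rw [← e, mul_assoc] at hq
      have h64 : 5 ∣ 64 := by
        refine hd.trans ⟨q, ?_⟩
        exact Nat.eq_of_mul_eq_mul_left (by norm_num : 0 < 5) hq
      norm_num at h64⟩
  obtain ⟨c, hc, hcx⟩ := (hsyl x' hx'A (by rw [hx', Invol.orderOf_conj_eq, hx.order])).conj (hsyl x hx.mem hx.order)
  set m := c * n with hm
  have hcfix : ∀ v ∈ cen S, c * v * c⁻¹ = v := fun v hv => by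
    rw [← mem_centralizer_iff.1 hc v hv, mul_inv_cancel_right]
  have hmt : m * t * m⁻¹ = a := by
    rw [hm, show c * n * t * (c * n)⁻¹ = c * (n * t * n⁻¹) * c⁻¹ by group, hnt, hcfix a ha]
  have hmx : m * x * m⁻¹ ∈ zpowers x := hcx ▸ ⟨x', mem_zpowers _, by
    show c * x' * c⁻¹ = _
    rw [hm, hx']; group⟩
  have hmx' : x ∈ zpowers (m * x * m⁻¹) := by
    have ho : orderOf (m * x * m⁻¹) = 5 := by rw [Invol.orderOf_conj_eq, hx.order]
    rw [eq_of_le_of_card_ge (zpowers_le.2 hmx) (by rw [Nat.card_zpowers, Nat.card_zpowers, ho, hx.order])]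
    exact mem_zpowers x
  have hmY : ∀ y ∈ Y, m * y * m⁻¹ ∈ Y := fun y hy => by
    obtain ⟨i, hi⟩ := mem_zpowers_iff.1 hmx'
    refine mem_centralizer_singleton_iff.2 ?_
    have e := ((hYx y hy).map (MulAut.conj m).toMonoidHom).zpow_right i
    simp only [MulEquiv.coe_toMonoidHom, MulAut.conj_apply] at e
    rw [hi] at e
    exact e.eq
  have hmJ : m * (u : G) * m⁻¹ ∈ J := by
    set J' := J.map (MulAut.conj m).toMonoidHom
    have hJ'Y : J' ≤ Y := by
      rintro _ ⟨z, hz, rfl⟩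
      exact hmY z (hJY hz)
    have hYm : ∀ y ∈ Y, m⁻¹ * y * m ∈ Y := fun y hy => by
      have hmap : Y.map (MulAut.conj m).toMonoidHom = Y := eq_of_le_of_card_ge
        (by rintro _ ⟨z, hz, rfl⟩; exact hmY z hz) (card_map_of_injective (MulAut.conj m).injective).ge
      rw [← hmap, Invol.mem_map_conj] at hy
      exact hy
    have hn' : (J'.subgroupOf Y).Normal := ⟨fun z hz y => by
      rw [mem_subgroupOf, Invol.mem_map_conj] at hz ⊢
      have := hJn _ (hYm y y.2) _ hz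
      simpa [mul_assoc] using this⟩
    have hle := Grp.le_pPrimeCore (p := 2) hn' (by
      rw [Nat.card_congr (subgroupOfEquivOfLe hJ'Y).toEquiv, card_map_of_injective (MulAut.conj m).injective]
      exact Nat.coprime_two_right.2 hJo)
    exact ⟨⟨_, hmY u u.2⟩, hle (mem_subgroupOf.2 ⟨u, huJ, rfl⟩), rfl⟩
  set v := m * (u : G) * m⁻¹ with hvdef
  have huK : (u : G) ∈ core t := huB.1
  have hvK : v ∈ core a := hmt ▸ core_conj_mem huK
  have hu1' : (u : G) ≠ 1 := fun e => hu1 (Subtype.ext e)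
  have hv1 : v ≠ 1 := fun e => hu1' (conj_eq_one_iff.1 e)
  -- an `A`-invariant Sylow `r`-subgroup of `J` contains both
  have hAJ : cen S ≤ normalizer (J : Set G) := fun w hw => mem_normalizer_iff.2 fun z =>
    ⟨hJn w (hAY hw) z, fun hz => by simpa [mul_assoc] using hJn w⁻¹ (inv_mem (hAY hw)) _ hz⟩
  have hcop : (Nat.card (cen S)).Coprime (Nat.card J) := by
    rw [h.toCtx.card_cen, show (4 : ℕ) = 2 ^ 2 by norm_num]
    exact Nat.Coprime.pow_left 2 (Nat.coprime_two_left.2 hJo)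
  have hsolv : Group.IsSolvable ↥(cen S) ∨ Group.IsSolvable J := by
    haveI : Group.IsNilpotent ↥(cen S) := (S.2.to_le cen_le).isNilpotent
    exact Or.inl inferInstance
  have hinvA : ∀ w v₀ : G, v₀ ∈ cen S → v₀ ≠ 1 → w ∈ core v₀ → cen S ≤ normalizer (zpowers w : Set G) := by
    intro w v₀ hv₀ hv₀1 hw
    have hgen : ∀ b ∈ cen S, ∀ y ∈ zpowers w, b * y * b⁻¹ ∈ zpowers w := by
      rintro b hb _ ⟨i, rfl⟩
      have e : b * w * b⁻¹ = w ∨ b * w * b⁻¹ = w⁻¹ := by
        by_cases hb1 : b = 1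
        · subst hb1; exact Or.inl (by group)
        by_cases hbv : b = v₀
        · subst hbv; exact Or.inl (by rw [← (h.core_commute hw).eq, mul_inv_cancel_right])
        exact Or.inr (h.inverted hv₀ hb hv₀1 hb1 hbv hw)
      simp only
      rw [← conj_zpow]
      rcases e with e | e <;> rw [e]
      · exact zpow_mem (mem_zpowers w) i
      · exact zpow_mem (inv_mem (mem_zpowers w)) i
    exact fun b hb => mem_normalizer_iff.2 fun y => ⟨hgen b hb y, fun hy => by
      simpa [mul_assoc] using hgen b⁻¹ (inv_mem hb) _ hy⟩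
  obtain ⟨Q, hQ, hQA, huQ⟩ := Grp.exists_invariant_sylow_ge (cen S) J hAJ hcop hsolv (zpowers_le.2 huJ)
    ((h.isPGroup_core ht ht1).to_le (zpowers_le.2 huK)) (hinvA _ t ht ht1 huK)
  obtain ⟨Q', hQ', hQ'A, hvQ⟩ := Grp.exists_invariant_sylow_ge (cen S) J hAJ hcop hsolv (zpowers_le.2 hmJ)
    ((h.isPGroup_core ha ha1).to_le (zpowers_le.2 hvK)) (hinvA _ a ha ha1 hvK)
  obtain ⟨d, ⟨hdJ, hdA⟩, hd⟩ := Grp.invariant_sylow_conj (cen S) J hAJ hcop hsolv hQ hQ' hQA hQ'A
  have hdJc : ∀ y ∈ J, d * y * d⁻¹ = y := by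
    obtain ⟨s, hs, i, e⟩ := hx.split d hdA
    have hdx : Commute d x := hYx d (hJY hdJ)
    have hsx : Commute s x := by
      have := hdx.mul_left ((Commute.refl x).pow_left i).inv_left
      rwa [e, mul_inv_cancel_right] at this
    have hs1 : s = 1 := by
      refine eq_one_of_odd hs ?_
      have e5 : d ^ 5 = s := by
        rw [e, (hsx.pow_right i).mul_pow, ← pow_mul, mul_comm, pow_mul, show x ^ 5 = 1 from
          hx.order ▸ pow_orderOf_eq_one x, one_pow, mul_one]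
        have hsA : s ∈ cen S := hx.fpf s hs (by
          rw [← hsx.eq, mul_inv_cancel_right, mul_inv_cancel]; exact one_mem _)
        rw [show s ^ 5 = (s * s) * (s * s) * s by simp [pow_succ, mul_assoc], h.toCtx.cen_sq hsA, one_mul, one_mul]
      rw [← e5]
      exact (hJo.of_dvd_nat (Subgroup.orderOf_dvd_natCard _ hdJ)).of_dvd_nat (orderOf_pow_dvd 5)
    intro y hy
    rw [e, hs1, one_mul, ((hYx y (hJY hy)).pow_right i).symm.eq, mul_inv_cancel_right]
  have hQQ : Q' = Q := by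
    rw [← hd]
    ext y
    rw [← Grp.map_conj_eq_smul, Invol.mem_map_conj]
    constructor
    · intro hy
      have := hdJc _ (hQ.1 hy)
      rw [show d * (d⁻¹ * y * d) * d⁻¹ = y by group] at this
      rwa [← this] at hy
    · intro hy
      have := hdJc _ (hQ.1 hy)
      rwa [show d⁻¹ * y * d = d⁻¹ * (d * y * d⁻¹) * d by rw [this], show d⁻¹ * (d * y * d⁻¹) * d = y by group]
  rw [hQQ] at hvQ
  -- the centre of `Q`
  have hQne : Q ≠ ⊥ := fun e => hu1' (mem_bot.1 (e ▸ huQ (mem_zpowers _)))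
  haveI : Nontrivial Q := (Subgroup.nontrivial_iff_ne_bot _).2 hQne
  haveI : Nontrivial (center Q) := hQ.2.1.center_nontrivial
  set Z := (center Q).map Q.subtype
  have hZQ : Z ≤ Q := map_subtype_le _
  have hZc : ∀ z ∈ Z, ∀ y ∈ Q, Commute z y := by
    rintro _ ⟨z, hz, rfl⟩ y hy
    exact (congrArg Subtype.val (mem_center_iff.1 hz ⟨y, hy⟩)).symm
  have hZn : ∀ b ∈ cen S, ∀ z ∈ Z, b * z * b⁻¹ ∈ Z := by
    intro b hb z hz
    have hmem : b * z * b⁻¹ ∈ Q := (mem_normalizer_iff.1 (hQA hb) z).1 (hZQ hz)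
    refine ⟨⟨_, hmem⟩, mem_center_iff.2 fun y => Subtype.ext ?_, rfl⟩
    have hy' : b⁻¹ * y * b ∈ Q := (mem_normalizer_iff''.1 (hQA hb) y).1 y.2
    show (y : G) * (b * z * b⁻¹) = b * z * b⁻¹ * y
    calc (y : G) * (b * z * b⁻¹) = b * ((b⁻¹ * y * b) * z) * b⁻¹ := by group
      _ = b * (z * (b⁻¹ * y * b)) * b⁻¹ := by rw [(hZc z hz _ hy').eq]
      _ = b * z * b⁻¹ * y := by group
  have hAZ : ∀ b ∈ cen S, b ∈ normalizer (Z : Set G) := fun b hb => mem_normalizer_iff.2 fun z =>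
    ⟨hZn b hb z, fun hz => by simpa [mul_assoc] using hZn b⁻¹ (inv_mem hb) _ hz⟩
  have hZ0 : ∀ w ∈ cen S, w ≠ 1 → Z ⊓ centralizer ({w} : Set G) ≤ ⊥ := by
    intro w hw hw1 z hz
    refine mem_bot.2 (by_contra fun hz1 => ?_)
    obtain ⟨k, hk⟩ := hQ.2.1 ⟨z, hZQ hz.1⟩
    have hzK := h.mem_core_of_rpow hr5 hw hw1 hz.2 (congrArg Subtype.val hk)
    by_cases hwt : w = t
    · subst hwt
      exact h.no_commute hna hr5 hw hw1 ha ha1 hat hzK hz1 hvK hv1 (hZc z hz.1 v (hvQ (mem_zpowers v)))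
    · exact h.no_commute hna hr5 hw hw1 ht ht1 (Ne.symm hwt) hzK hz1 huK hu1' (hZc z hz.1 _ (huQ (mem_zpowers _)))
  have hZbot : Z = ⊥ := le_bot_iff.1 (Core2.le_of_four (hJo.of_dvd_nat (card_dvd_of_le (hZQ.trans hQ.1)))
    (h.toCtx.orderOf_cen ht ht1) (h.toCtx.orderOf_cen ha ha1) hat (comm_of_cen ha (cen_le ht)) (hAZ t ht) (hAZ a ha)
    (hZ0 t ht ht1) (hZ0 a ha ha1) (hZ0 _ (mul_mem ha ht) fun e => hat (by
      rw [eq_inv_of_mul_eq_one_left e, h.toCtx.cen_inv ht])))
  exact (Subgroup.nontrivial_iff_ne_bot _).1 (inferInstance : Nontrivial (center Q))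
    ((map_eq_bot_iff_of_injective _ Q.subtype_injective).1 hZbot)

end Ab

end Cfsg.Agent.Invol.G1Local
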