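import Cfsg.Agent.Lib.Invol.G1Local.Free

/-!
# Centralisers of elements of the cores

For `u ≠ 1` in `K_t` the centraliser has cyclic Sylow 2-subgroup, so a normal odd complement; an `r`-group
normalised by `A` and containing `K_t` is `K_t`, and elements of different cores do not commute (`r ≠ 5`).
-/

set_option autoImplicit false
set_option linter.unusedSectionVars false
set_option linter.style.haveILetI false

open Subgroup

namespace Cfsg.Agent.Invol.G1Local

open Transfer.UnitaryFour CentRank Transfer.UFLyons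

universe u

variable {G : Type u} [Group G] [Finite G] {S : Sylow 2 G}

namespace Ab

variable {r : ℕ} (h : Ab S r)
include h

/-- A 2-subgroup of `C(t)` is conjugate into `S` by an element of `K_t`. -/
theorem two_subgroup_conj {t : G} (ht : t ∈ cen S) (ht1 : t ≠ 1) {P : Subgroup G} (hP : IsPGroup 2 P)
    (hPt : P ≤ centralizer ({t} : Set G)) : ∃ k ∈ core t, ∀ p ∈ P, k⁻¹ * p * k ∈ (S : Subgroup G) := by
  haveI : Fact (Nat.Prime 2) := ⟨Nat.prime_two⟩
  set C := centralizer ({t} : Set G)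
  obtain ⟨T, hT⟩ := (hP.comap_subtype (K := C)).exists_le_sylow
  obtain ⟨g, hg⟩ := MulAction.exists_smul_eq C T (S.subtype (Hyp.le_cent ht))
  obtain ⟨k, hk, d, hd, e⟩ := h.toCtx.cover ht ht1 (show ((g⁻¹ : C) : G) ∈ C from (g⁻¹).2)
  refine ⟨k, hk, fun p hp => ?_⟩
  have hmem : g * ⟨p, hPt hp⟩ * g⁻¹ ∈ ((S.subtype (Hyp.le_cent ht) : Sylow 2 C) : Subgroup C) := by
    rw [← hg, Sylow.coe_subgroup_smul]
    exact ⟨⟨p, hPt hp⟩, hT hp, rfl⟩
  have h1 : (g : G) * p * (g : G)⁻¹ ∈ (S : Subgroup G) := hmem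
  rw [Subgroup.coe_inv] at e
  rw [show (g : G) = d⁻¹ * k⁻¹ by rw [← mul_inv_rev, ← e, inv_inv]] at h1
  rw [show d⁻¹ * k⁻¹ * p * (d⁻¹ * k⁻¹)⁻¹ = d⁻¹ * (k⁻¹ * p * k) * d by group] at h1
  exact (mem_normalizer_iff''.1 (h.toCtx.centralizer_cen_le hd) _).2 h1

/-- An involution of `A` centralising a non-trivial element of `K_t` is `t`. -/
theorem eq_of_commute {t v u : G} (ht : t ∈ cen S) (ht1 : t ≠ 1) (hv : v ∈ cen S) (hv1 : v ≠ 1)
    (hu : u ∈ core t) (hu1 : u ≠ 1) (hc : Commute v u) : v = t := by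
  by_contra hvt
  exact hu1 (h.core_eq_one ht hu (h.toCtx.mem_centralizer_cen ht hv ht1 hv1 hvt (h.core_commute hu) hc.symm))

/-- For `u ≠ 1` in a core `C(u)` has cyclic Sylow 2-subgroups. -/
theorem exists_cyclic_sylow {t u : G} (ht : t ∈ cen S) (ht1 : t ≠ 1) (hu : u ∈ core t) (hu1 : u ≠ 1) :
    ∃ T : Sylow 2 ↥(centralizer ({u} : Set G)), IsCyclic ↥(T : Subgroup ↥(centralizer ({u} : Set G))) := by
  classical
  haveI : Fact (Nat.Prime 2) := ⟨Nat.prime_two⟩
  set C := centralizer ({u} : Set G)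
  set P₀ := (S : Subgroup G) ⊓ C
  have hP₀ : IsPGroup 2 P₀ := S.isPGroup'.to_le inf_le_left
  -- two elements of `C_S(u)` outside `A`
  have hout : ∀ s ∈ P₀, s ∉ cen S → s * s = t := fun s hs hsA => by
    have hs2 : s * s ≠ 1 := fun e => hsA (h.toCtx.mem_cen_of_sq hs.1 e)
    exact h.eq_of_commute ht ht1 (h.toCtx.sq_mem hs.1) hs2 hu hu1
      ((show Commute s u from mem_centralizer_singleton_iff.1 hs.2).mul_left (mem_centralizer_singleton_iff.1 hs.2))
  have hin : ∀ s ∈ P₀, s ∈ cen S → s = 1 ∨ s = t := fun s hs hsA => by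
    by_cases hs1 : s = 1
    · exact Or.inl hs1
    · exact Or.inr (h.eq_of_commute ht ht1 hsA hs1 hu hu1 (mem_centralizer_singleton_iff.1 hs.2))
  have htP : t ∈ P₀ := ⟨cen_le ht, mem_centralizer_singleton_iff.2 (h.core_commute hu).symm.eq⟩
  have hcyc : IsCyclic P₀ := by
    by_cases hall : ∀ s ∈ P₀, s ∈ cen S
    · refine ⟨⟨⟨t, htP⟩, fun q => ?_⟩⟩
      rcases hin q q.2 (hall q q.2) with e | e
      · exact ⟨0, Subtype.ext (by simpa using e.symm)⟩
      · exact ⟨1, Subtype.ext (by simpa using e.symm)⟩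
    push Not at hall
    obtain ⟨w, hwP, hwA⟩ := hall
    have hww := hout w hwP hwA
    refine ⟨⟨⟨w, hwP⟩, fun q => ?_⟩⟩
    by_cases hqA : (q : G) ∈ cen S
    · rcases hin q q.2 hqA with e | e
      · exact ⟨0, Subtype.ext (by simpa using e.symm)⟩
      · exact ⟨2, Subtype.ext (by simp [zpow_ofNat, pow_two, hww, e])⟩
    · have hwi : w⁻¹ = t * w := by
        refine inv_eq_of_mul_eq_one_right ?_
        rw [← mul_assoc, ← comm_of_cen ht hwP.1, mul_assoc, hww, h.toCtx.cen_sq ht]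
      by_cases hprod : w * (q : G) ∈ cen S
      · rcases hin _ (mul_mem hwP q.2) hprod with e | e
        · exact ⟨-1, Subtype.ext (by simpa using (eq_inv_of_mul_eq_one_right e).symm)⟩
        · refine ⟨1, Subtype.ext ?_⟩
          simp only [zpow_one]
          exact (mul_left_cancel (e.trans hww.symm)).symm
      · exfalso
        have hwC : (⟨w, hwP.1⟩ : (S : Subgroup G)) ∉ center ↥(S : Subgroup G) := fun e => hwA ((mem_cen hwP.1).2 e)
        refine no_line h.toCtx.shape hwC (y := ⟨q, q.2.1⟩) (fun e => hqA ((mem_cen q.2.1).2 e))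
          (sqc_ne_one h.toCtx.shape hwC) rfl (Subtype.ext (Subtype.ext ?_)) (Subtype.ext (Subtype.ext ?_))
        · show (q : G) * q = w * w
          rw [hww, hout _ q.2 hqA]
        · show w * (q : G) * (w * q) = w * w
          rw [hww, hout _ (mul_mem hwP q.2) hprod]
  -- it is a Sylow subgroup of `C(u)`
  obtain ⟨T, hT⟩ := (hP₀.comap_subtype (K := C)).exists_le_sylow
  have hTP : (T : Subgroup C).map C.subtype = P₀ := by
    set T' := (T : Subgroup C).map C.subtype
    have hle : P₀ ≤ T' := fun p hp => ⟨⟨p, hp.2⟩, hT hp, rfl⟩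
    by_contra hne
    obtain ⟨j, hjT, hjP, hjN⟩ := Core2.exists_normalizing (T.isPGroup'.map _) (lt_of_le_of_ne hle (Ne.symm hne))
    have hjt : j * t * j⁻¹ = t := by
      have hm : j * t * j⁻¹ ∈ P₀ := (mem_normalizer_iff.1 hjN t).1 htP
      have hm2 : (j * t * j⁻¹) * (j * t * j⁻¹) = 1 := by
        rw [show j * t * j⁻¹ * (j * t * j⁻¹) = j * (t * t) * j⁻¹ by group, h.toCtx.cen_sq ht]; group
      rcases hin _ hm (h.toCtx.mem_cen_of_sq hm.1 hm2) with e | e
      · exact absurd (conj_eq_one_iff.1 e) ht1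
      · exact e
    set P := P₀ ⊔ zpowers j
    have hPT : P ≤ T' := sup_le hle (zpowers_le.2 hjT)
    obtain ⟨k, hk, hkS⟩ := h.two_subgroup_conj ht ht1 ((T.isPGroup'.map _).to_le hPT)
      (sup_le (inf_le_left.trans (Hyp.le_cent ht))
        (zpowers_le.2 (mem_centralizer_singleton_iff.2 (mul_inv_eq_iff_eq_mul.1 hjt))))
    have hku : Commute k u := h.comm t ht ht1 k hk u hu
    have hinj : Nat.card P ≤ Nat.card P₀ := by
      refine Nat.card_le_card_of_injective (fun p : P => (⟨k⁻¹ * p * k, hkS p p.2, ?_⟩ : P₀))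
        fun p q e => Subtype.ext (mul_left_cancel (mul_right_cancel (congrArg Subtype.val e)))
      refine mem_centralizer_singleton_iff.2 ?_
      have hpu : Commute (p : G) u := mem_centralizer_singleton_iff.1 (map_subtype_le _ (hPT p.2))
      exact ((hku.inv_left.mul_left hpu).mul_left hku).eq
    exact hjP (eq_of_le_of_card_ge (le_sup_left : P₀ ≤ P) hinj ▸ mem_sup_right (mem_zpowers j))
  have hTc : IsCyclic ↥(T : Subgroup C) := by
    have e : (T : Subgroup C) ≃* ↥P₀ :=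
      ((T : Subgroup C).equivMapOfInjective C.subtype C.subtype_injective).trans (MulEquiv.subgroupCongr hTP)
    exact e.isCyclic.2 hcyc
  exact ⟨T, hTc⟩

/-- The odd elements of `C(u)` form a subgroup, for `u ≠ 1` in a core. -/
theorem exists_odd_part {t u : G} (ht : t ∈ cen S) (ht1 : t ≠ 1) (hu : u ∈ core t) (hu1 : u ≠ 1) :
    ∃ M : Subgroup G, Odd (Nat.card M) ∧ M ≤ centralizer ({u} : Set G) ∧
      ∀ c ∈ centralizer ({u} : Set G), Odd (orderOf c) → c ∈ M := by
  haveI : Fact (Nat.Prime 2) := ⟨Nat.prime_two⟩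
  set C := centralizer ({u} : Set G)
  obtain ⟨T, hTc⟩ := h.exists_cyclic_sylow ht ht1 hu hu1
  obtain ⟨N, hNn, hN2, hNi⟩ := Block.cyclic_two_complement T hTc
  refine ⟨N.map C.subtype, ?_, map_subtype_le _, fun c hc hco => ⟨⟨c, hc⟩, ?_, rfl⟩⟩
  · rw [card_map_of_injective C.subtype_injective]
    exact Nat.odd_iff.2 (Nat.two_dvd_ne_zero.1 hN2)
  · obtain ⟨l, hl⟩ := IsPGroup.iff_card.1 T.isPGroup'
    have hpow : (⟨c, hc⟩ : C) ^ N.index ∈ N := N.pow_index_mem _
    rw [hNi, hl] at hpow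
    have hcop : (orderOf (⟨c, hc⟩ : C)).Coprime (2 ^ l) := by
      rw [Subgroup.orderOf_mk]
      exact (Nat.coprime_two_right.2 hco).pow_right l
    obtain ⟨m, hm⟩ := exists_pow_eq_self_of_coprime hcop.symm
    exact hm ▸ pow_mem hpow m

/-- An `r`-group normalised by `A` containing `K_t` and meeting `C(A)` trivially is `K_t`. -/
theorem eq_core [IsSimpleGroup G] (hna : ¬ IsMulCommutative G) {t : G} (ht : t ∈ cen S) (ht1 : t ≠ 1)
    {Q : Subgroup G} (hQ : IsPGroup r Q) (hKQ : core t ≤ Q)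
    (hQA : Q ⊓ centralizer (cen S : Set G) = ⊥) : Q = core t := by
  haveI := Fact.mk h.prime
  by_contra hne
  obtain ⟨j, hjQ, hjK, hjN⟩ := Core2.exists_normalizing hQ (lt_of_le_of_ne hKQ (Ne.symm hne))
  obtain ⟨k, hk, d, hd, rfl⟩ := h.toCtx.cover ht ht1 (h.normalizer_core_le hna ht ht1 hjN)
  have hdQ : d ∈ Q := by
    have := mul_mem (inv_mem (hKQ hk)) hjQ
    rwa [inv_mul_cancel_left] at this
  have hd1 : d = 1 := mem_bot.1 (hQA.le ⟨hdQ, hd⟩)
  exact hjK (by rw [hd1, mul_one]; exact hk)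

/-- Elements of `C(A)` of order prime to ten are trivial. -/
theorem eq_one_of_coprime {c : G} (hc : c ∈ centralizer (cen S : Set G)) (h10 : (orderOf c).Coprime 10) : c = 1 := by
  have ho : Odd (orderOf c) := Nat.coprime_two_right.1 (Nat.Coprime.coprime_dvd_right (by norm_num) h10)
  have hd := h.card_odd_dvd (H := zpowers c) (zpowers_le.2 hc) (by rwa [Nat.card_zpowers])
  rw [Nat.card_zpowers] at hd
  exact orderOf_eq_one_iff.1 (Nat.eq_one_of_dvd_coprimes
    (Nat.Coprime.coprime_dvd_right (by norm_num : (5 : ℕ) ∣ 10) h10) dvd_rfl hd)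

theorem coprime_ten (hr5 : r ≠ 5) : r.Coprime 10 := by
  rw [show (10 : ℕ) = 2 * 5 by norm_num]
  exact Nat.Coprime.mul_right ((Nat.coprime_primes h.prime Nat.prime_two).2 h.prime_ne_two)
    ((Nat.coprime_primes h.prime (by norm_num)).2 hr5)

/-- An `r`-group meets `C(A)` trivially when `r ≠ 5`. -/
theorem inf_cen_eq_bot (hr5 : r ≠ 5) {Q : Subgroup G} (hQ : IsPGroup r Q) :
    Q ⊓ centralizer (cen S : Set G) = ⊥ := by
  refine (eq_bot_iff_forall _).2 fun y hy => h.eq_one_of_coprime hy.2 ?_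
  obtain ⟨k, hk⟩ := hQ ⟨y, hy.1⟩
  exact Nat.Coprime.coprime_dvd_left (orderOf_dvd_of_pow_eq_one (congrArg Subtype.val hk))
    ((h.coprime_ten hr5).pow_left k)

/-- An `r`-element of `C(v)` lies in `K_v` when `r ≠ 5`. -/
theorem mem_core_of_rpow (hr5 : r ≠ 5) {v c : G} (hv : v ∈ cen S) (hv1 : v ≠ 1)
    (hc : c ∈ centralizer ({v} : Set G)) {k : ℕ} (hk : c ^ r ^ k = 1) : c ∈ core v := by
  haveI : Fact (Nat.Prime 2) := ⟨Nat.prime_two⟩
  set C := centralizer ({v} : Set G)
  haveI : ((core v).subgroupOf C).Normal := ⟨fun y hy g =>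
    mem_subgroupOf.2 (core_conj g.2 (mem_subgroupOf.1 hy))⟩
  set q := QuotientGroup.mk' ((core v).subgroupOf C)
  set cc : C := ⟨c, hc⟩
  obtain ⟨k₀, hk₀, d, hd, e⟩ := h.toCtx.cover hv hv1 hc
  have hdC : d ∈ C := centralizer_le (Set.singleton_subset_iff.2 hv) hd
  have hq : q cc = q ⟨d, hdC⟩ := by
    rw [show cc = ⟨k₀, centralizerCore_le v hk₀⟩ * ⟨d, hdC⟩ from Subtype.ext e, map_mul,
      show q ⟨k₀, centralizerCore_le v hk₀⟩ = 1 from (QuotientGroup.eq_one_iff _).2 (mem_subgroupOf.2 hk₀), one_mul]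
  -- the order of the image divides `r ^ k` and `|C(A)|`
  have h1 : orderOf (q cc) ∣ r ^ k := orderOf_dvd_of_pow_eq_one (by
    rw [← map_pow, show cc ^ r ^ k = 1 from Subtype.ext hk, map_one])
  have h2 : orderOf (q cc) ∣ 64 * 5 := by
    rw [hq]
    refine ((orderOf_map_dvd q _).trans (by rw [Subgroup.orderOf_mk])).trans ?_
    rcases h.five_or with hle | ⟨x, hx⟩
    · refine dvd_mul_of_dvd_left ?_ 5
      rw [← h.toCtx.shape.card]
      exact Subgroup.orderOf_dvd_natCard _ (hle hd)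
    · obtain ⟨s, hs, i, rfl⟩ := hx.split d hd
      have hle : zpowers x ≤ normalizer ((S : Subgroup G) : Set G) :=
        zpowers_le.2 (h.toCtx.centralizer_cen_le hx.mem)
      refine (Subgroup.orderOf_dvd_natCard ((S : Subgroup G) ⊔ zpowers x)
        (mul_mem (mem_sup_left hs) (mem_sup_right (pow_mem (mem_zpowers x) i)))).trans ?_
      rw [sup_comm]
      refine (Grp.card_sup_dvd_mul hle).trans ?_
      rw [Nat.card_zpowers, hx.order, h.toCtx.shape.card, mul_comm]
  have h3 : q cc = 1 := orderOf_eq_one_iff.1 (Nat.eq_one_of_dvd_coprimes (by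
    have := (h.coprime_ten hr5).pow_left k
    have e2 : (r ^ k).Coprime 2 := this.coprime_dvd_right (by norm_num)
    have e5 : (r ^ k).Coprime 5 := this.coprime_dvd_right (by norm_num)
    rw [show (64 : ℕ) = 2 ^ 6 by norm_num]
    exact (e2.pow_right 6).mul_right e5) h1 h2)
  exact mem_subgroupOf.1 ((QuotientGroup.eq_one_iff _).1 h3)

/-- Elements of different cores do not commute. -/
theorem no_commute [IsSimpleGroup G] (hna : ¬ IsMulCommutative G) (hr5 : r ≠ 5) {t a u v : G}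
    (ht : t ∈ cen S) (ht1 : t ≠ 1) (ha : a ∈ cen S) (ha1 : a ≠ 1) (hat : a ≠ t)
    (hu : u ∈ core t) (hu1 : u ≠ 1) (hv : v ∈ core a) (hv1 : v ≠ 1) : ¬ Commute u v := by
  intro huv
  haveI : Fact (Nat.Prime 2) := ⟨Nat.prime_two⟩
  haveI := Fact.mk h.prime
  obtain ⟨M, hMo, hMC, hMmem⟩ := h.exists_odd_part ht ht1 hu hu1
  -- `A` normalises `M`
  have hinv : ∀ w ∈ cen S, w * u * w⁻¹ = u ∨ w * u * w⁻¹ = u⁻¹ := fun w hw => by
    by_cases hw1 : w = 1
    · subst hw1; exact Or.inl (by group)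
    by_cases hwt : w = t
    · subst hwt; exact Or.inl (by rw [← (h.core_commute hu).eq, mul_inv_cancel_right])
    exact Or.inr (h.inverted ht hw ht1 hw1 hwt hu)
  have hAC : ∀ w ∈ cen S, ∀ c ∈ centralizer ({u} : Set G), w * c * w⁻¹ ∈ centralizer ({u} : Set G) := by
    intro w hw c hc
    refine mem_centralizer_singleton_iff.2 ?_
    have hcu : Commute c u := mem_centralizer_singleton_iff.1 hc
    rcases hinv w hw with e | e
    · simpa [e] using (hcu.map (MulAut.conj w).toMonoidHom).eq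
    · have := (hcu.inv_right.map (MulAut.conj w).toMonoidHom).eq
      simpa [show w * u⁻¹ * w⁻¹ = u by rw [show w * u⁻¹ * w⁻¹ = (w * u * w⁻¹)⁻¹ by group, e, inv_inv]] using this
  have hM : ∀ w ∈ cen S, ∀ c ∈ M, w * c * w⁻¹ ∈ M := fun w hw c hc => hMmem _ (hAC w hw c (hMC hc)) (by
    rw [Invol.orderOf_conj_eq]; exact hMo.of_dvd_nat (Subgroup.orderOf_dvd_natCard _ hc))
  have hAM : cen S ≤ normalizer (M : Set G) := fun w hw => mem_normalizer_iff.2 fun c => ⟨hM w hw c, fun hc => by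
    simpa [mul_assoc] using hM w⁻¹ (inv_mem hw) _ hc⟩
  have hcop : (Nat.card (cen S)).Coprime (Nat.card M) := by
    rw [h.toCtx.card_cen, show (4 : ℕ) = 2 ^ 2 by norm_num]
    exact Nat.Coprime.pow_left 2 (Nat.coprime_two_left.2 hMo)
  have hsolv : Group.IsSolvable ↥(cen S) ∨ Group.IsSolvable M := by
    haveI : Group.IsNilpotent ↥(cen S) := (S.2.to_le cen_le).isNilpotent
    exact Or.inl inferInstance
  have hKM : core t ≤ M := fun k hk => hMmem k (mem_centralizer_singleton_iff.2 (h.comm t ht ht1 k hk u hu))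
    ((centralizerCore_odd t).of_dvd_nat (Subgroup.orderOf_dvd_natCard _ hk))
  obtain ⟨Q, hQ, hQA, hKQ⟩ := Grp.exists_invariant_sylow_ge (cen S) M hAM hcop hsolv hKM (h.isPGroup_core ht ht1)
    ((cen_le (S := S)).trans (h.toCtx.S_le_normalizer_core ht))
  have eQ := h.eq_core hna ht ht1 hQ.2.1 hKQ (h.inf_cen_eq_bot hr5 hQ.2.1)
  have hvM : v ∈ M := hMmem v (mem_centralizer_singleton_iff.2 huv.symm.eq)
    ((centralizerCore_odd a).of_dvd_nat (Subgroup.orderOf_dvd_natCard _ hv))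
  have hvA : cen S ≤ normalizer (zpowers v : Set G) := fun w hw => by
    have hgen : ∀ w ∈ cen S, ∀ y ∈ zpowers v, w * y * w⁻¹ ∈ zpowers v := by
      rintro w hw _ ⟨i, rfl⟩
      have e : w * v * w⁻¹ = v ∨ w * v * w⁻¹ = v⁻¹ := by
        by_cases hw1 : w = 1
        · subst hw1; exact Or.inl (by group)
        by_cases hwa : w = a
        · subst hwa; exact Or.inl (by rw [← (h.core_commute hv).eq, mul_inv_cancel_right])
        exact Or.inr (h.inverted ha hw ha1 hw1 hwa hv)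
      simp only
      rw [← conj_zpow]
      rcases e with e | e <;> rw [e]
      · exact zpow_mem (mem_zpowers v) i
      · exact zpow_mem (inv_mem (mem_zpowers v)) i
    exact mem_normalizer_iff.2 fun y => ⟨hgen w hw y, fun hy => by
      simpa [mul_assoc] using hgen w⁻¹ (inv_mem hw) _ hy⟩
  obtain ⟨Q', hQ', hQ'A, hvQ'⟩ := Grp.exists_invariant_sylow_ge (cen S) M hAM hcop hsolv (zpowers_le.2 hvM)
    ((h.isPGroup_core ha ha1).to_le (zpowers_le.2 hv)) hvA
  obtain ⟨c, ⟨-, hcA⟩, hc⟩ := Grp.invariant_sylow_conj (cen S) M hAM hcop hsolv hQ hQ' hQA hQ'A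
  have : Q' = core t := by
    rw [← hc, eQ, Grp.normalizer_le_smul le_rfl
      (centralizer_le_normalizer_core t (centralizer_le (Set.singleton_subset_iff.2 ht) hcA))]
  exact hv1 (h.core_disjoint ht ha ht1 ha1 hat (this ▸ hvQ' (mem_zpowers v)) hv)

end Ab

end Cfsg.Agent.Invol.G1Local
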