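import Cfsg.Agent.Lib.Invol.G1Local.Act
import Cfsg.Agent.Lib.Transfer.UnitaryCore.Main
import Cfsg.Agent.Lib.Transfer.UnitaryCore.PrimeExponent

/-!
# The character lemmas applied to a core; solvability of `C(t)`
-/

set_option autoImplicit false
set_option linter.unusedSectionVars false
set_option linter.style.haveILetI false

open Subgroup
open scoped IsMulCommutative

namespace Cfsg.Agent.Invol.G1Local

open Transfer.UnitaryFour CentRank

universe u

variable {G : Type u} [Group G] [Finite G] {S : Sylow 2 G}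

namespace Ab

variable {r : ℕ} (h : Ab S r)
include h

theorem sup_le_centralizer {x : G} (hx : Five S x) {t : G} (ht : t ∈ cen S) :
    (S : Subgroup G) ⊔ zpowers x ≤ centralizer ({t} : Set G) :=
  sup_le (Hyp.le_cent ht) (zpowers_le.2 (centralizer_le (Set.singleton_subset_iff.2 ht) hx.mem))

theorem part_core {x : G} (hx : Five S x) {t : G} (ht : t ∈ cen S) (ht1 : t ≠ 1) :
    Transfer.UnitaryCore.Part S t x (core t) (core t) := by
  obtain ⟨a, ha, ha1, hat⟩ := h.toCtx.exists_other ht
  exact ⟨le_rfl, h.comm t ht ht1, fun c hc y hy => core_conj (h.sup_le_centralizer hx ht hc) hy,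
    a, ha, fun y hy => h.inverted ht ha ht1 ha1 hat hy⟩

theorem data {x : G} (hx : Five S x) {t : G} (ht : t ∈ cen S) (ht1 : t ≠ 1) {M : Subgroup G}
    (E : Transfer.UnitaryCore.Part S t x (core t) M) (hfree : ∀ y ∈ M, x * y = y * x → y = 1) :
    Transfer.UnitaryCore.Data S t x (core t) M where
  shape := h.toCtx.shape
  hz := ht
  hz1 := ht1
  fused := fun v hv hv1 => h.toCtx.exists_conj h.moving ht ht1 hv hv1
  hx := h.toCtx.centralizer_cen_le hx.mem
  ox := ⟨1, by rw [hx.order, pow_one]⟩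
  x5 := by rw [← hx.order, pow_orderOf_eq_one]; exact one_mem _
  xcen := fun v hv => (mem_centralizer_iff.1 hx.mem v hv).symm
  fpf := hx.fpf
  K_le := centralizerCore_le t
  K_odd := centralizerCore_odd t
  K_norm := fun c hc k hk => core_conj hc hk
  cover := fun c hc => by
    obtain ⟨k, hk, d, hd, rfl⟩ := h.toCtx.cover ht ht1 hc
    obtain ⟨s, hs, i, rfl⟩ := hx.split d hd
    exact ⟨k, hk, _, mul_mem (mem_sup_left hs) (mem_sup_right (pow_mem (mem_zpowers x) i)), rfl⟩
  M_le := E.le
  M_comm := E.comm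
  M_norm := E.norm
  inverted := E.inverted
  x_free := hfree

/-- `x` fixes something in the core. -/
theorem exists_fixed [IsSimpleGroup G] {x : G} (hx : Five S x) {t : G} (ht : t ∈ cen S) (ht1 : t ≠ 1) :
    ∃ y ∈ core t, y ≠ 1 ∧ Commute x y := by
  by_contra hno
  push Not at hno
  exact h.ne t ht ht1 (h.data hx ht ht1 (h.part_core hx ht ht1)
    fun y hy hc => by_contra fun hy1 => hno y hy hy1 hc).eq_bot

/-- The exponent is not `1` modulo five. -/
theorem mod_five_ne_one [IsSimpleGroup G] {x : G} (hx : Five S x) : r % 5 ≠ 1 := by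
  intro hr
  obtain ⟨t, ht, ht1, -⟩ := h.toCtx.exists_other (one_mem (cen S))
  obtain ⟨a, ha, ha1, hat⟩ := h.toCtx.exists_other ht
  have E : Transfer.UnitaryCore.Part S t x (core t) ⊥ := ⟨bot_le, fun y hy z hz => by
    rw [mem_bot.1 hy, mem_bot.1 hz], fun c _ y hy => by rw [mem_bot.1 hy]; simp,
    a, ha, fun y hy => by rw [mem_bot.1 hy]; simp⟩
  exact h.ne t ht ht1 ((h.data hx ht ht1 E fun y hy _ => mem_bot.1 hy).eq_bot_of_prime
    (h.part_core hx ht ht1) h.prime hr (h.exp t ht ht1))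

theorem card_cent_cen_dvd {x : G} (hx : Five S x) :
    Nat.card ↥(centralizer (cen S : Set G)) ∣ 5 * 64 := by
  have hle : centralizer (cen S : Set G) ≤ zpowers x ⊔ (S : Subgroup G) := fun c hc => by
    obtain ⟨s, hs, i, rfl⟩ := hx.split c hc
    exact mul_mem (mem_sup_right hs) (mem_sup_left (pow_mem (mem_zpowers x) i))
  refine (card_dvd_of_le hle).trans ((Grp.card_sup_dvd_mul
    (zpowers_le.2 (h.toCtx.centralizer_cen_le hx.mem))).trans ?_)
  rw [Nat.card_zpowers, hx.order, h.toCtx.shape.card]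

/-- `C(t)` is solvable. -/
theorem solvable_centralizer {t : G} (ht : t ∈ cen S) (ht1 : t ≠ 1) :
    Group.IsSolvable ↥(centralizer ({t} : Set G)) := by
  haveI : Fact (Nat.Prime 2) := ⟨Nat.prime_two⟩
  set C := centralizer ({t} : Set G)
  set A' := centralizer (cen S : Set G)
  haveI := h.isMulCommutative_core ht ht1
  haveI hA : Group.IsSolvable A' := by
    set N := (S : Subgroup G).subgroupOf A'
    haveI : N.Normal := ⟨fun s hs c =>
      mem_subgroupOf.2 ((mem_normalizer_iff.1 (h.toCtx.centralizer_cen_le c.2) _).1 (mem_subgroupOf.1 hs))⟩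
    haveI : Group.IsNilpotent ↥(S : Subgroup G) := S.isPGroup'.isNilpotent
    haveI : Group.IsSolvable N := solvable_of_solvable_injective
      (f := (subgroupOfEquivOfLe h.toCtx.S_le_centralizer_cen).toMonoidHom) (MulEquiv.injective _)
    refine (Group.isSolvable_iff_subgroup_quotient N).2 ⟨inferInstance, ?_⟩
    rcases h.five_or with hle | ⟨x, hx⟩
    · haveI : Subsingleton (A' ⧸ N) := QuotientGroup.subsingleton_iff.2
        (subgroupOf_eq_top.2 hle)
      infer_instance
    · refine Group.isSolvable_of_comm fun a b => ?_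
      have hgen : ∀ q : A' ⧸ N, ∃ i : ℕ, q = (QuotientGroup.mk' N ⟨x, hx.mem⟩) ^ i := fun q => by
        obtain ⟨c, rfl⟩ := QuotientGroup.mk'_surjective N q
        obtain ⟨s, hs, i, e⟩ := hx.split c c.2
        refine ⟨i, ?_⟩
        rw [← map_pow, show c = (⟨s, h.toCtx.S_le_centralizer_cen hs⟩ : A') * ⟨x, hx.mem⟩ ^ i from Subtype.ext e,
          map_mul, show QuotientGroup.mk' N ⟨s, h.toCtx.S_le_centralizer_cen hs⟩ = 1 from
            (QuotientGroup.eq_one_iff _).2 (mem_subgroupOf.2 hs), one_mul]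
      obtain ⟨i, rfl⟩ := hgen a
      obtain ⟨j, rfl⟩ := hgen b
      rw [← pow_add, ← pow_add, add_comm]
  set Kc := (core t).subgroupOf C
  haveI : Kc.Normal := ⟨fun y hy g => mem_subgroupOf.2 (core_conj g.2 (mem_subgroupOf.1 hy))⟩
  haveI : Group.IsSolvable Kc := Group.isSolvable_of_comm fun a b => Subtype.ext (Subtype.ext
    (h.comm t ht ht1 _ (mem_subgroupOf.1 a.2) _ (mem_subgroupOf.1 b.2)))
  refine (Group.isSolvable_iff_subgroup_quotient Kc).2 ⟨inferInstance, ?_⟩
  refine solvable_of_surjective (f := (QuotientGroup.mk' Kc).comp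
    (Subgroup.inclusion (centralizer_le (Set.singleton_subset_iff.2 ht)))) fun q => ?_
  obtain ⟨c, rfl⟩ := QuotientGroup.mk'_surjective Kc q
  obtain ⟨k, hk, d, hd, e⟩ := h.toCtx.cover ht ht1 c.2
  refine ⟨⟨d, hd⟩, ?_⟩
  rw [show c = (⟨k, centralizerCore_le t hk⟩ : C) * ⟨d, centralizer_le (Set.singleton_subset_iff.2 ht) hd⟩ from
    Subtype.ext e, map_mul, show QuotientGroup.mk' Kc ⟨k, centralizerCore_le t hk⟩ = 1 from
    (QuotientGroup.eq_one_iff _).2 (mem_subgroupOf.2 hk), one_mul]
  rfl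

end Ab

end Cfsg.Agent.Invol.G1Local
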