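import Cfsg.Agent.Lib.Invol.G1Local.NeFive
import Cfsg.Agent.Lib.Invol.G1Local.EqFive
import Cfsg.Agent.Lib.Invol.G1Local.Linear
import Cfsg.Agent.Lib.Transfer.UnitaryFour.Exclude

/-!
# The simple step: in a simple group the cores lie in `O(C A)`
-/

set_option autoImplicit false
set_option linter.unusedSectionVars false
set_option linter.style.haveILetI false

open Subgroup

namespace Cfsg.Agent.Invol.G1Local

open Transfer.UnitaryFour CentRank

universe u

variable {G : Type u} [Group G] [Finite G] {S : Sylow 2 G}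

namespace Ctx

variable (h : Ctx S)
include h

theorem core_le_dcore_of_le {v : G} (hv : v ∈ cen S)
    (hle : centralizer ({v} : Set G) ≤ normalizer ((S : Subgroup G) : Set G)) : core v ≤ dcore S := by
  haveI : Fact (Nat.Prime 2) := ⟨Nat.prime_two⟩
  intro y hy
  exact h.mem_dcore (mem_centralizer_iff.2 fun s hs => centralizes_of_normalizer (centralizerCore_odd v)
      (h.S_le_normalizer_core hv) ((centralizerCore_le v).trans hle) hy hs)
    ((centralizerCore_odd v).of_dvd_nat (Subgroup.orderOf_dvd_natCard _ hy))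

theorem core_le_dcore_of_se [IsSimpleGroup G] (hna : ¬ IsMulCommutative G) {X : Subgroup G}
    (hsp : Cfsg.IsStronglyPEmbedded 2 X) {v : G} (hv : v ∈ cen S) (hv1 : v ≠ 1) : core v ≤ dcore S := by
  haveI : Fact (Nat.Prime 2) := ⟨Nat.prime_two⟩
  obtain ⟨-, P, hP⟩ := CoreConsumers.s1792_of hna X hsp (S2798.result _ hsp)
  obtain ⟨g, hg⟩ := MulAction.exists_smul_eq G S P
  obtain ⟨-, -, hodd⟩ := isStronglyPEmbedded_iff.1 hsp
  have hvX : g * v * g⁻¹ ∈ X := by
    rw [hP]
    refine le_normalizer ?_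
    rw [← hg, mem_smul_sylow]
    simpa [mul_assoc] using cen_le hv
  refine h.core_le_dcore_of_le hv fun y hy => ?_
  have hy' : g * y * g⁻¹ ∈ X := by
    by_contra hc
    have hcm : Commute (g * y * g⁻¹) (g * v * g⁻¹) := by
      simpa using (show Commute y v from mem_centralizer_singleton_iff.1 hy).map (MulAut.conj g).toMonoidHom
    have hmem : g * v * g⁻¹ ∈ X.map (MulAut.conj (g * y * g⁻¹)).toMonoidHom :=
      ⟨g * v * g⁻¹, hvX, by
        show g * y * g⁻¹ * (g * v * g⁻¹) * (g * y * g⁻¹)⁻¹ = g * v * g⁻¹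
        rw [hcm.eq, mul_inv_cancel_right]⟩
    have ho : orderOf (g * v * g⁻¹) = 2 := by rw [Invol.orderOf_conj_eq, h.orderOf_cen hv hv1]
    exact hodd _ hc (ho ▸ Subgroup.orderOf_dvd_natCard _ (mem_inf.2 ⟨hvX, hmem⟩))
  rw [hP, ← hg] at hy'
  refine mem_normalizer_iff.2 fun s => ?_
  have e := mem_normalizer_iff.1 hy' (g * s * g⁻¹)
  rw [mem_smul_sylow, mem_smul_sylow, show g⁻¹ * (g * s * g⁻¹) * g = s by group,
    show g⁻¹ * (g * y * g⁻¹ * (g * s * g⁻¹) * (g * y * g⁻¹)⁻¹) * g = y * s * y⁻¹ by group] at e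
  exact e

end Ctx

/-- The simple step. -/
theorem core_le_dcore_of_simple [IsSimpleGroup G] (hCL : CoreLinear.{u}) (hna : ¬ IsMulCommutative G)
    (hS : Ctx S)
    (hloc : dcore S = ⊥ → ∀ X : Subgroup G, (S : Subgroup G) ≤ X → X ≠ ⊤ → ∀ W : Subgroup G, Odd (Nat.card W) →
      W ≤ X → (S : Subgroup G) ≤ normalizer (W : Set G) → W ≤ (Cfsg.pPrimeCore 2 X).map X.subtype)
    {t : G} (ht : t ∈ cen S) (ht1 : t ≠ 1) : core t ≤ dcore S := by
  haveI : Fact (Nat.Prime 2) := ⟨Nat.prime_two⟩
  rcases hCL G hna S hS with ⟨X, hX⟩ | hlin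
  · exact hS.core_le_dcore_of_se hna hX ht ht1
  have hm := hS.moving_of_simple hna
  by_cases hD : dcore S = ⊥
  swap
  · -- `O(C A)` is normal in all these centralisers and in `N(S)`
    refine hS.core_le_of_normalized hna dcore_odd hD ?_ ?_ ht ht1
    · intro n hn
      refine Grp.mem_normalizer_of_map_eq.2 (eq_of_le_of_card_ge ?_
        (card_map_of_injective (MulAut.conj n).injective).ge)
      have hC : ∀ y, y ∈ centralizer (cen S : Set G) → ∀ m ∈ normalizer ((S : Subgroup G) : Set G),
          m * y * m⁻¹ ∈ centralizer (cen S : Set G) := fun y hy m hm => mem_centralizer_iff.2 fun v hv => by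
        have hv' := Hyp.cen_normal (inv_mem hm) hv
        rw [inv_inv] at hv'
        calc v * (m * y * m⁻¹) = m * (m⁻¹ * v * m * y) * m⁻¹ := by group
          _ = m * (y * (m⁻¹ * v * m)) * m⁻¹ := by rw [mem_centralizer_iff.1 hy _ hv']
          _ = m * y * m⁻¹ * v := by group
      refine le_dcore ?_ ?_ (by rw [card_map_of_injective (MulAut.conj n).injective]; exact dcore_odd)
      · rintro _ ⟨y, hy, rfl⟩
        exact hC y (dcore_le hy) n hn
      · intro c hc y hy
        rw [Invol.mem_map_conj] at hy ⊢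
        have hc' : n⁻¹ * c * n ∈ centralizer (cen S : Set G) := by
          simpa using hC c hc n⁻¹ (inv_mem hn)
        have := dcore_conj hc' hy
        simpa [mul_assoc] using this
    · intro v hv hv1 c hc
      obtain ⟨k, hk, d, hd, rfl⟩ := hS.cover hv hv1 hc
      refine mul_mem (centralizer_le_normalizer _ ?_) ?_
      · exact mem_centralizer_iff.2 fun y hy => (hlin v hv hv1).1 y (hS.dcore_le_core hv hv1 hy) k hk
      · exact mem_normalizer_iff.2 fun y => ⟨dcore_conj hd, fun hy => by
          simpa [mul_assoc] using dcore_conj (inv_mem hd) hy⟩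
  by_contra hne
  obtain ⟨y₀, hy₀, hy₀D⟩ := SetLike.not_le_iff_exists.1 hne
  have hy₀1 : y₀ ≠ 1 := fun e => hy₀D (e ▸ one_mem _)
  obtain ⟨r, hr, hexp⟩ := (hlin t ht ht1).2
  have hmove : ∀ v ∈ cen S, v ≠ 1 → ∃ n : G, (core t).map (MulAut.conj n).toMonoidHom = core v := fun v hv hv1 => by
    obtain ⟨n, -, hn⟩ := hS.exists_conj hm ht ht1 hv hv1
    exact ⟨n, (core_map (t := t) (n := n)).trans (by rw [hn])⟩
  have hAb : Ab S r := {
    toCtx := hS
    prime := hr
    dbot := hD
    comm := fun v hv hv1 => (hlin v hv hv1).1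
    exp := fun v hv hv1 y hy => by
      obtain ⟨n, hn⟩ := hmove v hv hv1
      rw [← hn] at hy
      obtain ⟨z, hz, rfl⟩ := hy
      rw [← map_pow, hexp z hz, map_one]
    ne := fun v hv hv1 e => by
      obtain ⟨n, hn⟩ := hmove v hv hv1
      rw [e, map_eq_bot_iff_of_injective _ (MulAut.conj n).injective] at hn
      exact hy₀1 (mem_bot.1 (hn ▸ hy₀))
    moving := hm
    loc := hloc hD }
  rcases hAb.five_or with hle | ⟨x, hx⟩
  · -- every centraliser of an involution is 2-nilpotent
    refine Transfer.UnitaryFour.Hyp.false (S := S) ⟨hS.shape, ?_, fun u hu => ?_⟩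
    · rcases (inferInstance : (commutator G).Normal).eq_bot_or_eq_top with e | e
      · exact absurd ((commutator_eq_bot_iff (G := G)).1 e) hna
      · exact e
    · obtain ⟨g, hg⟩ := Invol.exists_conj_mem_sylow (x := u) (n := 1) (by rw [hu, pow_one]) S
      have hw : g * u * g⁻¹ ∈ cen S := hS.invol_mem hg (by rw [Invol.orderOf_conj_eq, hu])
      have hw1 : g * u * g⁻¹ ≠ 1 := fun e => by
        rw [conj_eq_one_iff.1 e, orderOf_one] at hu
        omega
      set w := g * u * g⁻¹ with hwdef
      set C := centralizer ({u} : Set G)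
      have hgC : ∀ y, y ∈ C ↔ g * y * g⁻¹ ∈ centralizer ({w} : Set G) := fun y => by
        rw [mem_centralizer_singleton_iff, mem_centralizer_singleton_iff, hwdef]
        exact ⟨fun e => by
            calc g * y * g⁻¹ * (g * u * g⁻¹) = g * (y * u) * g⁻¹ := by group
              _ = g * (u * y) * g⁻¹ := by rw [e]
              _ = _ := by group,
          fun e => by
            calc y * u = g⁻¹ * (g * y * g⁻¹ * (g * u * g⁻¹)) * g := by group
              _ = g⁻¹ * (g * u * g⁻¹ * (g * y * g⁻¹)) * g := by rw [e]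
              _ = u * y := by group⟩
      set N := (core w).map (MulAut.conj g⁻¹).toMonoidHom with hN
      have hNC : N ≤ C := by
        rintro _ ⟨y, hy, rfl⟩
        rw [hgC]
        simpa [mul_assoc] using centralizerCore_le w hy
      have hmemN : ∀ y, y ∈ N ↔ g * y * g⁻¹ ∈ core w := fun y => by rw [hN, Invol.mem_map_conj, inv_inv]
      have hgS : ((g⁻¹ • S : Sylow 2 G) : Subgroup G) ≤ C := fun y hy => by
        rw [mem_smul_sylow, inv_inv] at hy
        exact (hgC y).2 (Hyp.le_cent hw hy)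
      refine ⟨(g⁻¹ • S).subtype hgS, N.subgroupOf C, ⟨fun y hy c => ?_⟩, ?_⟩
      · rw [mem_subgroupOf, hmemN] at hy ⊢
        have := core_conj ((hgC c).1 c.2) hy
        simpa [mul_assoc] using this
      · refine Subgroup.isComplement'_of_disjoint_and_mul_eq_univ (disjoint_iff.2 ?_) ?_
        · refine (eq_bot_iff_forall _).2 fun y hy => ?_
          obtain ⟨hy1, hy2⟩ := hy
          have h1 := (hmemN _).1 (mem_subgroupOf.1 hy1)
          have h2 : (y : G) ∈ ((g⁻¹ • S : Sylow 2 G) : Subgroup G) := hy2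
          rw [mem_smul_sylow, inv_inv] at h2
          have h3 := eq_one_of_odd h2 ((centralizerCore_odd w).of_dvd_nat (Subgroup.orderOf_dvd_natCard _ h1))
          exact Subtype.ext (conj_eq_one_iff.1 h3)
        · refine Set.eq_univ_of_forall fun c => ?_
          obtain ⟨k, hk, d, hd, e⟩ := hS.cover hw hw1 ((hgC c).1 c.2)
          have hkN : g⁻¹ * k * g ∈ N := (hmemN _).2 (by simpa [mul_assoc] using hk)
          have hdS : g⁻¹ * d * g ∈ ((g⁻¹ • S : Sylow 2 G) : Subgroup G) := by
            rw [mem_smul_sylow, inv_inv]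
            simpa [mul_assoc] using hle hd
          refine ⟨⟨_, hNC hkN⟩, mem_subgroupOf.2 hkN, ⟨_, hgS hdS⟩, hdS, Subtype.ext ?_⟩
          show g⁻¹ * k * g * (g⁻¹ * d * g) = c
          rw [show g⁻¹ * k * g * (g⁻¹ * d * g) = g⁻¹ * (k * d) * g by group, ← e]
          group
  · by_cases hr5 : r = 5
    · exact hAb.false_of_five hna hr5 hx
    · exact hAb.false_of_ne_five hna hr5 hx

end Cfsg.Agent.Invol.G1Local
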